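import Cfsg.Agent.Lib.Lie.CentralRewrite.Main
import Cfsg.Agent.Lib.Lie.ConwayTwoOut.Main

/-!
Generators of subgroups of the second Conway group as words in the strong generators, and the checks of their
relations on the base.
-/

set_option autoImplicit false
set_option maxRecDepth 100000

namespace Cfsg.Agent.Lie.ConwayTwoMult

open ConwayTwoOut OutTables PermTable CentralRewrite

/-- The word of a word in the generators. -/
def expand (W : List (List ℕ)) (w : List ℕ) : List ℕ := (w.map fun j => W.getD j []).flatten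

/-- The letters of the words are strong generators. -/
noncomputable def lettersOK (W : List (List ℕ)) : Bool := W.all fun w => w.all fun x => Nat.blt x data.ns

/-- The two sides of a relation agree on the base. -/
noncomputable def relOK (W : List (List ℕ)) (u : Rule) : Bool :=
  (data.chX.map Lvl.b).all fun b =>
    Nat.beq (evw data.S (expand W u.1) b) (evw data.S (expand W u.2) b)

/-- A generator as a permutation. -/
noncomputable def genTab (W : List (List ℕ)) (j k : ℕ) : ℕ := evw data.S (W.getD j []) k

theorem getD_letters {W : List (List ℕ)} (hW : lettersOK W = true) (j : ℕ) : ∀ x ∈ W.getD j [], x < data.ns := by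
  simp only [lettersOK, List.all_eq_true, Nat.blt_eq] at hW
  intro x hx
  by_cases hj : j < W.length
  · rw [List.getD_eq_getElem _ _ hj] at hx
    exact hW _ (List.getElem_mem hj) x hx
  · rw [List.getD_eq_default _ _ (not_lt.1 hj)] at hx
    exact absurd hx List.not_mem_nil

theorem exists_gens {W : List (List ℕ)} (hW : lettersOK W = true) :
    ∃ g : ℕ → ↥permGroup, ∀ j, Rep act (g j) (genTab W j) := by
  choose g _ hg using fun j => word_rep strong_mem (W.getD j []) (getD_letters hW j)
  exact ⟨g, hg⟩

theorem lval_rep {W : List (List ℕ)} {g : ℕ → ↥permGroup} (hg : ∀ j, Rep act (g j) (genTab W j)) :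
    ∀ w, Rep act (lval g w) (evw data.S (expand W w))
  | [] => fun k => by simp [lval, expand, evw]
  | j :: w => fun k => by
    rw [lval_cons, show expand W (j :: w) = W.getD j [] ++ expand W w from rfl, evw_append]
    exact ((hg j).mul (lval_rep hg w)) k

theorem eq_of_base {u v : ↥permGroup} {f f' : ℕ → ℕ} (hu : Rep act u f) (hv : Rep act v f')
    (h : ∀ b ∈ data.chX.map Lvl.b, f b = f' b) : u = v := by
  have hc := chain_le strong_mem data.chX [] chainX_ok
  rw [fixes_nil, Set.ncard_univ, size_facts.1.1, card_permGroup] at hc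
  have h1 : (fixes act ([] ++ data.chX.map Lvl.b)).ncard ≤ 1 :=
    Nat.le_of_mul_le_mul_left (hc.trans (Nat.mul_one _).ge) (by norm_num)
  have hm : v⁻¹ * u ∈ fixes act ([] ++ data.chX.map Lvl.b) := by
    intro k hk
    have e : act u k = act v k := Fin.ext (by rw [hu, hv]; exact h k hk)
    rw [map_mul, Equiv.Perm.mul_apply, e, map_inv]
    exact Equiv.Perm.inv_eq_iff_eq.2 rfl
  have := (Set.ncard_le_one (Set.toFinite _)).1 h1 _ hm 1 fun k _ => by rw [map_one]; rfl
  exact (inv_mul_eq_one.1 this).symm

theorem rel_true {W : List (List ℕ)} {g : ℕ → ↥permGroup} (hg : ∀ j, Rep act (g j) (genTab W j)) {u : Rule}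
    (h : relOK W u = true) : lval g u.1 = lval g u.2 := by
  simp only [relOK, List.all_eq_true, Nat.beq_eq] at h
  exact eq_of_base (lval_rep hg u.1) (lval_rep hg u.2) h

theorem card_lower {W : List (List ℕ)} {g : ℕ → ↥permGroup} (hg : ∀ j, Rep act (g j) (genTab W j)) {n : ℕ}
    {ch : List Lvl} (h : chainOK (genTab W) data.N n ch [] = true) :
    chainSize ch ≤ Nat.card (Subgroup.closure (g '' Set.Ico 0 n)) := by
  set K := Subgroup.closure (g '' Set.Ico 0 n)
  have hS : ∀ x < n, ∃ u ∈ (⊤ : Subgroup K), Rep (act.comp K.subtype) u (genTab W x) := fun x hx =>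
    ⟨⟨g x, Subgroup.subset_closure ⟨x, ⟨Nat.zero_le x, hx⟩, rfl⟩⟩, Subgroup.mem_top _, fun k => hg x k⟩
  have hc := chain_le hS ch [] h
  rw [fixes_nil, Set.ncard_univ] at hc
  exact (Nat.le_mul_of_pos_right _ (one_le_fixes _)).trans hc

theorem no_kernel {C : Cert} (hC : C.Valid) (hp : C.p.Prime) {W : List (List ℕ)} (hW : lettersOK W = true)
    (hrel : C.rels.all (relOK W) = true) {ch : List Lvl} (hch : chainOK (genTab W) data.N C.n ch [] = true)
    (hsize : C.p ^ C.n ≤ chainSize ch) (hidx : ¬ C.p ∣ 42305421312000 / C.p ^ C.n)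
    {Δ : Type*} [Group Δ] [Finite Δ] {τ : Δ →* CG} (hτ : Cfsg.IsStemExtension τ)
    (hcard : Nat.card τ.ker = C.p) : False := by
  obtain ⟨g, hg⟩ := exists_gens hW
  obtain ⟨hs, hc, hd⟩ := hτ
  have hker : (topIso.symm.toMonoidHom.comp τ).ker = τ.ker := by ext y; simp [MonoidHom.mem_ker]
  refine no_prime hC hp (topIso.symm.toMonoidHom.comp τ) (topIso.symm.surjective.comp hs) (hker ▸ hc) (hker ▸ hd)
    (hker ▸ hcard) g ?_ (hsize.trans (card_lower hg hch)) ?_
  · intro u hu
    exact rel_true hg (List.all_eq_true.1 hrel u hu)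
  · rw [card_permGroup]; exact hidx

end Cfsg.Agent.Lie.ConwayTwoMult
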