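import Cfsg.Agent.Lib.Lie.ConwayTwoMult.Defs
import Cfsg.Agent.Lib.Lie.ConwayTwoMult.FiveData

/-!
The checks for the part at one prime (five) of the multiplier of the second Conway group.
-/

set_option autoImplicit false
set_option maxRecDepth 100000

namespace Cfsg.Agent.Lie.ConwayTwoMult

open ConwayTwoOut OutTables PermTable CentralRewrite

theorem five_letters : lettersOK fiveW = true := by decide +kernel

theorem five_rels : fiveCert.rels.all (relOK fiveW) = true := by decide +kernel

theorem five_chain : chainOK (genTab fiveW) data.N fiveCert.n fiveChain [] = true := by decide +kernel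

theorem five_series : seriesOK fiveCert.p fiveCert.n fiveCert.M fiveCert.rels = true := by decide +kernel

theorem five_pairs :
    (List.range fiveCert.eqs.length).all (fun i => pairOK fiveCert.rels (fiveCert.eqs.getD i ([], [], []))) = true := by
  decide +kernel

theorem five_vec : vecOK fiveCert.p fiveCert.rels.length fiveCert.eqs fiveCert.vecs = true := by decide +kernel

theorem five_kill0 : ((List.range' 0 6).all fun b =>
    killOK fiveCert.p fiveCert.rels.length fiveCert.ng fiveCert.rels fiveCert.gauge fiveCert.vecs fiveCert.combs b) = true := by
  decide +kernel

theorem five_valid : fiveCert.Valid where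
  series := five_series
  pairs := five_pairs
  vec := five_vec
  veclen := by decide +kernel
  letters := by decide +kernel
  gaugeOK := by decide +kernel
  nng := by decide +kernel
  kill := fun b hb => by
    change b < 6 at hb
    exact List.all_eq_true.1 five_kill0 b (List.mem_range'_1.2 ⟨Nat.zero_le b, by omega⟩)

end Cfsg.Agent.Lie.ConwayTwoMult
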