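import Cfsg.Agent.Lib.Lie.CentralRewrite.Main
import Cfsg.Agent.Lib.Lie.PermTable

/-!
Data for the part at the prime 3 of the multiplier of the second Conway group: a Sylow subgroup by words,
relations, pairs of derivations and combinations.
-/

set_option autoImplicit false
set_option maxRecDepth 100000

namespace Cfsg.Agent.Lie.ConwayTwoMult

open CentralRewrite PermTable

/-- part of the generators -/
def threeW0 : List (List ℕ) :=
  [[1, 8, 7, 0, 10, 10, 7, 10, 9, 20, 10, 12, 15, 22, 15, 18, 17, 18],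
    [16, 13, 1, 9, 6, 4, 10, 8, 8, 16, 12, 15, 13, 20, 18],
    [8, 1, 9, 1, 4, 12, 6, 10, 15, 12, 8, 13, 14, 16, 12, 22, 18],
    [16, 10, 6, 2, 5, 8, 5, 18, 17, 9, 12, 12, 14, 14, 13, 22],
    [11, 14, 2, 0, 15, 9, 5, 5, 18, 17, 8, 18, 12, 12, 20, 18, 16, 22],
    [11, 1, 1, 7, 10, 6, 10, 16, 10, 8, 18, 14, 13, 20, 16, 22],
    [11, 5, 7, 0, 9, 15, 5, 10, 10, 8, 17, 12, 20, 12, 18, 22, 18, 22],
    [2, 5, 7, 0, 5, 16, 4, 20, 16, 9, 10, 18, 13, 13, 22],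
    [0, 5, 6, 0, 4, 18, 6, 4, 15, 12, 9, 20, 15, 22, 15, 12, 18, 17],
    [5, 16, 2, 10, 4, 10, 4, 10, 9, 20, 12, 14, 16, 18, 22],
    [11, 5, 8, 2, 13, 7, 9, 4, 11, 8, 16, 14, 12, 14, 18, 22, 18, 22]]

/-- the generators -/
def threeW : List (List ℕ) := threeW0

/-- part of the relations -/
def threeRels0 : List Rule :=
  [([0, 0, 0], [5, 5]),
    ([1, 0], [0, 1, 3, 3, 5]),
    ([1, 1, 1], []),
    ([2, 0], [0, 2, 3, 4, 4, 5]),
    ([2, 1], [1, 2, 3, 3, 5]),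
    ([2, 2, 2], []),
    ([3, 0], [0, 3, 5]),
    ([3, 1], [1, 3, 5]),
    ([3, 2], [2, 3]),
    ([3, 3, 3], []),
    ([4, 0], [0, 4]),
    ([4, 1], [1, 4, 5, 5]),
    ([4, 2], [2, 4]),
    ([4, 3], [3, 4]),
    ([4, 4, 4], []),
    ([5, 0], [0, 5]),
    ([5, 1], [1, 5]),
    ([5, 2], [2, 5]),
    ([5, 3], [3, 5]),
    ([5, 4], [4, 5])]

/-- part of the relations -/
def threeRels1 : List Rule :=
  [([5, 5, 5], []),
    ([6, 0, 2], [3, 3, 4, 5, 6]),
    ([6, 1], [3, 4, 6]),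
    ([6, 3], [0, 0, 1, 2, 2, 3, 3, 4, 4, 5, 5, 6]),
    ([6, 4], [0, 1, 2, 3, 3, 5, 5, 6]),
    ([6, 5], [5, 6]),
    ([7, 0, 2], [0, 0, 1, 1, 2, 2, 4, 4, 5, 5, 7]),
    ([7, 1], [1, 3, 4, 4, 5, 7]),
    ([7, 3], [0, 0, 1, 2, 2, 3, 3, 5, 7]),
    ([7, 4], [0, 2, 7]),
    ([7, 5], [5, 7]),
    ([8, 0], [0, 5, 5, 8]),
    ([8, 1], [0, 1, 1, 2, 3, 3, 4, 8]),
    ([8, 2], [2, 3, 3, 4, 8]),
    ([8, 3], [3, 4, 8]),
    ([8, 4], [4, 4, 5, 8]),
    ([8, 5], [5, 8]),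
    ([9, 0], [0, 0, 2, 3, 4, 4, 5, 9]),
    ([9, 1], [1, 1, 3, 5, 9]),
    ([9, 2], [2, 3, 3, 4, 9])]

/-- part of the relations -/
def threeRels2 : List Rule :=
  [([9, 3], [3, 3, 5, 9]),
    ([9, 4], [4, 4, 5, 9]),
    ([9, 5], [5, 9]),
    ([10, 0], [1, 1, 2, 3, 4, 10]),
    ([10, 1], [0, 0, 1, 1, 2, 2, 5, 10]),
    ([10, 2], [2, 2, 4, 4, 5, 10]),
    ([10, 3], [4, 5, 5, 10]),
    ([10, 4], [3, 4, 5, 5, 10]),
    ([10, 5], [5, 10])]

/-- the relations -/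
def threeRels : List Rule := threeRels0 ++ threeRels1 ++ threeRels2

/-- part of the pairs -/
def threeEqs0 : List Pair :=
  [([0, 0, 0, 0], [(0, 0, true), (1, 15, true), (0, 15, true)], [(1, 0, true)]),
    ([4, 0, 0, 0], [(0, 10, true), (1, 10, true), (2, 10, true), (0, 0, true), (1, 19, true), (0, 19, true)], [(1, 0, true)]),
    ([5, 1, 0], [(0, 16, true), (1, 15, true), (0, 1, true)], [(1, 1, true), (0, 15, true), (1, 16, true), (2, 18, true), (3, 18, true)]),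
    ([3, 3, 3, 0], [(0, 9, true)], [(2, 6, true), (1, 6, true), (0, 6, true), (2, 18, true), (4, 18, true), (3, 18, true), (1, 9, true), (1, 20, true)]),
    ([4, 2, 0], [(0, 12, true), (1, 10, true), (0, 3, true), (5, 19, true), (3, 14, true)], [(1, 3, true), (0, 10, true), (1, 12, true), (2, 13, true), (3, 14, true)]),
    ([3, 2, 1], [(0, 8, true), (1, 7, true), (0, 4, true), (4, 18, true), (2, 9, true)], [(1, 4, true), (0, 7, true), (2, 17, true), (1, 8, true), (3, 18, true), (4, 18, true), (2, 9, true)]),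
    ([3, 1, 0], [(0, 7, true), (2, 15, true), (1, 6, true), (0, 1, true), (4, 18, true), (2, 9, true), (2, 20, true)], [(1, 1, true), (0, 6, true), (2, 16, true), (1, 7, true), (4, 18, true), (3, 18, true), (5, 18, true), (4, 18, true), (2, 9, true), (2, 20, true)]),
    ([2, 1, 1, 1], [(0, 4, true), (4, 16, true), (3, 7, true), (2, 7, true), (1, 4, true), (5, 18, true), (3, 9, true), (4, 18, true), (3, 18, true), (4, 20, true), (4, 16, true), (3, 7, true), (2, 4, true), (0, 2, true), (3, 18, true), (1, 9, true), (1, 20, true)], [(1, 2, true)]),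
    ([2, 2, 2, 0], [(0, 5, true)], [(2, 3, true), (1, 3, true), (0, 3, true), (5, 17, true), (4, 12, true), (3, 12, true), (2, 8, true), (6, 18, true), (5, 13, true), (4, 13, true), (7, 19, true), (5, 14, true), (5, 19, true), (7, 17, true), (6, 17, true), (5, 12, true), (4, 8, true), (3, 8, true), (1, 5, true), (5, 18, true), (4, 18, true), (3, 13, true), (1, 9, true), (3, 19, true), (2, 19, true), (4, 19, true), (3, 19, true), (1, 14, true), (1, 20, true)]),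
    ([2, 1, 0], [(0, 4, true), (4, 15, true), (3, 6, true), (2, 6, true), (1, 3, true), (0, 1, true), (4, 17, true), (3, 8, true), (2, 8, true), (5, 18, true), (3, 9, true), (3, 19, true), (4, 19, true), (6, 18, true), (5, 18, true), (4, 13, true), (3, 13, true), (6, 20, true), (5, 13, true), (4, 13, true)], [(1, 1, true), (0, 3, true), (5, 16, true), (4, 11, true), (3, 11, true), (2, 7, true), (1, 4, true), (5, 18, true), (3, 9, true), (4, 19, true), (3, 19, true), (4, 20, true), (4, 19, true), (5, 20, true), (5, 18, true), (4, 13, true), (3, 13, true), (6, 18, true), (5, 13, true), (4, 13, true)])]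

/-- part of the pairs -/
def threeEqs1 : List Pair :=
  [([6, 0, 2, 0, 2, 0, 2], [(0, 21, true), (4, 21, true), (8, 21, true), (3, 18, true), (2, 13, true), (0, 9, true), (1, 18, true), (0, 13, true), (2, 19, true), (4, 18, true), (3, 18, true), (2, 13, true), (1, 13, true), (5, 18, true), (4, 18, true), (3, 13, true), (2, 13, true), (0, 9, true), (3, 19, true), (2, 19, true), (0, 14, true), (0, 20, true)], [(2, 3, true), (7, 17, true), (6, 12, true), (5, 12, true), (4, 8, true), (8, 15, true), (7, 10, true), (6, 10, true), (5, 6, true), (4, 3, true), (3, 3, true), (1, 0, true), (2, 17, true), (1, 17, true), (3, 18, true), (2, 18, true), (4, 19, true), (3, 19, true), (5, 19, true), (4, 19, true), (5, 20, true), (4, 12, true), (3, 12, true), (2, 8, true), (5, 13, true), (4, 13, true), (5, 14, true), (6, 18, true), (5, 13, true), (3, 9, true), (5, 19, true), (4, 19, true), (6, 19, true), (5, 19, true), (3,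 14, true), (3, 20, true), (1, 5, true)]),
    ([6, 1, 0, 2], [(0, 22, true), (2, 21, true), (1, 13, true), (2, 13, true), (0, 9, true)], [(1, 1, true), (5, 17, true), (4, 8, true), (3, 8, true), (2, 4, false), (0, 21, true), (4, 22, true), (3, 18, true), (2, 13, true), (0, 9, true), (1, 19, true)]),
    ([6, 1, 1, 1], [(0, 22, true), (2, 22, true), (4, 22, true), (1, 13, true), (3, 13, true), (2, 13, true), (0, 9, true), (0, 14, true)], [(1, 2, true)]),
    ([6, 3, 0, 2], [(0, 23, true), (11, 21, true), (10, 18, true), (9, 18, true), (8, 13, true), (7, 13, true), (5, 9, true), (8, 18, true), (7, 18, true), (6, 13, true), (5, 13, true), (9, 19, true), (8, 19, true), (6, 14, true), (6, 20, true)], [(1, 6, true), (3, 17, true), (2, 8, true), (0, 21, true), (4, 23, true), (15, 25, true), (3, 15, true), (2, 10, true), (1, 6, true), (0, 6, true), (2, 18, true), (4, 19, true), (3, 19, true), (4, 20, true), (3,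 10, true), (2, 6, true), (1, 6, true), (3, 18, true), (5, 19, true), (4, 19, true), (6, 16, true), (5, 16, true), (4, 11, true), (3, 7, true), (2, 7, true), (4, 18, true), (6, 19, true), (5, 19, true), (6, 20, true), (6, 20, true), (5, 12, true), (4, 8, true), (3, 8, true), (6, 12, true), (5, 8, true), (4, 8, true), (7, 13, true), (5, 9, true), (5, 13, true), (6, 14, true), (6, 20, true)]),
    ([6, 4, 0, 2], [(0, 24, true), (7, 21, true), (6, 18, true), (5, 18, true), (3, 9, true), (4, 18, true), (3, 18, true), (5, 19, true), (4, 19, true), (5, 20, true)], [(1, 10, true), (2, 12, true), (0, 21, true), (4, 24, true), (3, 15, true), (2, 10, true), (1, 6, true), (0, 6, true), (2, 18, true), (4, 19, true), (3, 19, true), (4, 20, true), (3, 11, true), (2, 7, true), (1, 7, true), (3, 18, true), (5, 19, true), (4, 19, true), (5, 20, true), (5, 17, true), (4, 12, true), (3, 8, true), (2, 8, true), (6, 18, true),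 (5, 13, true), (3, 9, true), (4, 18, true), (3, 13, true), (5, 20, true)]),
    ([7, 3, 0, 2], [(0, 28, true), (8, 26, true), (7, 15, true), (6, 6, true), (5, 6, true), (4, 3, true), (3, 3, true), (2, 1, true), (0, 0, true), (1, 16, true), (0, 16, true), (2, 18, true), (1, 18, true), (3, 18, true), (2, 18, true), (3, 20, true), (2, 8, true), (1, 8, true), (2, 9, true), (4, 17, true), (3, 12, true), (2, 12, true), (5, 18, true), (4, 13, true), (3, 13, true), (6, 19, true), (4, 14, true), (4, 19, true), (6, 18, true), (5, 18, true), (4, 13, true), (6, 20, true), (5, 13, true), (3, 9, true), (5, 15, true), (4, 15, true), (3, 10, true), (2, 3, true), (1, 3, true), (0, 1, true), (4, 17, true), (3, 8, true), (2, 8, true), (5, 18, true), (3, 9, true), (3, 19, true), (4, 19, true), (6, 17, true), (5, 17, true), (4, 12, true), (3, 12, true), (7, 18, true), (6, 18, true), (5, 13, true), (4, 13, true), (8, 19, true),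 (7, 19, true), (5, 14, true), (6, 19, true), (5, 19, true), (6, 20, true), (8, 16, true), (7, 16, true), (6, 11, true), (5, 11, true), (4, 7, true), (3, 4, true), (2, 4, true), (6, 17, true), (5, 8, true), (4, 8, true), (7, 18, true), (5, 9, true), (5, 18, true), (7, 18, true), (6, 18, true), (7, 20, true), (9, 19, true), (8, 19, true), (9, 20, true), (9, 20, true), (8, 11, true), (7, 11, true), (6, 7, true), (5, 7, true), (4, 4, true), (3, 4, true), (1, 2, true), (4, 17, true), (3, 8, true), (2, 8, true), (5, 18, true), (3, 9, true), (3, 18, true), (5, 18, true), (4, 18, true), (5, 20, true), (3, 9, true), (3, 19, true), (4, 20, true), (6, 17, true), (5, 17, true), (4, 12, true), (3, 12, true), (1, 5, true), (4, 17, true), (3, 17, true), (2, 12, true), (1, 12, true), (5, 19, true), (4, 19, true), (2, 14, true), (3, 19, true), (2, 19, true), (3, 20, true)], [(1, 6, true), (3, 17, true), (2, 8, true), (0,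 26, true), (10, 28, true), (18, 30, true), (9, 15, true), (8, 15, true), (7, 10, true), (6, 10, true), (5, 3, true), (4, 3, true), (3, 1, true), (2, 1, true), (0, 0, true), (1, 16, true), (0, 16, true), (2, 18, true), (1, 18, true), (3, 18, true), (2, 18, true), (3, 20, true), (2, 7, true), (1, 7, true), (3, 18, true), (5, 18, true), (4, 18, true), (2, 9, true), (3, 18, true), (2, 18, true), (3, 20, true), (2, 8, true), (7, 17, true), (6, 12, true), (5, 12, true), (4, 8, true), (3, 8, true), (8, 18, true), (7, 13, true), (6, 13, true), (4, 9, true), (6, 19, true), (4, 14, true), (4, 19, true), (6, 19, true), (5, 19, true), (7, 19, true), (6, 19, true), (4, 14, true), (4, 20, true), (4, 15, true), (3, 3, true), (2, 3, true), (1, 1, true), (0, 1, true), (4, 16, true), (3, 7, true), (2, 7, true), (4, 18, true), (5, 20, true), (3, 9, true), (4, 17, true), (3, 8, true), (5, 18, true), (6, 19, true), (7, 19, true),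 (9, 17, true), (8, 17, true), (7, 12, true), (6, 12, true), (5, 8, true), (4, 8, true), (10, 18, true), (9, 18, true), (8, 13, true), (7, 13, true), (5, 9, true), (8, 19, true), (7, 19, true), (5, 14, true), (6, 19, true), (5, 19, true), (6, 20, true), (6, 16, true), (5, 11, true), (4, 4, true), (3, 4, true), (1, 2, true), (4, 17, true), (3, 8, true), (2, 8, true), (5, 18, true), (3, 9, true), (3, 18, true), (5, 19, true), (4, 19, true), (5, 20, true), (6, 17, true), (5, 17, true), (4, 12, true), (3, 8, true), (1, 5, true), (4, 17, true), (3, 17, true), (2, 12, true), (1, 8, true), (5, 18, true), (4, 18, true), (3, 13, true), (6, 18, true), (5, 18, true), (4, 13, true), (2, 9, true), (3, 20, true)]),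
    ([7, 3, 1], [(0, 28, true), (8, 27, true), (7, 16, true), (6, 7, true), (5, 7, true), (4, 4, true), (3, 4, true), (7, 17, true), (6, 8, true), (5, 8, true), (8, 18, true), (6, 9, true), (6, 18, true), (8, 18, true), (7, 18, true), (8, 20, true), (6, 9, true), (7, 18, true), (6, 18, true), (8, 19, true), (7, 19, true), (9, 19, true), (8, 19, true), (9, 20, true)], [(1, 7, true), (0, 27, true), (5, 28, true), (13, 30, true), (4, 15, true), (3, 10, true), (2, 10, true), (1, 6, true), (0, 1, true), (4, 18, true), (2, 9, true), (3, 19, true), (2, 19, true), (4, 19, true), (3, 19, true), (4, 20, true), (3, 10, true), (2, 10, true), (1, 1, true), (5, 19, true), (6, 19, true), (7, 16, true), (6, 11, true), (5, 11, true), (4, 7, true), (3, 7, true), (5, 18, true), (7, 19, true), (6, 19, true), (7, 20, true), (7, 19, true), (8, 20, true), (8, 17, true), (7, 12, true), (6, 12, true), (5, 8, true), (4, 8, true),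 (9, 17, true), (8, 12, true), (7, 12, true), (6, 8, true), (5, 8, true), (10, 18, true), (9, 13, true), (8, 13, true), (6, 9, true), (8, 18, true), (7, 13, true), (6, 13, true), (9, 20, true)]),
    ([8, 0, 0, 0], [(0, 31, true), (3, 31, true), (6, 31, true), (2, 15, true), (1, 15, true), (2, 20, true), (2, 15, true), (0, 0, true), (0, 20, true)], [(1, 0, true), (0, 36, true), (1, 36, true)]),
    ([8, 1, 0], [(0, 32, true), (7, 31, true), (6, 10, true), (5, 6, true), (4, 6, true), (3, 3, true), (2, 1, true), (1, 1, true), (5, 16, true), (4, 7, true), (3, 7, true), (5, 18, true), (6, 20, true), (4, 9, true), (5, 17, true), (4, 8, true), (6, 18, true), (7, 19, true), (8, 19, true), (10, 18, true), (9, 18, true), (8, 13, true), (7, 13, true), (5, 9, true), (7, 20, true), (6, 13, true), (5, 13, true), (8, 19, true), (6, 14, true), (6, 20, true)], [(1, 1, true), (0, 31, true), (3, 32, true), (10, 34, true),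 (12, 34, true), (14, 36, true), (2, 15, true), (1, 15, true), (3, 16, true), (2, 16, true), (4, 16, true), (3, 16, true), (5, 17, true), (4, 17, true), (6, 18, true), (5, 18, true), (7, 18, true), (6, 18, true), (8, 19, true), (7, 19, true), (9, 18, true), (8, 18, true), (7, 13, true), (5, 9, true), (7, 19, true), (6, 19, true), (8, 18, true), (7, 18, true), (6, 13, true), (5, 13, true), (9, 19, true), (8, 19, true), (6, 14, true), (6, 20, true)]),
    ([8, 2, 0], [(0, 33, true), (4, 31, true), (3, 10, true), (2, 6, true), (1, 6, true), (0, 3, true), (5, 18, true), (4, 13, true), (3, 13, true), (7, 18, true), (6, 18, true), (5, 13, true), (4, 13, true), (2, 9, true), (4, 20, true), (2, 14, true)], [(1, 3, true), (0, 31, true), (3, 33, true), (7, 34, true), (9, 35, true), (12, 35, true), (15, 36, true), (2, 17, true), (1, 17, true), (3, 18, true), (2, 18, true), (4, 18, true), (3, 18, true), (5, 19, true),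 (4, 19, true), (6, 18, true), (5, 18, true), (4, 13, true), (2, 9, true), (4, 19, true), (3, 19, true), (5, 19, true), (4, 19, true), (2, 14, true), (3, 19, true), (2, 19, true), (3, 20, true), (2, 14, true)])]

/-- part of the pairs -/
def threeEqs2 : List Pair :=
  [([8, 2, 1], [(0, 33, true), (4, 32, true), (3, 10, true), (2, 6, true), (1, 6, true), (0, 3, true), (5, 18, true), (4, 13, true), (3, 13, true), (7, 18, true), (6, 18, true), (5, 13, true), (4, 13, true), (2, 9, true), (4, 20, true), (2, 14, true), (1, 4, true), (5, 16, true), (4, 7, true), (3, 7, true), (2, 4, true), (6, 18, true), (4, 9, true), (5, 18, true), (4, 18, true), (5, 20, true), (5, 17, true), (4, 8, true), (6, 18, true), (7, 18, true), (5, 9, true), (5, 19, true)], [(1, 4, true), (0, 32, true), (7, 33, true), (11, 34, true), (13, 34, true), (15, 36, true), (6, 12, true), (5, 8, true), (4, 8, true), (7, 13, true), (5, 9, true),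 (5, 13, true), (7, 13, true), (6, 13, true), (7, 14, true), (5, 9, true)]),
    ([9, 0, 0, 0], [(0, 37, true), (7, 37, true), (14, 37, true), (6, 15, true), (5, 10, true), (4, 10, true), (3, 6, true), (2, 3, true), (0, 0, true), (1, 17, true), (0, 17, true), (2, 18, true), (1, 18, true), (3, 19, true), (2, 19, true), (4, 19, true), (3, 19, true), (4, 20, true), (3, 13, true), (2, 13, true), (5, 19, true), (3, 14, true), (3, 19, true), (5, 15, true), (4, 15, true), (3, 10, true), (2, 6, true), (1, 6, true), (0, 3, true), (5, 18, true), (4, 13, true), (3, 13, true), (7, 18, true), (6, 18, true), (5, 13, true), (4, 13, true), (2, 9, true), (4, 20, true), (2, 14, true), (3, 17, true), (2, 17, true), (4, 18, true), (3, 18, true), (5, 19, true), (4, 19, true), (6, 19, true), (5, 19, true), (6, 20, true), (5, 10, true), (4, 10, true), (3, 6, true), (2, 3, true), (1, 3, true), (6, 17, true), (5, 12, true), (4, 12,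 true), (3, 8, true), (7, 18, true), (6, 13, true), (5, 13, true), (8, 19, true), (6, 14, true), (6, 19, true), (8, 18, true), (7, 18, true), (6, 13, true), (4, 9, true), (5, 20, true), (4, 14, true), (3, 3, true), (2, 3, true), (0, 0, true), (1, 17, true), (0, 17, true), (2, 18, true), (1, 18, true), (3, 19, true), (2, 19, true), (4, 19, true), (3, 19, true), (4, 20, true), (3, 12, true), (2, 12, true), (1, 8, true), (4, 13, true), (3, 13, true), (4, 14, true), (5, 17, true), (4, 12, true), (3, 8, true), (2, 8, true), (0, 5, true), (3, 18, true), (2, 13, true), (0, 9, true), (1, 19, true), (2, 19, true), (0, 14, true)], [(1, 0, true), (0, 42, true), (1, 42, true)]),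
    ([9, 1, 0], [(0, 38, true), (4, 37, true), (3, 15, true), (2, 6, true), (1, 1, true), (0, 1, true), (4, 16, true), (3, 7, true), (2, 7, true), (4, 18, true), (5, 20, true), (3, 9, true), (4, 18, true), (5, 20, true), (4, 6, true), (3, 6, true), (2, 1, true), (1, 1, true), (5, 16, true), (4, 7, true), (3, 7, true), (5, 18, true), (6, 20, true), (4, 9, true), (5, 18, true), (7, 18, true), (6, 18, true), (4, 9, true), (4, 20, true)], [(1, 1, true), (0, 37, true), (7, 38, true), (11, 40, true), (14, 40, true), (17, 42, true), (6, 16, true), (5, 11, true), (4, 11, true), (3, 7, true), (2, 4, true), (6, 18, true), (4, 9, true), (5, 19, true), (4, 19, true), (5, 20, true), (5, 19, true), (6, 20, true), (6, 16, true), (5, 11, true), (4, 11, true), (3, 4, true), (7, 19, true), (8, 20, true), (9, 20, true), (8, 13, true), (7, 13, true), (5, 9, true), (7, 18, true), (6, 13, true), (5, 13, true), (8, 18, true),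 (7, 13, true), (6, 13, true), (10, 18, true), (9, 18, true), (8, 13, true), (7, 13, true), (5, 9, true), (8, 18, true), (7, 18, true), (6, 13, true), (5, 13, true), (8, 20, true)]),
    ([9, 2, 0], [(0, 39, true), (4, 37, true), (3, 10, true), (2, 6, true), (1, 6, true), (0, 3, true), (5, 18, true), (4, 13, true), (3, 13, true), (7, 18, true), (6, 18, true), (5, 13, true), (4, 13, true), (2, 9, true), (4, 20, true), (2, 14, true), (1, 3, true), (6, 17, true), (5, 12, true), (4, 12, true), (3, 8, true), (7, 18, true), (6, 13, true), (5, 13, true), (8, 19, true), (6, 14, true), (6, 19, true)], [(1, 3, true), (0, 37, true), (7, 39, true), (11, 40, true), (14, 41, true), (17, 41, true), (20, 42, true), (6, 17, true), (5, 12, true), (4, 12, true), (3, 8, true), (7, 18, true), (6, 13, true), (5, 13, true), (8, 18, true), (7, 13, true), (6, 13, true), (4, 9, true), (6, 19, true), (4, 14, true), (4, 18, true), (5,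 18, true), (7, 19, true), (6, 19, true), (8, 19, true), (7, 19, true), (8, 20, true), (6, 14, true)]),
    ([9, 2, 1], [(0, 39, true), (4, 38, true), (3, 11, true), (2, 7, true), (1, 7, true), (0, 4, true), (4, 18, true), (2, 9, true), (3, 18, true), (2, 18, true), (3, 20, true), (5, 16, true), (4, 16, true), (3, 11, true), (2, 7, true), (1, 4, true), (5, 18, true), (3, 9, true), (4, 19, true), (3, 19, true), (4, 20, true), (4, 20, true), (3, 13, true)], [(1, 4, true), (0, 38, true), (4, 39, true), (8, 40, true), (11, 40, true), (14, 42, true), (3, 17, true), (2, 8, true), (4, 18, true), (5, 18, true), (3, 9, true), (3, 19, true), (4, 18, true), (3, 13, true), (5, 18, true), (4, 13, true), (7, 18, true), (6, 18, true), (5, 13, true), (3, 9, true), (5, 18, true), (4, 18, true), (3, 13, true), (5, 20, true)]),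
    ([10, 0, 0, 0], [(0, 43, true), (5, 43, true), (10, 43, true), (4, 11, true), (3, 7, true), (2, 4, true), (0, 2, true), (3, 18, true), (1, 9, true), (2, 19, true), (1, 19, true), (2, 20, true), (2, 16, true), (1, 11, true), (0, 4, true), (4, 19, true), (5, 20, true), (5, 17, true), (4, 12, true), (3, 8, true), (2, 8, true), (6, 18, true), (5, 13, true), (3, 9, true), (4, 19, true), (5, 16, true), (4, 11, true), (3, 11, true), (2, 4, true), (1, 4, true), (5, 17, true), (4, 8, true), (3, 8, true), (6, 18, true), (4, 9, true), (4, 18, true), (6, 19, true), (5, 19, true), (6, 20, true), (6, 19, true), (7, 20, true), (7, 16, true), (6, 11, true), (5, 11, true), (4, 7, true), (3, 4, true), (2, 4, true), (0, 2, true), (3, 17, true), (2, 8, true), (1, 8, true), (4, 18, true), (2, 9, true), (2, 18, true), (4, 18, true), (3, 18, true), (4, 20, true), (6, 19, true), (5, 19, true), (6, 20, true), (7, 17, true),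 (6, 17, true), (5, 12, true), (4, 12, true), (3, 8, true), (2, 8, true), (0, 5, true), (5, 18, true), (4, 18, true), (3, 13, true), (2, 13, true), (0, 9, true), (3, 19, true), (2, 19, true), (0, 14, true)], [(1, 0, true), (0, 48, true), (1, 48, true)]),
    ([10, 1, 0], [(0, 44, true), (7, 43, true), (6, 16, true), (5, 4, true), (4, 4, true), (2, 2, true), (5, 17, true), (4, 8, true), (3, 8, true), (6, 18, true), (4, 9, true), (4, 18, true), (5, 20, true), (4, 7, true), (3, 4, true), (2, 4, true), (6, 17, true), (5, 8, true), (4, 8, true), (7, 18, true), (5, 9, true), (5, 18, true), (7, 18, true), (6, 18, true), (7, 20, true), (6, 8, true), (5, 8, true), (3, 5, true), (3, 9, true)], [(1, 1, true), (0, 43, true), (5, 44, true), (12, 46, true), (15, 46, true), (18, 48, true), (4, 10, true), (3, 6, true), (2, 3, true), (1, 1, true), (0, 1, true), (4, 16, true), (3, 7, true), (2, 7, true), (4, 18, true), (5,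 20, true), (3, 9, true), (4, 17, true), (3, 8, true), (5, 18, true), (6, 19, true), (7, 19, true), (9, 18, true), (8, 18, true), (7, 13, true), (6, 13, true), (4, 9, true), (6, 20, true), (4, 14, true), (3, 3, true), (2, 1, true), (1, 1, true), (5, 16, true), (4, 7, true), (3, 7, true), (5, 18, true), (6, 20, true), (4, 9, true), (5, 17, true), (4, 8, true), (6, 18, true), (7, 19, true), (8, 19, true), (10, 16, true), (9, 16, true), (8, 11, true), (7, 11, true), (6, 7, true), (5, 7, true), (4, 4, true), (2, 2, true), (5, 18, true), (3, 9, true), (4, 18, true), (3, 18, true), (4, 20, true), (6, 19, true), (5, 19, true), (6, 20, true), (6, 20, true), (5, 11, true), (4, 11, true), (3, 7, true), (2, 4, true), (6, 18, true), (4, 9, true), (5, 19, true), (4, 19, true), (5, 20, true), (5, 19, true), (6, 20, true), (5, 12, true), (4, 12, true), (6, 12, true), (5, 12, true), (3, 5, true), (5, 19, true), (3, 14, true),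 (3, 20, true), (4, 20, true)]),
    ([10, 2, 0], [(0, 45, true), (5, 43, true), (4, 16, true), (3, 11, true), (2, 11, true), (1, 4, true), (0, 4, true), (4, 17, true), (3, 8, true), (2, 8, true), (5, 18, true), (3, 9, true), (3, 18, true), (5, 19, true), (4, 19, true), (5, 20, true), (5, 19, true), (6, 20, true), (6, 16, true), (5, 11, true), (4, 11, true), (3, 7, true), (2, 4, true), (1, 4, true), (5, 17, true), (4, 8, true), (3, 8, true), (6, 18, true), (4, 9, true), (4, 18, true), (6, 18, true), (5, 18, true), (6, 20, true), (8, 19, true), (7, 19, true), (8, 20, true), (9, 17, true), (8, 17, true), (7, 12, true), (6, 12, true), (5, 8, true), (4, 8, true), (2, 5, true), (7, 18, true), (6, 18, true), (5, 13, true), (4, 13, true), (2, 9, true), (5, 19, true), (4, 19, true), (2, 14, true)], [(1, 3, true), (0, 43, true), (5, 45, true), (10, 46, true), (13, 47, true), (17, 47, true), (21, 48, true), (4, 12,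 true), (3, 8, true), (5, 12, true), (4, 8, true), (2, 5, true), (3, 14, true), (3, 19, true), (4, 20, true), (3, 13, true), (7, 18, true), (6, 18, true), (5, 13, true), (4, 13, true), (2, 9, true), (5, 19, true), (4, 19, true), (2, 14, true), (2, 20, true)]),
    ([10, 2, 2, 2], [(0, 45, true), (5, 45, true), (10, 45, true), (4, 17, true), (3, 12, true), (2, 12, true), (0, 5, true), (2, 17, true), (1, 12, true), (0, 12, true), (3, 19, true), (1, 14, true), (1, 19, true), (3, 17, true), (2, 17, true), (1, 12, true), (4, 17, true), (3, 17, true), (2, 12, true), (0, 5, true), (2, 19, true), (1, 19, true), (3, 19, true), (2, 19, true), (0, 14, true), (0, 20, true)], [(1, 5, true)])]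

/-- the pairs -/
def threeEqs : List Pair := threeEqs0 ++ threeEqs1 ++ threeEqs2

/-- part of the exponents -/
def threeVecs0 : List (List ℤ) :=
  [[0, 0, 0, 0, 0, 0, 0, 0, 0, 0, 0, 0, 0, 0, 0, -1, 0, 0, 0, 0, 0, 0, 0, 0, 0, 0, 0, 0, 0, 0, 0, 0, 0, 0, 0, 0, 0, 0, 0, 0, 0, 0, 0, 0, 0, 0, 0, 0, 0],
    [0, 0, 0, 0, 0, 0, 0, 0, 0, 0, 0, 0, 0, 0, 0, 0, 0, 0, 0, -1, 0, 0, 0, 0, 0, 0, 0, 0, 0, 0, 0, 0, 0, 0, 0, 0, 0, 0, 0, 0, 0, 0, 0, 0, 0, 0, 0, 0, 0],
    [0, 0, 0, 0, 0, 0, 0, 0, 0, 0, 0, 0, 0, 0, 0, 0, 0, 0, 1, 0, 0, 0, 0, 0, 0, 0, 0, 0, 0, 0, 0, 0, 0, 0, 0, 0, 0, 0, 0, 0, 0, 0, 0, 0, 0, 0, 0, 0, 0],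
    [0, 0, 0, 0, 0, 0, 0, 0, 0, 0, 0, 0, 0, 0, 0, 0, 0, 0, 0, 0, -1, 0, 0, 0, 0, 0, 0, 0, 0, 0, 0, 0, 0, 0, 0, 0, 0, 0, 0, 0, 0, 0, 0, 0, 0, 0, 0, 0, 0],
    [0, 0, 0, 0, 0, 0, 0, 0, 0, 0, 0, 0, 0, -1, 0, 0, 0, 0, 0, 1, 0, 0, 0, 0, 0, 0, 0, 0, 0, 0, 0, 0, 0, 0, 0, 0, 0, 0, 0, 0, 0, 0, 0, 0, 0, 0, 0, 0, 0],
    [0, 0, 0, 0, 0, 0, 0, 0, 0, 0, 0, 0, 0, 0, 0, 0, 0, -1, -1, 0, 0, 0, 0, 0, 0, 0, 0, 0, 0, 0, 0, 0, 0, 0, 0, 0, 0, 0, 0, 0, 0, 0, 0, 0, 0, 0, 0, 0, 0],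
    [0, 0, 0, 0, 0, 0, 0, 0, 0, 0, 0, 0, 0, 0, 0, 1, -1, 0, 0, 0, 0, 0, 0, 0, 0, 0, 0, 0, 0, 0, 0, 0, 0, 0, 0, 0, 0, 0, 0, 0, 0, 0, 0, 0, 0, 0, 0, 0, 0],
    [0, 0, 0, 0, 0, 0, 0, 0, 0, -1, 0, 0, 0, 0, 0, 0, -1, 0, 1, 0, -1, 0, 0, 0, 0, 0, 0, 0, 0, 0, 0, 0, 0, 0, 0, 0, 0, 0, 0, 0, 0, 0, 0, 0, 0, 0, 0, 0, 0],
    [0, 0, 0, 0, 0, 0, 0, 0, 0, -1, 0, 0, 0, 0, 1, 0, 0, 0, 0, 0, -1, 0, 0, 0, 0, 0, 0, 0, 0, 0, 0, 0, 0, 0, 0, 0, 0, 0, 0, 0, 0, 0, 0, 0, 0, 0, 0, 0, 0],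
    [0, 0, 0, 0, 0, 0, -1, -1, -1, 0, 0, 1, 0, 0, 0, 1, -1, 1, 0, -1, -1, 0, 0, 0, 0, 0, 0, 0, 0, 0, 0, 0, 0, 0, 0, 0, 0, 0, 0, 0, 0, 0, 0, 0, 0, 0, 0, 0, 0]]

/-- part of the exponents -/
def threeVecs1 : List (List ℤ) :=
  [[-1, 0, 0, 0, 0, -1, -1, 0, 1, 1, 1, 0, -1, 0, -1, -1, 0, 0, 0, 1, -1, 0, 0, 0, 0, 0, 0, 0, 0, 0, 0, 0, 0, 0, 0, 0, 0, 0, 0, 0, 0, 0, 0, 0, 0, 0, 0, 0, 0],
    [0, -1, 0, 0, 1, 0, 0, 0, 1, 0, 0, 0, 0, 1, 0, 0, 0, -1, -1, -1, 0, 0, 0, 0, 0, 0, 0, 0, 0, 0, 0, 0, 0, 0, 0, 0, 0, 0, 0, 0, 0, 0, 0, 0, 0, 0, 0, 0, 0],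
    [0, 0, -1, 0, 0, 0, 0, 0, 0, 1, 0, 0, 0, 0, 1, 0, 0, 0, 0, 0, 0, 0, 0, 0, 0, 0, 0, 0, 0, 0, 0, 0, 0, 0, 0, 0, 0, 0, 0, 0, 0, 0, 0, 0, 0, 0, 0, 0, 0],
    [0, 0, 0, 0, 0, 0, 1, 1, 1, 0, 1, -1, 1, -1, 0, -1, 1, -1, 1, -1, 0, 0, 0, 0, 0, -1, 0, 0, 0, 0, 0, 0, 0, 0, 0, 0, 0, 0, 0, 0, 0, 0, 0, 0, 0, 0, 0, 0, 0],
    [0, 0, 0, 0, 0, 0, 1, 1, 1, 0, 1, -1, 1, 1, 0, -1, 0, -1, 0, 1, 1, 0, 0, 0, 0, 0, 0, 0, 0, 0, 0, 0, 0, 0, 0, 0, 0, 0, 0, 0, 0, 0, 0, 0, 0, 0, 0, 0, 0],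
    [0, 1, 0, 0, -1, 0, 1, -1, 0, 0, -1, 0, -1, 0, 0, 0, 0, 0, 1, 1, -1, 0, 0, 0, 0, 0, 0, 0, 0, 0, -1, 0, 0, 0, 0, 0, 0, 0, 0, 0, 0, 0, 0, 0, 0, 0, 0, 0, 0],
    [0, 1, 0, 0, -1, 0, -1, -1, 1, 0, -1, 1, -1, -1, 0, -1, 0, -1, -1, 1, 1, 0, 0, 0, 0, 0, 0, 0, 0, 0, -1, 0, 0, 0, 0, 0, 0, 0, 0, 0, 0, 0, 0, 0, 0, 0, 0, 0, 0],
    [0, 0, 0, 0, 0, 0, 0, 0, 0, 0, 0, 0, 0, 0, 0, 0, 0, 0, 0, 0, -1, 0, 0, 0, 0, 0, 0, 0, 0, 0, 0, 0, 0, 0, 0, 0, 1, 0, 0, 0, 0, 0, 0, 0, 0, 0, 0, 0, 0],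
    [0, 1, 0, 1, 0, 0, -1, -1, 1, 1, 1, 0, 0, 1, 0, 1, 0, -1, -1, 0, -1, 0, 0, 0, 0, 0, 0, 0, 0, 0, 0, 0, 0, 0, 1, 0, -1, 0, 0, 0, 0, 0, 0, 0, 0, 0, 0, 0, 0],
    [0, 0, 0, 0, 0, 0, -1, 0, 0, 0, 1, 0, 0, 0, -1, 0, 0, 1, 0, 1, 0, 0, 0, 0, 0, 0, 0, 0, 0, 0, 0, 0, 0, 0, -1, 1, -1, 0, 0, 0, 0, 0, 0, 0, 0, 0, 0, 0, 0]]

/-- part of the exponents -/
def threeVecs2 : List (List ℤ) :=
  [[0, 0, 0, 1, 1, 0, -1, -1, -1, 1, 1, 0, -1, 0, 0, 0, 1, 1, -1, 1, -1, 0, 0, 0, 0, 0, 0, 0, 0, 0, 0, 0, 0, 0, 1, 0, -1, 0, 0, 0, 0, 0, 0, 0, 0, 0, 0, 0, 0],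
    [1, 0, 0, 0, 0, 1, 1, 0, 1, 0, -1, 0, -1, 0, 0, 0, 0, -1, 1, 0, -1, 0, 0, 0, 0, 0, 0, 0, 0, 0, 0, 0, 0, 0, 0, 0, 0, 0, 0, 0, 0, 0, 1, 0, 0, 0, 0, 0, 0],
    [0, 0, 0, 0, 1, 0, 0, 0, 0, 0, 0, -1, 0, -1, 0, 1, 0, 0, -1, -1, -1, 0, 0, 0, 0, 0, 0, 0, 0, 0, 0, 0, 0, 0, 0, 0, 0, 0, 0, 0, 1, 0, -1, 0, 0, 0, 0, 0, 0],
    [0, 0, 0, 1, 0, 0, -1, 0, 0, 0, 1, 0, 0, -1, 0, 0, 0, 0, 0, 0, 0, 0, 0, 0, 0, 0, 0, 0, 0, 0, 0, 0, 0, 0, 0, 0, 0, 0, 0, 0, -1, 1, -1, 0, 0, 0, 0, 0, 0],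
    [0, 0, 0, 0, 1, 0, 0, 0, -1, 0, 0, -1, 0, 0, 0, 0, -1, -1, -1, 1, -1, 0, 0, 0, 0, 0, 0, 0, 0, 0, 0, 0, 0, 0, 0, 0, 0, 0, 0, 0, 1, 0, -1, 0, 0, 0, 0, 0, 0],
    [-1, 0, -1, 0, 0, 1, 0, -1, -1, -1, 0, 0, 0, 0, 1, 0, 0, -1, 1, -1, 0, 0, 0, 0, 0, 0, 0, 0, 0, 0, 0, 0, 0, 0, 0, 0, 0, 0, 0, 0, 0, 0, 0, 0, 0, 0, 0, 0, 1],
    [0, 1, 0, 1, -1, 0, -1, 0, 1, 1, -1, -1, -1, 1, 1, 0, 0, 0, -1, -1, 1, 0, 0, 0, 0, 0, 0, 0, 0, 0, 0, 0, 0, 0, 0, 0, 0, 0, 0, 0, 0, 0, 0, 0, 0, 0, 1, 0, -1],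
    [0, 0, 0, -1, 1, 0, 0, 1, 1, -1, 0, 1, 0, -1, -1, 0, -1, 1, 0, 1, -1, 0, 0, 0, 0, 0, 0, 0, 0, 0, 0, 0, 0, 0, 0, 0, 0, 0, 0, 0, 0, 0, 0, 0, 0, 0, -1, 1, -1],
    [0, 0, 0, 0, 0, 1, 0, 0, 0, 0, 0, 0, 0, 0, -1, 0, 0, 0, 0, 0, 1, 0, 0, 0, 0, 0, 0, 0, 0, 0, 0, 0, 0, 0, 0, 0, 0, 0, 0, 0, 0, 0, 0, 0, 0, 0, 0, 0, 0]]

/-- the exponents -/
def threeVecs : List (List ℤ) := threeVecs0 ++ threeVecs1 ++ threeVecs2

/-- part of the change of lifts -/
def threeGauge0 : List (List (ℕ × ℤ)) :=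
  [[],
    [],
    [],
    [(4, (-1)), (11, (-1))],
    [(3, (-1)), (4, (-1)), (11, 1)],
    [(11, (-1))],
    [],
    [],
    [],
    []]

/-- part of the change of lifts -/
def threeGauge1 : List (List (ℕ × ℤ)) :=
  [[]]

/-- the change of lifts -/
def threeGauge : List (List (ℕ × ℤ)) := threeGauge0 ++ threeGauge1

/-- part of the combinations -/
def threeCombs0 : List (List (ℕ × ℤ)) :=
  [[(0, 1), (1, 1), (2, 1), (3, (-1)), (4, (-1)), (6, (-1)), (7, 1), (8, 1), (9, 1), (10, (-1)), (11, 1), (14, 1), (15, 1), (16, (-1)), (18, 1), (20, (-1)), (22, (-1)), (24, 1), (28, (-1))],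
    [(0, (-1)), (2, 1), (4, 1), (5, (-1)), (6, 1), (11, (-1)), (22, 1), (24, (-1))],
    [(0, (-1)), (2, (-1)), (3, 1), (6, (-1)), (7, 1), (8, 1), (12, (-1))],
    [],
    [],
    [(0, 1), (2, 1), (3, 1), (6, 1), (7, (-1)), (8, 1), (28, 1)],
    [(1, (-1)), (3, (-1)), (5, 1), (6, (-1)), (15, (-1)), (16, 1), (22, (-1)), (24, 1)],
    [(0, 1), (1, (-1)), (2, 1), (3, (-1)), (4, 1), (6, 1), (9, (-1)), (15, 1), (16, (-1))],
    [(0, (-1)), (2, 1), (4, (-1)), (5, 1), (6, 1), (22, 1), (24, (-1))],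
    [(0, 1), (2, 1), (3, 1), (6, 1), (7, (-1))],
    [(0, (-1)), (1, 1), (2, (-1)), (4, (-1)), (9, 1), (11, (-1)), (14, 1), (18, (-1)), (20, 1)],
    [],
    [(2, 1), (4, (-1)), (6, (-1)), (11, 1), (18, 1), (20, (-1))],
    [(1, (-1)), (4, (-1))],
    [(0, 1), (2, 1), (6, 1), (7, (-1)), (8, 1)],
    [(0, (-1))],
    [(0, (-1)), (6, (-1))],
    [(2, (-1)), (5, (-1))],
    [(2, 1)],
    [(1, (-1))],
    [(3, (-1))]]

/-- the combinations -/
def threeCombs : List (List (ℕ × ℤ)) := threeCombs0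

/-- part of the representatives -/
def threeLvlW0_0 : List (List (List ℕ)) :=
  [[[], [0, 0, 3, 3, 4, 4, 5, 5], [1, 2, 2, 3, 4, 4, 5], [1, 1, 3, 3, 4, 4, 5, 5], [1, 1, 2, 4, 4, 5, 5], [1, 1, 2, 2, 3, 4, 4, 5, 5], [0, 1, 1, 2, 2, 5, 5], [0, 0, 1, 1, 2, 3], [0, 0, 1, 1, 2, 2, 5, 5], [1, 2, 3, 4, 4, 5], [0, 1, 2, 3, 5, 5], [1, 1, 2, 2, 3, 3, 4, 5], [0, 0, 1, 2, 5], [0, 1, 1, 2, 3, 3, 4, 4, 5, 5], [0, 0, 1, 1, 2, 2, 3, 4, 5, 5], [3, 3, 4, 4], [0, 0, 2, 2, 3, 3, 4, 5, 5], [2, 2, 3, 3, 5, 5], [0, 1, 2, 2], [0, 1, 2, 2, 5], [0, 1, 3, 4, 4], [1, 1, 2, 2, 4], [1, 2, 2, 3, 3, 4, 4], [1, 2, 4, 4], [1, 1, 4, 4], [0, 0, 2, 3, 3, 4], [2, 4, 5], [3, 3, 5], [0, 1, 1, 2, 4, 4, 5, 5], [1, 2, 3, 3, 4, 4, 5], [0, 0, 1, 3, 3, 4, 4], [0, 1, 4, 4], [0, 1, 1, 2, 2, 3, 3, 4, 4], [0, 1, 2, 3, 3, 4, 4, 5], [0, 0, 1, 2, 3, 3], [0, 0, 4, 4], [1, 1, 2, 2, 5], [1, 1, 2, 3, 3, 4], [3, 4, 4, 5, 5], [0, 1, 1, 2, 3, 3, 4, 5], [1, 2, 2, 3,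 4, 4, 5, 5], [0, 0, 1, 1, 3], [0, 0, 1, 1, 4], [0, 0, 1, 1, 2, 2, 5], [0, 0, 1, 1, 2, 3, 3, 4, 4, 5, 5], [0, 1, 1, 3, 4, 4, 5], [0, 1, 1, 4, 4, 5, 5], [0, 0, 2, 3, 3, 5], [0, 0, 1, 1, 3, 4, 4], [0, 2], [1, 1, 2, 2, 3, 3, 5, 5], [0, 0, 1, 1, 2, 2, 4], [0, 1, 1, 2, 2, 3, 3, 4, 4, 5], [1, 1, 2], [1, 1, 4, 5], [0, 1, 1, 3, 3], [1, 3, 3, 4], [0, 0, 2, 2, 3, 5, 5], [1, 3, 3, 4, 4, 5], [0, 0, 1, 1, 2, 5], [0, 1, 1, 2, 2, 3, 3, 4, 5, 5], [4, 4, 5], [1, 1, 2, 2, 3, 4, 5], [0, 0, 1, 2, 2, 3, 4]],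
    [[0, 1, 2, 3, 5], [0, 2, 3, 3], [1, 1, 2, 2, 3, 3, 4, 5, 5], [0, 0, 1, 3, 4, 4, 5], [0, 1, 2, 2, 3, 5, 5], [1, 1, 3, 3, 5], [0, 1, 3], [0, 2, 3, 3, 4, 4, 5], [2, 2, 3, 4, 4, 5, 5], [0, 1, 1, 3, 3, 4, 5], [0, 2, 2, 3, 3, 5, 5], [0, 0, 1, 2, 2, 3, 3], [1, 1, 2, 2, 4, 5, 5], [1, 1, 2, 3, 4, 5, 5], [0, 2, 3, 3, 4, 4], [2, 2, 3, 3, 5], [1, 1, 3, 4, 4, 5], [0, 0, 1, 1, 2, 2, 4, 4, 5], [2, 5], [0, 1, 1, 3, 4, 5, 5], [2], [1, 1, 2, 2, 3, 3], [0, 5], [0, 0, 1, 1, 2, 2, 3, 3, 4, 5, 5], [0, 1, 1, 3, 4], [0, 1, 1, 3, 4, 4], [1, 2, 3, 3, 5], [2, 3, 3, 4, 4], [0, 1, 1, 2, 2, 3, 5], [0, 1, 1, 5, 5], [0, 2, 2, 4, 4, 5, 5], [0, 1, 2, 2, 4, 4], [0, 2, 2, 3, 4, 4, 5], [0, 0, 1, 1, 3, 3, 5, 5], [2, 3, 5], [0, 0, 1, 1, 2, 2, 4, 5], [1, 2, 3, 3, 4], [1, 1, 4, 4, 5], [1, 1, 2, 2, 3, 4], [0, 3, 4, 4, 5, 5], [0, 1, 1, 2, 2, 4, 5], [2, 2, 5, 5], [0, 2, 2, 5, 5], [0, 1, 2, 2, 3, 3, 5], [0, 1, 2, 2, 4, 5, 5], [0, 1, 1, 2, 3, 4,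 5, 5], [0, 0, 2, 2, 4, 5], [1, 5, 5], [2, 2, 4, 5, 5], [0, 0, 2, 2, 3, 3, 5], [0, 2, 3, 3, 5], [0, 2, 3, 3, 4], [1, 2, 2, 3, 4, 5, 5], [0, 1, 1, 2, 3, 3, 5], [0, 0, 1, 1, 2, 3, 3, 4, 4, 5], [2, 4, 4, 5, 5], [0, 0, 1, 3], [0, 0, 1, 2, 2, 5, 5], [0, 0, 2, 4, 4, 5], [0, 0, 2, 4, 4], [0, 0, 2, 2, 3, 3], [0, 1, 1, 2, 2, 3, 4, 5, 5], [0, 0, 1, 3, 5], [1, 1, 5]],
    [[0, 1, 4, 4, 5], [1, 1, 2, 3, 4, 4, 5], [3, 3, 4, 5, 5], [3, 5], [0, 4], [0, 1, 2, 2, 3, 3, 4, 4, 5, 5], [0, 0, 1, 4], [0, 0, 1, 1, 2, 2, 4, 5, 5], [0, 1, 3, 4, 5, 5], [0, 0, 1, 1, 3, 3, 4, 5, 5], [0, 1, 1, 2, 2, 3, 3, 4, 5], [2, 3, 3, 4, 4, 5, 5], [1, 1, 2, 3, 4, 4], [1, 1, 3, 4, 5, 5], [1, 2, 2, 3, 3, 4, 5], [1, 1, 2, 2, 3, 4, 4, 5], [1, 1, 2, 3, 3, 4, 4, 5, 5], [0, 0, 3, 4, 5], [0, 2, 3, 4, 4], [0, 0, 5], [1, 3, 4, 4, 5, 5], [0, 0, 3, 3, 5], [0, 0, 1, 1, 2], [1, 1, 2, 3, 3, 4, 4], [0, 0, 2, 3, 3, 4, 5, 5], [1, 1, 2, 4, 4], [0, 0, 1, 1, 2, 4, 5,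 5], [0, 0, 1, 2, 4, 5], [0, 0, 2, 3, 4, 4], [1, 1, 2, 3, 3, 4, 5], [0, 0, 1, 2, 2, 4, 4, 5, 5], [0, 0, 2, 2, 3, 4, 5, 5], [0, 2, 2], [0, 0, 1, 1, 5, 5], [0, 0, 2, 3], [0, 1, 1, 2, 2, 3, 4], [0, 0, 1, 1, 2, 3, 4, 5], [0, 0, 1, 4, 5, 5], [1, 3, 3, 4, 4], [1, 2, 2, 3, 4], [3, 3], [1, 2, 2, 4, 4, 5], [0, 0, 5, 5], [0, 1, 1, 2, 3, 4, 4, 5], [2, 2, 3, 4, 5], [0, 3, 4, 5, 5], [0, 1, 2, 3, 3], [2, 2, 3, 3, 4, 5, 5], [0, 0, 1, 2, 2, 4, 5], [1, 2, 3, 3, 5, 5], [2, 2, 3, 3, 4, 4, 5], [1, 2, 2, 4, 5], [1, 3, 5], [0, 0, 2, 4, 5, 5], [0, 1, 4, 5, 5], [0, 0, 1, 2, 3, 3, 4, 4], [0, 1, 1, 2, 5, 5], [0, 0, 1, 2, 2, 3, 4, 5], [1, 2, 5], [2, 3], [2, 2, 3, 5], [3, 3, 5, 5], [0, 1, 1, 2, 3, 3, 4, 5, 5], [0, 0, 1, 2, 2, 3, 3, 5]],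
    [[0, 0, 2, 3, 3, 5, 5], [0, 0, 2, 3, 4, 4, 5, 5], [1, 1, 2, 4, 5, 5], [0, 1, 2, 4, 5], [0, 3, 4, 4], [2, 2, 4], [0, 0, 2, 2, 3], [1, 2, 2, 5], [2, 4], [2, 2, 3, 3, 4, 5], [2, 2, 3], [2, 2, 3, 3, 4, 4], [0, 1, 2, 3, 3, 4, 4], [1, 1, 2, 4, 4, 5], [0, 1, 1, 2, 4, 4, 5], [0, 1, 1, 4, 5], [0, 0, 2, 3, 4, 5], [0, 0, 2, 2, 4, 4, 5, 5], [2, 5, 5], [0, 0, 1, 1, 2, 2, 3, 3, 4, 4, 5], [1, 3, 4, 4], [0, 0, 1, 1, 2, 3, 3, 4, 4], [0, 2, 2, 3, 3, 4, 4, 5], [2, 3, 3, 5, 5], [2, 3, 4, 4, 5], [2, 3, 3, 4, 4, 5], [1, 2, 2, 3, 5, 5], [3, 4, 5], [2, 3, 4, 4], [0, 0, 4, 5], [0, 2, 3, 3, 4, 5], [1, 2, 2, 3, 4, 5], [1, 2, 2, 5, 5], [1, 2, 2, 3, 3, 4, 4, 5], [1, 1, 2, 3, 3, 5, 5], [0, 0, 1, 1, 2, 3, 4, 4, 5, 5], [0, 0, 3, 5], [1, 4, 5], [0, 2, 2, 4], [0, 0, 1, 5], [0, 1, 1, 2, 2, 3, 3, 5], [1, 2, 3, 4], [0, 0, 1, 2, 2, 5], [1, 2, 3, 4, 5], [0, 0, 1, 2], [0, 3, 3, 4, 5], [0, 1, 2, 5, 5], [0, 2, 2, 3, 3, 4, 4], [0, 0, 2, 3, 5,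 5], [0, 0, 1, 2, 4, 4], [0, 0, 1, 2, 5, 5], [0, 0, 1, 4, 5], [2, 2, 3, 4], [0, 0, 1, 1], [3, 3, 4], [0, 0, 1, 3, 3, 4, 4, 5, 5], [0, 2, 3, 4, 4, 5], [1, 1, 4, 5, 5], [0, 4, 5, 5], [0, 0, 3, 4, 5, 5], [0, 0, 1, 2, 3, 3, 4, 4, 5], [2, 2, 3, 3, 4], [0, 0, 1, 2, 2, 3, 3, 4, 5], [1, 2, 2, 3, 3, 4, 5, 5]]]

/-- part of the representatives -/
def threeLvlW0_1 : List (List (List ℕ)) :=
  [[[0, 0, 1], [0, 1, 1, 2, 3, 3, 4, 4], [0, 2, 2, 3, 5, 5], [1, 3, 3], [1, 1, 4], [1, 2, 4, 4, 5], [0, 2, 4, 5], [1, 1, 2, 3, 5], [0, 0, 4, 5, 5], [0, 3, 3, 4, 5, 5], [1, 1, 3, 5, 5], [3, 3, 4, 4, 5, 5], [0, 0, 2, 3, 3, 4, 4, 5, 5], [0, 1, 1, 2, 2, 3, 4, 4, 5, 5], [0, 0, 2, 2], [0, 1, 2, 4, 4], [0, 1, 2, 3, 3, 4, 4, 5, 5], [0, 1, 1, 3, 3, 4, 5, 5], [1, 2], [0, 0, 2, 3, 4], [0, 0, 1, 4, 4, 5, 5], [0, 0, 1, 2, 3, 3, 4, 5], [0, 1, 2, 2, 3, 4, 4], [0, 1, 1, 2, 4, 5, 5], [0, 0, 1, 2, 2, 3, 5], [0, 1, 1, 2, 3, 4, 4, 5, 5], [0, 1, 1, 3],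 [1, 3, 3, 4, 4, 5, 5], [0, 3, 5], [1, 2, 2, 4, 4, 5, 5], [0, 1, 2, 2, 3, 4], [0, 0, 1, 1, 3, 5], [0, 0, 2, 2, 3, 4], [0, 1, 4, 4, 5, 5], [2, 3, 3, 4], [1, 5], [1, 4, 5, 5], [1, 3, 3, 4, 5], [0, 1, 2, 2, 3, 3, 5, 5], [0, 0, 1, 2, 2, 3, 3, 4, 4], [3, 3, 4, 4, 5], [0, 2, 2, 4, 4], [0, 2, 3, 5, 5], [0, 0, 4, 4, 5], [1, 2, 4], [2, 2, 3, 4, 4], [2, 2, 3, 4, 4, 5], [0, 0, 1, 5, 5], [1, 2, 3], [5], [0, 0, 1, 1, 2, 3, 3, 5], [3], [0, 1, 1, 2, 2], [0, 1, 2, 2, 3, 4, 4, 5, 5], [0, 0, 1, 1, 3, 4, 4, 5, 5], [0, 2, 3, 3, 5, 5], [1, 1], [0, 1, 3, 3, 4, 4], [0, 1, 4], [2, 3, 4, 4, 5, 5], [0, 1, 1, 3, 4, 4, 5, 5], [0, 0, 1, 1, 3, 3, 4], [0, 1, 2, 3, 4, 4], [0, 2, 3, 4, 5]],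
    [[1, 1, 3, 3, 4, 5, 5], [1, 1, 2, 2, 3, 3, 4], [1, 1, 2, 2, 3, 3, 5], [0, 3, 3, 5, 5], [2, 2, 3, 5, 5], [0, 1, 1, 2, 2, 3, 4, 5], [0, 1, 3, 4], [0, 1, 2, 2, 3, 3, 4, 5], [0, 2, 2, 3], [0, 2, 2, 3, 4, 4, 5, 5], [1, 1, 2, 3], [0, 0, 1, 2, 2, 3, 4, 4], [1, 1, 2, 2, 3, 3, 4, 4, 5], [0, 1, 1, 5], [1, 2, 2, 3, 5], [4, 5], [0, 1, 3, 5, 5], [0, 0, 2], [0, 1, 1, 3, 3, 4, 4, 5], [0, 0, 1, 4, 4, 5], [0, 2, 4, 5, 5], [0, 0, 3, 3, 4, 5], [0, 0, 2, 4, 5], [0, 1, 2, 2, 5, 5], [1, 1, 2, 2], [0, 0, 1, 2, 2, 3, 3, 4, 4, 5], [0, 1, 3, 3, 5, 5], [0, 2, 5], [0, 0, 1, 1, 2, 2, 3, 3, 4], [0, 1, 2, 3, 3, 4], [0, 0, 1, 1, 2, 2, 3, 3, 4, 4, 5, 5], [0, 0], [4, 5, 5], [0, 0, 2, 3, 4, 5, 5], [0, 0, 1, 1, 2, 3, 4, 4, 5], [0, 2, 2, 4, 5], [0, 0, 1, 2, 3, 4, 4, 5], [0, 1, 2, 2, 3, 4, 4, 5], [0, 1, 2, 2, 3, 3], [1, 3], [0, 0, 1, 1, 3, 3, 4, 4], [1, 1, 2, 3, 5, 5], [0, 1, 1, 3, 3, 4, 4, 5, 5], [0, 0, 2, 2, 4, 4, 5], [0, 0, 2, 4], [3,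 4, 4], [1, 1, 2, 2, 4, 5], [0, 1, 2, 2, 3, 3, 4], [0, 0, 3, 3, 5, 5], [0, 1, 1, 2, 4, 4], [0, 0, 1, 1, 2, 2, 4, 4], [4, 4], [1, 1, 2, 4], [0, 1], [1, 2, 4, 4, 5, 5], [1, 2, 5, 5], [1, 3, 3, 5], [1, 2, 2, 3, 3], [0, 1, 3, 5], [0, 0, 1, 3, 5, 5], [0, 0, 1, 1, 3, 3, 4, 4, 5, 5], [0, 1, 3, 3, 4, 4, 5], [0, 2, 4, 4, 5, 5], [0, 3, 3]],
    [[1, 1, 2, 2, 4, 4, 5, 5], [0, 3, 3, 4, 4, 5], [0, 0, 1, 1, 3, 4], [2, 3, 5, 5], [0, 0, 2, 3, 3, 4, 4, 5], [0, 1, 1, 2, 3, 3, 4, 4, 5], [0, 0, 1, 1, 2, 4], [0, 0, 1, 3, 3, 4, 5], [5, 5], [0, 1, 2], [0, 0, 1, 1, 2, 2, 3, 3, 5, 5], [1, 1, 3, 3, 4, 4, 5], [0, 1, 3, 3, 4], [0, 1, 2, 2, 3, 4, 5, 5], [0, 0, 1, 1, 2, 2, 3, 4], [0, 0, 1, 3, 4], [0, 0, 1, 2, 2, 3], [0, 2, 2, 3, 4], [0, 1, 5], [0, 1, 1, 2, 3, 3, 4], [1, 2, 3, 4, 4], [0, 0, 1, 2, 2, 4], [0, 0, 1, 2, 3], [0, 0, 3], [0, 0, 2, 3, 3, 4, 5], [3, 3, 4, 5], [0, 0, 1, 3, 4, 5, 5], [0, 0, 3, 3, 4, 4], [0, 1, 2, 2, 3, 4, 5], [0,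 2, 3], [2, 3, 3, 4, 5], [1, 1, 2, 4, 5], [2, 2, 3, 3], [0, 2, 2, 5], [0, 1, 1, 2, 3, 4, 4], [0, 0, 1, 1, 2, 3, 3, 4, 5, 5], [0, 0, 3, 3, 4, 4, 5], [1, 1, 3, 5], [0, 1, 1, 2, 2, 5], [0, 1, 1, 2, 3, 3], [0, 0, 1, 1, 5], [0, 1, 1, 2, 4, 5], [0, 1, 1, 3, 4, 5], [0, 2, 2, 3, 3, 4, 5, 5], [0, 1, 2, 3, 3, 4, 5, 5], [0, 0, 3, 3, 4], [0, 1, 2, 2, 4, 5], [1, 3, 5, 5], [1, 2, 3, 4, 5, 5], [0, 0, 1, 1, 3, 3, 4, 5], [0, 1, 2, 2, 3, 5], [0, 0, 1, 2, 2, 3, 3, 4, 4, 5, 5], [0, 0, 3, 4, 4], [0, 2, 2, 3, 4, 5, 5], [1, 2, 3, 3, 4, 5, 5], [0, 4, 4], [1, 3, 3, 5, 5], [0, 2, 3, 5], [1, 4, 4, 5, 5], [0, 1, 1, 4, 4], [2, 4, 4], [0, 0, 1, 1, 4, 5, 5], [0, 2, 2, 3, 3, 4, 5], [0, 0, 1, 2, 3, 4, 4, 5, 5]],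
    [[0, 1, 1, 2, 4], [1, 2, 2, 3, 3, 5], [1, 1, 5, 5], [2, 2], [0, 0, 1, 2, 3, 4, 4], [0, 0, 3, 4, 4, 5, 5], [0, 1, 1, 2, 2, 3, 5, 5], [1, 1, 3, 3], [3, 4, 4, 5], [0, 0, 1, 1, 2, 2, 3, 5, 5], [1, 1, 2, 2, 3, 5], [0, 4, 4, 5], [0, 0, 1, 1, 2, 5, 5], [0, 2, 4], [0, 0, 1, 1, 2, 3, 4, 4], [0, 0, 2, 2, 4, 4], [0, 1, 1, 3, 3, 4, 4], [0, 1, 2, 3, 3, 4, 5], [0, 0, 1, 1, 2, 2, 3, 4, 4, 5], [1, 2, 3, 5], [0, 2, 2, 3, 5], [2, 2, 4, 5], [4, 4, 5, 5], [0, 0, 1, 1, 2, 2, 3, 4, 5], [0, 0, 2, 2, 3, 4, 5], [0, 0, 1, 1, 2, 2], [1, 1, 2, 3, 4, 4, 5, 5], [1, 2, 3, 4, 4, 5, 5], [0, 0, 1, 1, 2, 3, 5, 5], [1, 1, 2, 3, 3, 4, 5, 5], [1, 1, 3, 3, 4, 5], [0, 1, 2, 3, 4, 5], [2, 4, 5, 5], [2, 3, 3], [0, 1, 2, 2, 3], [0, 0, 1, 1, 4, 5], [0, 3, 3, 4, 4, 5, 5], [0, 2, 2, 3, 3, 5], [0, 0, 1, 3, 4, 5], [0, 0, 3, 3], [0, 0, 1, 2, 4, 4, 5, 5], [0, 1, 3, 3, 4, 5, 5], [1, 3, 4, 4, 5], [0, 1, 1, 2, 2, 3, 4, 4], [0, 0, 1, 1, 2, 4, 5], [0, 0,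 1, 2, 3, 3, 4, 5, 5], [0, 0, 4], [0, 0, 1, 1, 3, 3], [0, 1, 2, 4, 4, 5, 5], [0, 1, 2, 2, 4, 4, 5, 5], [0, 0, 1, 1, 2, 3, 3, 4, 5], [0, 1, 1, 2, 2, 3, 3, 4, 4, 5, 5], [0, 0, 2, 3, 3], [0, 0, 1, 4, 4], [0, 0, 1, 2, 3, 5], [0, 0, 1, 2, 4, 5, 5], [2, 2, 3, 3, 4, 4, 5, 5], [2, 3, 4, 5, 5], [2, 2, 3, 4, 5, 5], [1, 2, 3, 3], [0, 1, 2, 4, 4, 5], [0, 0, 2, 3, 5], [0, 0, 2, 2, 3, 3, 4, 4, 5], [0, 1, 1, 3, 3, 5, 5]]]

/-- part of the representatives -/
def threeLvlW0_2 : List (List (List ℕ)) :=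
  [[[2, 2, 4, 4, 5], [2, 2, 4, 4, 5, 5], [1, 2, 2, 3, 3, 4], [0, 2, 2, 4, 5, 5], [0, 1, 2, 2, 3, 3, 4, 4], [0, 1, 1, 2, 2, 4, 4, 5], [0, 0, 3, 4, 4, 5], [0, 0, 2, 3, 3, 4, 4], [2, 3, 3, 5], [0, 1, 1, 2, 3], [0, 0, 1, 1, 3, 4, 4, 5], [2, 3, 4, 5], [0, 3, 5, 5], [0, 0, 1, 3, 3], [1, 2, 3, 5, 5], [1, 1, 3, 4, 4], [0, 0, 1, 1, 2, 4, 4, 5], [0, 1, 1, 2, 2, 3, 3, 4], [0, 4, 4, 5, 5], [0, 1, 2, 3, 3, 5], [0, 1, 2, 2, 4], [0, 0, 2, 2, 5], [0, 1, 1, 2, 2, 3, 4, 4, 5], [0, 1, 3, 3, 5], [0, 0, 1, 2, 2, 3, 5, 5], [0, 0, 1, 1, 3, 4, 5], [0, 1, 1, 4], [0, 0, 2, 5], [0, 1, 1, 3, 3, 5], [0, 0, 1, 1, 2, 2, 3], [0, 2, 2, 3, 4, 4], [0, 0, 1, 2, 3, 4], [1, 1, 3, 4, 5], [0, 3], [1, 1, 2, 3, 4, 5], [0, 0, 3, 3, 4, 5, 5], [0, 1, 1, 3, 5, 5], [0, 0, 2, 2, 3, 4, 4], [0, 1, 3, 4, 5], [0, 0, 1, 2, 2, 3, 3, 4, 5, 5], [0, 0, 1, 2, 3, 4, 5], [0, 0, 2, 2, 3, 3, 4], [0, 1, 2, 3, 4, 5, 5], [0, 0, 1, 1, 2, 3, 4, 5, 5], [0, 0, 2, 2, 4, 5,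 5], [0, 0, 1, 3, 3, 4, 4, 5], [0, 0, 2, 2, 3, 3, 4, 4], [0, 0, 1, 2, 2, 3, 3, 4], [0, 0, 1, 1, 2, 2, 3, 3], [2, 4, 4, 5], [1, 1, 2, 2, 3, 4, 5, 5], [1, 2, 4, 5], [1, 2, 3, 3, 4, 4, 5, 5], [0, 0, 1, 2, 3, 5, 5], [1, 2, 3, 3, 4, 4], [0, 0, 1, 2, 2, 3, 4, 4, 5, 5], [0, 0, 1, 2, 3, 3, 4], [1, 2, 2, 3], [0, 1, 2, 3, 4], [3, 5, 5], [0, 1, 1, 2, 3, 4], [1, 1, 2, 5, 5], [0, 0, 1, 2, 2, 3, 4, 5, 5], [0, 0, 3, 5, 5]],
    [[0, 2, 3, 4, 5, 5], [0, 0, 1, 1, 3, 3, 4, 4, 5], [0, 1, 1, 2, 2, 4], [0, 0, 1, 3, 3, 4, 5, 5], [0, 1, 2, 5], [1, 1, 2, 2, 3, 5, 5], [0, 0, 1, 1, 3, 4, 5, 5], [1, 1, 3, 3, 4, 4], [1, 1, 3], [0, 1, 1, 3, 5], [1, 2, 2, 4, 5, 5], [0, 2, 2, 3, 3, 4], [0, 0, 2, 2, 3, 4, 4, 5, 5], [0, 0, 1, 1, 2, 2, 3, 5], [0, 2, 2, 3, 3], [0, 0, 2, 4, 4, 5, 5], [0, 2, 4, 4, 5], [0, 0, 1, 1, 2, 3, 3, 5, 5], [1, 2, 3, 3, 4, 5], [0, 0, 1, 1, 3, 5, 5], [1, 1, 3, 3, 5, 5], [0, 0, 1, 1, 3, 3, 5], [1, 2, 4, 5, 5], [0, 1, 2,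 3, 4, 4, 5, 5], [1, 2, 2, 4, 4], [0, 0, 1, 1, 2, 2, 3, 3, 5], [1], [0, 0, 2, 3, 4, 4, 5], [0, 3, 4, 5], [0, 0, 1, 3, 4, 4, 5, 5], [0, 0, 1, 1, 2, 4, 4], [0, 2, 4, 4], [1, 1, 2, 5], [0, 0, 1, 1, 2, 3, 3, 4], [0, 0, 1, 1, 2, 4, 4, 5, 5], [0, 1, 1], [0, 1, 1, 2, 2, 4, 4, 5, 5], [0, 1, 2, 3], [0, 0, 1, 2, 3, 3, 5], [3, 4], [3, 4, 5, 5], [2, 3, 3, 4, 5, 5], [0, 3, 4, 4, 5], [0, 1, 1, 2, 2, 3], [0, 0, 2, 2, 4], [0, 1, 1, 2, 2, 3, 3, 5, 5], [0, 0, 1, 2, 4], [0, 1, 3, 4, 4, 5, 5], [0, 1, 2, 3, 3, 5, 5], [0, 0, 1, 2, 2, 3, 3, 5, 5], [1, 1, 2, 3, 3], [0, 1, 3, 3, 4, 5], [1, 2, 2, 3, 3, 4, 4, 5, 5], [1, 1, 2, 2, 4, 4, 5], [0, 2, 3, 4, 4, 5, 5], [0, 0, 1, 1, 2, 2, 3, 4, 4, 5, 5], [1, 3, 4, 5], [2, 2, 4, 4], [0, 1, 1, 2, 3, 3, 5, 5], [0, 0, 1, 3, 4, 4], [1, 1, 2, 3, 3, 4, 4, 5], [0, 3, 3, 4], [0, 0, 1, 2, 3, 4, 5, 5], [0, 2, 5, 5]],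
    [[0, 1, 1, 2, 3, 5], [0, 0, 1, 2, 2, 3, 4, 4, 5], [0, 1, 1, 2, 2, 3, 3], [0], [0, 2, 3, 4], [0, 3, 3, 5], [0, 0, 1, 1, 2, 3, 4], [0, 1, 3, 3, 4, 4, 5, 5], [1, 1, 4, 4, 5, 5], [0, 1, 3, 3], [0, 0, 1, 1, 4, 4, 5], [0, 2, 3, 3, 4, 5, 5], [0, 2, 2, 3, 4, 5], [0, 1, 5, 5], [1, 1, 2, 2, 4, 4], [0, 1, 1, 2, 2, 4, 4], [0, 0, 1, 1, 4, 4, 5, 5], [0, 0, 1, 2, 2, 4, 5, 5], [0, 0, 1, 1, 2, 2, 4, 4, 5, 5], [0, 1, 1, 2, 5], [4], [1, 1, 3, 3, 4], [0, 0, 1, 1, 2, 2, 3, 4, 4], [0, 0, 1, 1, 2, 2, 3, 3, 4, 5], [0, 0, 2, 2, 3, 4, 4, 5], [1, 2, 2, 3, 3, 5, 5], [0, 4, 5], [1, 4, 4], [0, 0, 1, 1, 2, 3, 5], [0, 0, 2, 2, 3, 3, 4, 5], [1, 1, 3, 4], [0, 0, 1, 1, 2, 2, 3, 3, 4, 4], [0, 0, 2, 2, 3, 5], [0, 0, 4, 4, 5, 5], [1, 2, 2, 3, 4, 4], [1, 4], [0, 0, 1, 2, 2, 4, 4, 5], [0, 0, 1, 2, 3, 3, 5, 5], [1, 1, 2, 2, 3], [1, 4, 4, 5], [0, 0, 2, 2, 3, 3, 5, 5], [0, 1, 1, 2, 2, 4, 5, 5], [0, 1, 2, 2, 3, 3, 4, 4, 5], [0, 0, 2, 2, 3, 3,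 4, 4, 5, 5], [0, 0, 1, 3, 3, 5, 5], [1, 1, 3, 4, 4, 5, 5], [0, 0, 1, 3, 3, 4], [0, 0, 1, 2, 3, 3, 4, 4, 5, 5], [1, 3, 4], [0, 0, 1, 1, 4, 4], [0, 1, 1, 2], [0, 5, 5], [0, 1, 3, 4, 4, 5], [0, 0, 3, 4], [0, 0, 2, 5, 5], [0, 0, 1, 3, 3, 5], [0, 2, 2, 4, 4, 5], [1, 3, 4, 5, 5], [0, 1, 1, 4, 5, 5], [1, 3, 3, 4, 5, 5], [0, 3, 4], [0, 1, 4, 5], [1, 1, 2, 2, 3, 4, 4], [0, 1, 1, 2, 3, 4, 5]],
    [[0, 1, 2, 2, 3, 3, 4, 5, 5], [0, 0, 1, 2, 4, 4, 5], [2, 2, 5], [0, 2, 2, 3, 3, 4, 4, 5, 5], [0, 0, 1, 2, 2], [0, 0, 2, 2, 5, 5], [0, 1, 1, 2, 3, 5, 5], [1, 1, 2, 2, 5, 5], [0, 1, 1, 3, 3, 4], [1, 1, 2, 3, 3, 5], [2, 3, 4], [0, 0, 1, 2, 2, 4, 4], [0, 3, 3, 4, 4], [1, 1, 2, 3, 4], [1, 2, 2, 4], [0, 1, 2, 4], [1, 2, 2], [1, 1, 2, 2, 3, 3, 4, 4, 5, 5], [0, 1, 2, 2, 4, 4, 5], [0, 1, 2, 3, 4, 4, 5], [0, 0, 1, 1, 2, 3, 3], [0, 1, 2, 4, 5, 5], [0, 2, 3, 3, 4, 4, 5, 5], [0, 1, 1, 4, 4, 5], [1, 1, 2, 2, 3, 3, 4, 4]]]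

/-- the representatives -/
def threeLvlW0_ : List (List (List ℕ)) := threeLvlW0_0 ++ threeLvlW0_1 ++ threeLvlW0_2

/-- a level -/
def threeLvl0 : Lvl where
  b := 0
  k := 729
  wd := threeLvlW0_
  pos := [21625170507048704861985135573469518981163129623124787946521618349458664553179118568645318273516041486873464301841749528212801078537102441207941137396805208947881523214902230555478583987113943451946512363329323400380130062738624485824164599588255251282657637038352160331975448014430912442440760578420655414285729833063380440450556901268149250940784183690436518932750838533479442377842539966299400471837026733417749513571774013801609786193962286224663961650895818083736744800899112456572361467385894749768066067441628155635510093178254615644716694367151974477442354277209876323266830689421783414218920710007151210699071551968364397590560423227571625738857553883619724339280372688620952414922120834412928566126846882176462435777019164052664274653549801622887948324559424728160040796314943588931492005064922908822936161647042559488472180663056989147172944322575215921953859040601064132627019080208931094528,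 3323824781591459710868776226299138090546537264672104372088736884464327103997741767363430559545516604102339241241234886961265933679787597420707022932060400831860513524149858319292098868186275537885159290213495906581258745076623371102990665569243044330477314764136338810194846527825855896615854436690822847694069349479442232153195517693378046969342628572166404531299527755328656218191022752784845185085236549481498991982559954282904095266340173459588768492085435422259044224144000719673781843848868524005263298479177096680346708977918098339214554675419291143849579990404570011461237330448185392465541625081329618386745790124730213285147143258097412177884550760979902739026300420126633986691346669963961706424456409449811932592591163416311592975638413311458328951917844738689679959462147304553251873879232504250958201017586716695561341691002322911631102372351499667173013677209884093120303142467197860299358890926153, 4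850368959669446926738845336109420685706425129402336774715834749381281920457914420903463155945386930921943883460302677981986680573060639818541860216000368442945913427820660612548491619824930632976488612694869795710319604724016143941932247190895027021537706345424002760228888791812027189316583267920681405033136774376630444486517306960525695008433673700508313469176868008111815539717294100094643908203590494461002139104426425180093876198565040952314355349256955373337347761625253322852876331667065427735489628727432127263980615875831071746962804641610408204401724370769365279514140340588536123816288251015653805557336576133967638488627343440461359680664213539295462366940660868304950056110972324095629653002955921869957940099212830683468957933654481623653931728560288268647335590855251280352936810071842426142244862933401217353333651866626436625062758880236163085956717980322133565185482514726537813971259225677824, 565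8481641577983228185331656061708116753179542262530359281137988130697731647837318897580049439819693318852456425787065098708079984428071967152050917178835636201270508917356380445663469598885065085021092005814228038207359042090283005380943227929281481563035313152501866994440288127675867167671425915728879056422541180017138228688925485906315251694084895495964990654729194194770011777414163433853890525495576090260627527758566430492068963532338192236110775865001050857345774571973557676603167890463657876211406938168890566262133496428897144732526746252918981368520444422887312938675527269973418523204337743398386399539246250285272124974781651534094310143441811950932117190185502714957160856863840374911447459506986631146950025656402390865943447604378187479415297348222737455602789402615428058326410615074159591963026674635046356535150085299456826492475336194081950410370435989964404265043221282816, 50808578385254139451236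0928454922879120388291196633906056548650773471530656585275480446440924470266843439187355064833211174317754583994684438800707495149328068880853516583240079850527036634564045023439272103944070489682707817436970382943369486563834059590505347046267674009434368752707771637794900882685620234265060519459726149470519353597644344904052714659870852015971181665483295924317168327699311582676738900232486600902801179470498977914486120954509928248206681921110407062935996242081895609875849517967868629253495696887526791520548099685031612871720667126682607431331369589240959948264119663255610656936124544194842253629880739854769430512290128914145246328551489627849078082710827937636519728198523534121164958648828671281457709657534209142857765421580249435108009671578558273374419160855401782803827556729521222968758307623097802850717133483240963401932634632936516474224312042958028859926873374720, 70509713333129826085861804203463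1359318164041863695427444668796214298671656790088132791560206000182389419479702133364922531711293937010861289184828759916180582511309501236350792062420621838525186205553617296141903675314653541134795678532868923922772969972022098265153858508683646007525876041661074226684764210231504900136196775194950749355091772320891107988385127972694277044672926328857896105624087001900325621292925111952292674093001881058847242462636830047082904278109156259036998822715960598926272135993721642146517096417674595415056934826627870873362182079998215239973375208520484505446736250540586039633575351550682360046577222499482263390964278056196071337578535358072936502930597811027572921378476306686677251723995830744445873932096128009978755075056605154922050959487619542759206726526823591355077333991067737892683531421636435017431306576808857020209813742568989216327842888838033191945418600193069169761050427392, 47850148825488790893241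546023074828368929818788218840309386918272137285120696570193694378200210281667934574048571756738457540691815050943196242046762603435520600939522262575383276098304545718659360262782612193406618113184071791775773824396640829560743707213391067237430445075040252148462830249751524173278805412975910324602718568425498729126974620304750393765390981158902322188535988835033280688686228938185539357266906690999388491496722579053000232600427379699320336341784277032277699736687840221807676587179182611276154004900109543021169382728823579849847770435157404753794537918789866896029509380185292734751188489067003002595143822740642276703240835111490107848739943905716452582143174883184610571700661666847577758898851009286076800106886418563267081519542692719220266208756072459239694295529196770908239850470905207775881789475090501262358168045940122367863874552277615740391941144944547687048079473815718985728, 223696571371511904344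970913978501112692913146280813905949105628720105351728604733751824700758095829147802324842971183198399509994267817764422638994606431294132066945117764303083912706875780076401670192211286225802484826804244606935971500750692811996239667654652522960406450523325379501693671419671012353842334406414458777846970434669722714783023053469214541375903110910552246278038154832866646973478497586742263175341566901354227552286115589563401093746369559232847039860808972180746176319368041977807001398703929062435982683385420973640397256504423470425497028904613256977685490440786246214627212384079476309124906234655732534291379270953085747999952837129703373327385173955459301329224268775618118994230753248886740227220155689296726212786293560817431866606473139103282600121233648290165008044210567167456445896202940391603864636064809460833517301130372304221814811777151256055822786800481686050833746133422435045737015, 895827246721284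940987743905530752695414198206240536818894638767509356885141489553812565282747959366124782440634579387928482853072755483303998274906166475632764540752179752718290555741339271089556625022461509744005910796196102380703285431532503129379659581688098816597457855526539956936253043940775133430143275439227847967797845813168266496831841459639577580120475757128144551386010381804309015552749936501151734226089860156299825171060441422913402425961246648506729362906170196885551876818433006843870090649639040560859054591809711216527107460179254954732653020048228152409020043258669447081747520543031713991935610717338805263671884880918152680384668856028242320908129997516772675112564386312547301550576950008682652890784931660557531424033673034070130934052102265442741637473763946034416567387204671296677517994373804785270969753898406369384571354178809033028266415184512305255759268955207973516932546560]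

/-- part of the representatives -/
def threeLvlW1_0 : List (List (List ℕ)) :=
  [[[]]]

/-- the representatives -/
def threeLvlW1_ : List (List (List ℕ)) := threeLvlW1_0

/-- a level -/
def threeLvl1 : Lvl where
  b := 571
  k := 1
  wd := threeLvlW1_
  pos := [0, 0, 0, 0, 0, 0, 0, 0, 0]

/-- part of the representatives -/
def threeLvlW2_0 : List (List (List ℕ)) :=
  [[[]]]

/-- the representatives -/
def threeLvlW2_ : List (List (List ℕ)) := threeLvlW2_0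

/-- a level -/
def threeLvl2 : Lvl where
  b := 1115
  k := 1
  wd := threeLvlW2_
  pos := [0, 0, 0, 0, 0, 0, 0, 0, 0]

/-- part of the representatives -/
def threeLvlW3_0 : List (List (List ℕ)) :=
  [[[]]]

/-- the representatives -/
def threeLvlW3_ : List (List (List ℕ)) := threeLvlW3_0

/-- a level -/
def threeLvl3 : Lvl where
  b := 1305
  k := 1
  wd := threeLvlW3_
  pos := [0, 0, 0, 0, 0, 0, 0, 0, 0]

/-- part of the representatives -/
def threeLvlW4_0 : List (List (List ℕ)) :=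
  [[[]]]

/-- the representatives -/
def threeLvlW4_ : List (List (List ℕ)) := threeLvlW4_0

/-- a level -/
def threeLvl4 : Lvl where
  b := 1437
  k := 1
  wd := threeLvlW4_
  pos := [0, 0, 0, 0, 0, 0, 0, 0, 0]

/-- part of the representatives -/
def threeLvlW5_0 : List (List (List ℕ)) :=
  [[[]]]

/-- the representatives -/
def threeLvlW5_ : List (List (List ℕ)) := threeLvlW5_0

/-- a level -/
def threeLvl5 : Lvl where
  b := 599
  k := 1
  wd := threeLvlW5_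
  pos := [0, 0, 0, 0, 0, 0, 0, 0, 0]

/-- the chain -/
def threeChain : List Lvl := [threeLvl0, threeLvl1, threeLvl2, threeLvl3, threeLvl4, threeLvl5]

/-- the certificate -/
def threeCert : Cert where
  p := 3
  n := 6
  ng := 11
  M := 21
  rels := threeRels
  eqs := threeEqs
  vecs := threeVecs
  gauge := threeGauge
  combs := threeCombs

end Cfsg.Agent.Lie.ConwayTwoMult
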