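import Cfsg.Agent.Lib.Lie.ConwayTwoMult.Defs
import Cfsg.Agent.Lib.Lie.ConwayTwoMult.ThreeData

/-!
The checks for the part at one prime (three) of the multiplier of the second Conway group.
-/

set_option autoImplicit false
set_option maxRecDepth 100000

namespace Cfsg.Agent.Lie.ConwayTwoMult

open ConwayTwoOut OutTables PermTable CentralRewrite

theorem three_letters : lettersOK threeW = true := by decide +kernel

theorem three_rels : threeCert.rels.all (relOK threeW) = true := by decide +kernel

theorem three_chain : chainOK (genTab threeW) data.N threeCert.n threeChain [] = true := by decide +kernel

theorem three_series : seriesOK threeCert.p threeCert.n threeCert.M threeCert.rels = true := by decide +kernel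

theorem three_pairs :
    (List.range threeCert.eqs.length).all (fun i => pairOK threeCert.rels (threeCert.eqs.getD i ([], [], []))) = true := by
  decide +kernel

theorem three_vec : vecOK threeCert.p threeCert.rels.length threeCert.eqs threeCert.vecs = true := by decide +kernel

theorem three_kill0 : ((List.range' 0 21).all fun b =>
    killOK threeCert.p threeCert.rels.length threeCert.ng threeCert.rels threeCert.gauge threeCert.vecs threeCert.combs b) = true := by
  decide +kernel

theorem three_valid : threeCert.Valid where
  series := three_series
  pairs := three_pairs
  vec := three_vec
  veclen := by decide +kernel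
  letters := by decide +kernel
  gaugeOK := by decide +kernel
  nng := by decide +kernel
  kill := fun b hb => by
    change b < 21 at hb
    exact List.all_eq_true.1 three_kill0 b (List.mem_range'_1.2 ⟨Nat.zero_le b, by omega⟩)

end Cfsg.Agent.Lie.ConwayTwoMult
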