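import Cfsg.Agent.Lib.Lie.ConwayTwoMult.TwoCheck
import Cfsg.Agent.Lib.Lie.ConwayTwoMult.ThreeCheck
import Cfsg.Agent.Lib.Lie.ConwayTwoMult.FiveCheck
import Cfsg.Agent.Lib.Lie.CentralLocal
import Cfsg.Agent.Lib.Lie.CentralStage

/-!
The Schur multiplier of the second Conway group is trivial.
-/

set_option autoImplicit false
set_option maxRecDepth 100000

namespace Cfsg.Agent.Lie.ConwayTwoMult

open ConwayTwoOut OutTables PermTable CentralRewrite

theorem two_facts : twoCert.p ^ twoCert.n ≤ chainSize twoChain ∧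
    ¬ twoCert.p ∣ 42305421312000 / twoCert.p ^ twoCert.n :=
  ⟨by decide +kernel, by decide +kernel⟩

theorem three_facts : threeCert.p ^ threeCert.n ≤ chainSize threeChain ∧
    ¬ threeCert.p ∣ 42305421312000 / threeCert.p ^ threeCert.n :=
  ⟨by decide +kernel, by decide +kernel⟩

theorem five_facts : fiveCert.p ^ fiveCert.n ≤ chainSize fiveChain ∧
    ¬ fiveCert.p ∣ 42305421312000 / fiveCert.p ^ fiveCert.n :=
  ⟨by decide +kernel, by decide +kernel⟩

theorem multiplier_trivial : Cfsg.HasCyclicSchurMultiplier CG 1 := by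
  haveI : Finite CG := Nat.finite_of_card_ne_zero (by rw [card_CG]; norm_num)
  refine Solv.hasCyclicSchur_one_of fun Γ _ _ σ hσ k hk => ?_
  have hno : ∀ q, q.Prime → ∀ z : σ.ker, z ^ q = 1 → z = 1 := by
    intro q hq z hz
    by_cases h235 : q = 2 ∨ q = 3 ∨ q = 5
    · by_contra hne
      obtain ⟨Δ, _, _, τ, hτ, hcard⟩ := CentralLocal.exists_stem_of_prime hσ hq hz hne
      rcases h235 with rfl | rfl | rfl
      · exact no_kernel two_valid hq two_letters two_rels two_chain two_facts.1 two_facts.2 hτ hcard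
      · exact no_kernel three_valid hq three_letters three_rels three_chain three_facts.1 three_facts.2 hτ hcard
      · exact no_kernel five_valid hq five_letters five_rels five_chain five_facts.1 five_facts.2 hτ hcard
    refine CentralTable.ker_no_torsion hσ hq (fun h => ?_) z hz
    rw [card_CG, show (42305421312000 : ℕ) = 2 ^ 18 * 3 ^ 6 * 5 ^ 3 * 7 * 11 * 23 by norm_num] at h
    have hdvd : q ∣ 2 ^ 18 * 3 ^ 6 * 5 ^ 3 * 7 * 11 * 23 := (dvd_pow_self q two_ne_zero).trans h
    simp only [hq.dvd_mul] at hdvd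
    have key : ∀ p : ℕ, p.Prime → q ∣ p → q = p := fun p hp e => (Nat.prime_dvd_prime_iff_eq hq hp).1 e
    rcases hdvd with ((((e | e) | e) | e) | e) | e
    · exact h235 (Or.inl (key 2 Nat.prime_two (hq.dvd_of_dvd_pow e)))
    · exact h235 (Or.inr (Or.inl (key 3 Nat.prime_three (hq.dvd_of_dvd_pow e))))
    · exact h235 (Or.inr (Or.inr (key 5 Nat.prime_five (hq.dvd_of_dvd_pow e))))
    all_goals
      obtain rfl := key _ (by norm_num) e
      norm_num at h
  by_contra hne
  have hne' : (⟨k, hk⟩ : σ.ker) ≠ 1 := fun e => hne (congrArg Subtype.val e)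
  have hpos : orderOf (⟨k, hk⟩ : σ.ker) ≠ 1 := fun e => hne' (orderOf_eq_one_iff.1 e)
  obtain ⟨q, hq, hd⟩ := Nat.exists_prime_and_dvd hpos
  have hord : orderOf ((⟨k, hk⟩ : σ.ker) ^ (orderOf (⟨k, hk⟩ : σ.ker) / q)) = q :=
    orderOf_pow_orderOf_div (orderOf_pos _).ne' hd
  have h1 := hno q hq _ (hord ▸ pow_orderOf_eq_one _)
  rw [h1, orderOf_one] at hord
  exact hq.one_lt.ne hord

/-- The statement on the group of the definitions. -/
theorem multiplier : Cfsg.HasCyclicSchurMultiplier ↥Cfsg.Spor.Co2 1 := by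
  obtain ⟨e⟩ := co2_iso
  haveI : Finite CG := Nat.finite_of_card_ne_zero (by rw [card_CG]; norm_num)
  haveI : Finite ↥Cfsg.Spor.Co2 := Finite.of_equiv _ e.symm.toEquiv
  obtain ⟨-, hall⟩ := multiplier_trivial
  refine Solv.hasCyclicSchur_one_of fun Γ _ _ σ hσ k hk => ?_
  have hker : (e.toMonoidHom.comp σ).ker = σ.ker := by ext y; simp [MonoidHom.mem_ker]
  obtain ⟨π, hπ⟩ := hall Γ (e.toMonoidHom.comp σ) ⟨e.surjective.comp hσ.1, hker ▸ hσ.2.1, hker ▸ hσ.2.2⟩
  obtain ⟨a, ha⟩ := hπ ⟨k, hker.symm ▸ hk⟩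
  rw [Subsingleton.elim a 1, map_one] at ha
  exact (congrArg Subtype.val ha).symm

end Cfsg.Agent.Lie.ConwayTwoMult
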