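import Cfsg.Agent.Lib.Lie.CentralRewrite.Main
import Cfsg.Agent.Lib.Lie.PermTable

/-!
Data for the part at the prime 2 of the multiplier of the second Conway group: a Sylow subgroup by words,
relations, pairs of derivations and combinations.
-/

set_option autoImplicit false
set_option maxRecDepth 100000

namespace Cfsg.Agent.Lie.ConwayTwoMult

open CentralRewrite PermTable

/-- part of the generators -/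
def twoW0 : List (List ℕ) :=
  [[5, 9, 2, 18, 16, 7, 4, 18, 10, 20, 15, 12, 16, 20],
    [16, 1, 4, 0, 11, 11, 15, 4, 11, 9, 16, 15, 13, 18, 16, 22],
    [9, 17, 8, 4, 10, 13, 9, 15, 18, 14, 13, 18, 20, 22],
    [17, 9, 2, 6, 16, 4, 4, 8, 15, 8, 15, 15, 22, 18],
    [13, 8, 4, 13, 8, 16, 9, 12, 14, 18, 13, 18],
    [22, 4, 18, 10, 9, 15, 12, 12, 12, 17, 20, 22],
    [2, 20, 9, 1, 8, 8, 10, 4, 14, 16, 10, 12, 15, 16, 12, 12, 18, 20, 16],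
    [0, 18, 7, 0, 12, 18, 4, 17, 8, 8, 22, 12, 15, 18, 17],
    [5, 9, 2, 18, 11, 17, 4, 14, 14, 8, 8, 22, 15, 16, 12, 18, 16, 16],
    [8, 18, 5, 11, 12, 8, 15, 12, 14, 12, 18, 22, 18, 22],
    [10, 17, 4, 18, 9, 9, 20, 16, 14, 13, 16, 18, 16, 22],
    [11, 20, 4, 9, 12, 11, 12, 15, 22],
    [7, 17, 7, 9, 12, 11, 17, 12, 15, 16, 22],
    [5, 9, 2, 18, 10, 4, 22, 8, 10, 12, 16, 15, 13, 20, 17, 22],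
    [9, 12, 4, 15, 11, 8, 8, 16, 15, 16, 12, 12, 16, 18, 16, 22],
    [18, 10, 4, 9, 16, 11, 8, 13, 15, 13, 20, 12, 18, 17, 22],
    [5, 9, 2, 4, 16, 11, 4, 12, 12, 8, 8, 15, 15, 18, 17, 22],
    [5, 9, 2, 6, 8, 5, 11, 16, 11, 8, 20, 14, 20, 12, 12, 18],
    [22, 4, 0, 0, 12, 8, 4, 4, 9, 11, 8, 12, 15, 12, 12, 17, 20, 22],
    [9, 9, 4, 1, 6, 18, 22, 4, 13, 8, 10, 17, 18, 12, 12, 18, 16, 18, 16]]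

/-- part of the generators -/
def twoW1 : List (List ℕ) :=
  [[1, 5, 0, 5, 20, 8, 16, 8, 17, 14, 13, 13, 18, 16, 16, 22],
    [5, 15, 2, 18, 5, 7, 4, 15, 12, 8, 12, 15, 16, 12, 12, 16, 18, 22],
    [14, 5, 1, 1, 18, 13, 11, 4, 20, 11, 17, 8, 12, 15, 15, 18, 20, 16, 22],
    [18, 5, 0, 0, 8, 8, 10, 4, 9, 18, 8, 15, 15, 16, 20, 22],
    [2, 15, 2, 12, 12, 7, 9, 9, 14, 14, 12, 12, 18, 20, 17],
    [11, 15, 2, 0, 7, 13, 6, 4, 9, 10, 12, 8, 14, 13, 15, 13, 18, 20, 22]]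

/-- the generators -/
def twoW : List (List ℕ) := twoW0 ++ twoW1

/-- part of the relations -/
def twoRels0 : List Rule :=
  [([0, 0], []),
    ([1, 0], [0, 1]),
    ([1, 1], []),
    ([2, 0], [0, 2, 5]),
    ([2, 1], [1, 2, 3]),
    ([2, 2], []),
    ([3, 0], [0, 3, 6]),
    ([3, 1], [1, 3]),
    ([3, 2], [2, 3]),
    ([3, 3], []),
    ([4, 0], [0, 4]),
    ([4, 1], [1, 4, 6]),
    ([4, 2], [2, 4, 5]),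
    ([4, 3], [3, 4, 6, 7]),
    ([4, 4], []),
    ([5, 0], [0, 5]),
    ([5, 1], [1, 5, 6, 7]),
    ([5, 2], [2, 5]),
    ([5, 3], [3, 5, 7]),
    ([5, 4], [4, 5])]

/-- part of the relations -/
def twoRels1 : List Rule :=
  [([5, 5], []),
    ([6, 0], [0, 6]),
    ([6, 1], [1, 6]),
    ([6, 2], [2, 6, 7]),
    ([6, 3], [3, 6]),
    ([6, 4], [4, 6]),
    ([6, 5], [5, 6]),
    ([6, 6], []),
    ([7, 0], [0, 7]),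
    ([7, 1], [1, 7]),
    ([7, 2], [2, 7]),
    ([7, 3], [3, 7]),
    ([7, 4], [4, 7]),
    ([7, 5], [5, 7]),
    ([7, 6], [6, 7]),
    ([7, 7], []),
    ([8, 0], [0, 8, 9, 12, 15, 16, 17]),
    ([8, 1], [1, 8, 15, 16, 17]),
    ([8, 2], [2, 8, 12, 15]),
    ([8, 3], [3, 8, 13, 14, 15])]

/-- part of the relations -/
def twoRels2 : List Rule :=
  [([8, 4], [4, 8, 9, 15, 16, 17]),
    ([8, 5], [5, 8, 10, 15, 16, 17]),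
    ([8, 6], [6, 8, 13, 15, 16, 17]),
    ([8, 7], [7, 8, 14, 17]),
    ([8, 8], []),
    ([9, 0], [0, 9, 15, 16, 17]),
    ([9, 1], [1, 9, 13]),
    ([9, 2], [2, 9, 10, 11, 16, 17]),
    ([9, 3], [3, 9, 13, 14, 15, 16]),
    ([9, 4], [4, 9]),
    ([9, 5], [5, 9, 11, 16, 17]),
    ([9, 6], [6, 9, 15, 16, 17]),
    ([9, 7], [7, 9, 15]),
    ([9, 8], [8, 9]),
    ([9, 9], []),
    ([10, 0], [0, 10, 11]),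
    ([10, 1], [1, 10, 13, 14]),
    ([10, 2], [2, 10]),
    ([10, 3], [3, 10, 14, 15, 17]),
    ([10, 4], [4, 10, 11, 16, 17])]

/-- part of the relations -/
def twoRels3 : List Rule :=
  [([10, 5], [5, 10]),
    ([10, 6], [6, 10, 15]),
    ([10, 7], [7, 10, 16, 17]),
    ([10, 8], [8, 10]),
    ([10, 9], [9, 10]),
    ([10, 10], []),
    ([11, 0], [0, 11]),
    ([11, 1], [1, 11, 15, 16, 17]),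
    ([11, 2], [2, 11]),
    ([11, 3], [3, 11, 16]),
    ([11, 4], [4, 11]),
    ([11, 5], [5, 11]),
    ([11, 6], [6, 11]),
    ([11, 7], [7, 11]),
    ([11, 8], [8, 11]),
    ([11, 9], [9, 11]),
    ([11, 10], [10, 11]),
    ([11, 11], []),
    ([12, 0], [0, 12, 15, 16, 17]),
    ([12, 1], [1, 12, 13])]

/-- part of the relations -/
def twoRels4 : List Rule :=
  [([12, 2], [2, 12, 16, 17]),
    ([12, 3], [3, 12, 14, 15, 16]),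
    ([12, 4], [4, 12, 15, 16, 17]),
    ([12, 5], [5, 12, 16, 17]),
    ([12, 6], [6, 12, 15, 16, 17]),
    ([12, 7], [7, 12, 16, 17]),
    ([12, 8], [8, 12]),
    ([12, 9], [9, 12]),
    ([12, 10], [10, 12]),
    ([12, 11], [11, 12]),
    ([12, 12], []),
    ([13, 0], [0, 13]),
    ([13, 1], [1, 13]),
    ([13, 2], [2, 13, 14, 15, 16, 17]),
    ([13, 3], [3, 13]),
    ([13, 4], [4, 13, 15, 16, 17]),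
    ([13, 5], [5, 13, 15]),
    ([13, 6], [6, 13]),
    ([13, 7], [7, 13, 17]),
    ([13, 8], [8, 13])]

/-- part of the relations -/
def twoRels5 : List Rule :=
  [([13, 9], [9, 13]),
    ([13, 10], [10, 13]),
    ([13, 11], [11, 13]),
    ([13, 12], [12, 13]),
    ([13, 13], []),
    ([14, 0], [0, 14, 15, 16, 17]),
    ([14, 1], [1, 14]),
    ([14, 2], [2, 14, 16, 17]),
    ([14, 3], [3, 14, 17]),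
    ([14, 4], [4, 14, 15]),
    ([14, 5], [5, 14, 16, 17]),
    ([14, 6], [6, 14, 17]),
    ([14, 7], [7, 14]),
    ([14, 8], [8, 14]),
    ([14, 9], [9, 14]),
    ([14, 10], [10, 14]),
    ([14, 11], [11, 14]),
    ([14, 12], [12, 14]),
    ([14, 13], [13, 14]),
    ([14, 14], [])]

/-- part of the relations -/
def twoRels6 : List Rule :=
  [([15, 0], [0, 15]),
    ([15, 1], [1, 15, 17]),
    ([15, 2], [2, 15, 16, 17]),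
    ([15, 3], [3, 15, 17]),
    ([15, 4], [4, 15]),
    ([15, 5], [5, 15]),
    ([15, 6], [6, 15]),
    ([15, 7], [7, 15]),
    ([15, 8], [8, 15]),
    ([15, 9], [9, 15]),
    ([15, 10], [10, 15]),
    ([15, 11], [11, 15]),
    ([15, 12], [12, 15]),
    ([15, 13], [13, 15]),
    ([15, 14], [14, 15]),
    ([15, 15], []),
    ([16, 0], [0, 16]),
    ([16, 1], [1, 16, 17]),
    ([16, 2], [2, 16]),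
    ([16, 3], [3, 16])]

/-- part of the relations -/
def twoRels7 : List Rule :=
  [([16, 4], [4, 16]),
    ([16, 5], [5, 16]),
    ([16, 6], [6, 16]),
    ([16, 7], [7, 16]),
    ([16, 8], [8, 16]),
    ([16, 9], [9, 16]),
    ([16, 10], [10, 16]),
    ([16, 11], [11, 16]),
    ([16, 12], [12, 16]),
    ([16, 13], [13, 16]),
    ([16, 14], [14, 16]),
    ([16, 15], [15, 16]),
    ([16, 16], []),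
    ([17, 0], [0, 17]),
    ([17, 1], [1, 17]),
    ([17, 2], [2, 17]),
    ([17, 3], [3, 17]),
    ([17, 4], [4, 17]),
    ([17, 5], [5, 17]),
    ([17, 6], [6, 17])]

/-- part of the relations -/
def twoRels8 : List Rule :=
  [([17, 7], [7, 17]),
    ([17, 8], [8, 17]),
    ([17, 9], [9, 17]),
    ([17, 10], [10, 17]),
    ([17, 11], [11, 17]),
    ([17, 12], [12, 17]),
    ([17, 13], [13, 17]),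
    ([17, 14], [14, 17]),
    ([17, 15], [15, 17]),
    ([17, 16], [16, 17]),
    ([17, 17], []),
    ([18, 8], [15, 16, 18]),
    ([18, 9], [12, 14, 18]),
    ([18, 10], [9, 10, 11, 13, 16, 18]),
    ([18, 11], [8, 9, 10, 11, 12, 18]),
    ([18, 12], [8, 9, 10, 11, 15, 16, 18]),
    ([18, 13], [9, 11, 12, 13, 16, 18]),
    ([18, 14], [8, 9, 11, 13, 18]),
    ([18, 15], [9, 10, 11, 12, 13, 14, 15, 16, 17, 18]),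
    ([18, 16], [8, 11, 12, 18])]

/-- part of the relations -/
def twoRels9 : List Rule :=
  [([18, 17], [11, 12, 15, 17, 18]),
    ([19, 2, 7, 12], [1, 14, 17, 19]),
    ([19, 5, 15], [1, 3, 6, 7, 17, 19]),
    ([20, 1, 3], [2, 3, 7, 20]),
    ([20, 8], [8, 9, 10, 14, 16, 20]),
    ([20, 9], [8, 10, 20]),
    ([20, 10], [9, 11, 20]),
    ([20, 11], [9, 10, 15, 16, 17, 20]),
    ([20, 12], [8, 20]),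
    ([20, 13], [14, 15, 16, 20]),
    ([20, 14], [8, 9, 10, 11, 15, 20]),
    ([20, 15], [10, 11, 13, 14, 20]),
    ([20, 16], [8, 9, 12, 14, 15, 16, 20]),
    ([20, 17], [10, 11, 12, 15, 16, 20]),
    ([21, 0, 2], [0, 1, 2, 4, 7, 21]),
    ([21, 4], [1, 7, 21]),
    ([21, 5], [3, 7, 21]),
    ([21, 8], [12, 13, 14, 16, 21]),
    ([21, 9], [15, 16, 21]),
    ([21, 10], [13, 14, 17, 21])]

/-- part of the relations -/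
def twoRels10 : List Rule :=
  [([21, 11], [14, 15, 16, 21]),
    ([21, 12], [8, 9, 10, 11, 12, 13, 14, 15, 21]),
    ([21, 13], [8, 10, 14, 21]),
    ([21, 14], [10, 14, 16, 17, 21]),
    ([21, 15], [13, 14, 16, 17, 21]),
    ([21, 16], [8, 9, 10, 15, 21]),
    ([21, 17], [8, 9, 10, 14, 16, 17, 21]),
    ([22, 0], [0, 2, 4, 5, 7, 22]),
    ([22, 4], [2, 5, 7, 22]),
    ([22, 5, 7], [2, 3, 5, 6, 22]),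
    ([22, 6], [2, 5, 22]),
    ([22, 8], [8, 9, 15, 22]),
    ([22, 9], [12, 14, 15, 16, 22]),
    ([22, 10], [8, 22]),
    ([22, 11], [14, 16, 22]),
    ([22, 12], [10, 11, 12, 15, 22]),
    ([22, 13], [12, 22]),
    ([22, 14], [8, 12, 13, 14, 15, 22]),
    ([22, 15], [10, 12, 22]),
    ([22, 16], [14, 22])]

/-- part of the relations -/
def twoRels11 : List Rule :=
  [([22, 17], [10, 12, 14, 16, 17, 22]),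
    ([23, 0], [0, 2, 3, 4, 6, 23]),
    ([23, 1, 7], [2, 23]),
    ([23, 8], [8, 14, 16, 23]),
    ([23, 9], [8, 9, 10, 13, 14, 15, 16, 17, 23]),
    ([23, 10], [8, 16, 17, 23]),
    ([23, 11], [10, 13, 14, 15, 16, 17, 23]),
    ([23, 12], [8, 9, 14, 15, 17, 23]),
    ([23, 13], [8, 9, 13, 14, 23]),
    ([23, 14], [10, 11, 16, 17, 23]),
    ([23, 15], [8, 9, 13, 14, 16, 17, 23]),
    ([23, 16], [8, 9, 10, 11, 12, 13, 14, 15, 16, 17, 23]),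
    ([23, 17], [10, 11, 12, 14, 16, 17, 23]),
    ([24, 8, 10, 11, 12, 15, 17], [0, 4, 6, 11, 12, 13, 15, 16, 24]),
    ([25, 0, 4, 5, 11], [1, 3, 7, 9, 10, 12, 25]),
    ([25, 1], [1, 6, 13, 14, 15, 17, 25]),
    ([25, 2, 12], [1, 3, 7, 9, 10, 11, 15, 16, 17, 25]),
    ([25, 3], [1, 6, 7, 13, 14, 25]),
    ([25, 6], [6, 7, 17, 25]),
    ([25, 7], [1, 3, 7, 25])]

/-- part of the relations -/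
def twoRels12 : List Rule :=
  [([25, 10, 11, 12], [1, 3, 7, 8, 10, 11, 14, 15, 16, 25]),
    ([25, 13], [1, 6, 7, 13, 14, 15, 16, 17, 25]),
    ([25, 14], [1, 3, 7, 13, 15, 16, 25]),
    ([25, 15], [1, 3, 7, 15, 25]),
    ([25, 16], [13, 14, 25]),
    ([25, 17], [17, 25])]

/-- the relations -/
def twoRels : List Rule := twoRels0 ++ twoRels1 ++ twoRels2 ++ twoRels3 ++ twoRels4 ++ twoRels5 ++ twoRels6 ++ twoRels7 ++ twoRels8 ++ twoRels9 ++ twoRels10 ++ twoRels11 ++ twoRels12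

/-- part of the pairs -/
def twoEqs0 : List Pair :=
  [([2, 0, 0], [(0, 3, true), (2, 15, true), (1, 3, true), (0, 0, true), (1, 20, true)], [(1, 0, true)]),
    ([2, 1, 1], [(0, 4, true), (2, 7, true), (1, 4, true), (0, 2, true), (1, 9, true)], [(1, 2, true)]),
    ([2, 2, 0], [(0, 5, true)], [(1, 3, true), (0, 3, true), (2, 17, true), (1, 5, true), (1, 20, true)]),
    ([2, 2, 1], [(0, 5, true)], [(1, 4, true), (0, 4, true), (2, 8, true), (1, 5, true), (1, 9, true)]),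
    ([3, 0, 0], [(0, 6, true), (2, 21, true), (1, 6, true), (0, 0, true), (1, 27, true)], [(1, 0, true)]),
    ([3, 3, 0], [(0, 9, true)], [(1, 6, true), (0, 6, true), (2, 24, true), (1, 9, true), (1, 27, true)]),
    ([4, 1, 1], [(0, 11, true), (2, 22, true), (1, 11, true), (0, 2, true), (1, 27, true)], [(1, 2, true)]),
    ([4, 4, 1], [(0, 14, true)], [(1, 11, true), (0, 11, true), (2, 25, true), (1, 14, true), (1, 27, true)]),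
    ([4, 4, 2], [(0, 14, true)], [(1, 12, true), (0, 12, true), (2, 19, true), (1, 14, true), (1, 20, true)]),
    ([5, 3, 3], [(0, 18, true), (2, 31, true), (1, 18, true), (0, 9, true), (1, 35, true)], [(1, 9, true)])]

/-- part of the pairs -/
def twoEqs1 : List Pair :=
  [([5, 5, 3], [(0, 20, true)], [(1, 18, true), (0, 18, true), (2, 33, true), (1, 20, true), (1, 35, true)]),
    ([6, 2, 2], [(0, 23, true), (2, 30, true), (1, 23, true), (0, 5, true), (1, 35, true)], [(1, 5, true)]),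
    ([6, 6, 2], [(0, 27, true)], [(1, 23, true), (0, 23, true), (2, 34, true), (1, 27, true), (1, 35, true)]),
    ([9, 1, 1], [(0, 46, true), (2, 92, true), (1, 46, true), (0, 2, true), (1, 104, true)], [(1, 2, true)]),
    ([9, 7, 7], [(0, 52, true), (2, 127, true), (1, 52, true), (0, 35, true), (1, 135, true)], [(1, 35, true)]),
    ([9, 9, 1], [(0, 54, true)], [(1, 46, true), (0, 46, true), (2, 100, true), (1, 54, true), (1, 104, true)]),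
    ([9, 9, 7], [(0, 54, true)], [(1, 52, true), (0, 52, true), (2, 129, true), (1, 54, true), (1, 135, true)]),
    ([10, 0, 0], [(0, 55, true), (2, 66, true), (1, 55, true), (0, 0, true), (1, 77, true)], [(1, 0, true)]),
    ([10, 6, 6], [(0, 61, true), (2, 126, true), (1, 61, true), (0, 27, true), (1, 135, true)], [(1, 27, true)]),
    ([10, 10, 0], [(0, 65, true)], [(1, 55, true), (0, 55, true), (2, 76, true), (1, 65, true), (1, 77, true)])]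

/-- part of the pairs -/
def twoEqs2 : List Pair :=
  [([10, 10, 6], [(0, 65, true)], [(1, 61, true), (0, 61, true), (2, 130, true), (1, 65, true), (1, 135, true)]),
    ([11, 3, 3], [(0, 69, true), (2, 139, true), (1, 69, true), (0, 9, true), (1, 152, true)], [(1, 9, true)]),
    ([11, 11, 3], [(0, 77, true)], [(1, 69, true), (0, 69, true), (2, 147, true), (1, 77, true), (1, 152, true)]),
    ([12, 12, 1], [(0, 90, true)], [(1, 79, true), (0, 79, true), (2, 103, true), (1, 90, true), (1, 104, true)]),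
    ([13, 5, 5], [(0, 96, true), (2, 125, true), (1, 96, true), (0, 20, true), (1, 135, true)], [(1, 20, true)]),
    ([13, 7, 7], [(0, 98, true), (2, 160, true), (1, 98, true), (0, 35, true), (1, 170, true)], [(1, 35, true)]),
    ([13, 13, 5], [(0, 104, true)], [(1, 96, true), (0, 96, true), (2, 133, true), (1, 104, true), (1, 135, true)]),
    ([13, 13, 7], [(0, 104, true)], [(1, 98, true), (0, 98, true), (2, 166, true), (1, 104, true), (1, 170, true)]),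
    ([14, 3, 3], [(0, 108, true), (2, 156, true), (1, 108, true), (0, 9, true), (1, 170, true)], [(1, 9, true)]),
    ([14, 4, 4], [(0, 109, true), (2, 124, true), (1, 109, true), (0, 14, true), (1, 135, true)], [(1, 14, true)])]

/-- part of the pairs -/
def twoEqs3 : List Pair :=
  [([14, 6, 6], [(0, 111, true), (2, 159, true), (1, 111, true), (0, 27, true), (1, 170, true)], [(1, 27, true)]),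
    ([14, 14, 3], [(0, 119, true)], [(1, 108, true), (0, 108, true), (2, 167, true), (1, 119, true), (1, 170, true)]),
    ([14, 14, 4], [(0, 119, true)], [(1, 109, true), (0, 109, true), (2, 134, true), (1, 119, true), (1, 135, true)]),
    ([15, 1, 1], [(0, 121, true), (2, 154, true), (1, 121, true), (0, 2, true), (1, 170, true)], [(1, 2, true)]),
    ([15, 15, 1], [(0, 135, true)], [(1, 121, true), (0, 121, true), (2, 168, true), (1, 135, true), (1, 170, true)]),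
    ([16, 16, 1], [(0, 152, true)], [(1, 137, true), (0, 137, true), (2, 169, true), (1, 152, true), (1, 170, true)]),
    ([3, 1, 0], [(0, 7, true), (1, 6, true), (0, 1, true)], [(1, 1, true), (0, 6, true), (2, 22, true), (1, 7, true)]),
    ([5, 3, 2], [(0, 18, true), (2, 30, true), (1, 17, true), (0, 8, true)], [(1, 8, true), (0, 17, true), (1, 18, true)]),
    ([9, 7, 4], [(0, 52, true), (2, 124, true), (1, 49, true), (0, 32, true)], [(1, 32, true), (0, 49, true), (1, 52, true)]),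
    ([10, 5, 0], [(0, 60, true), (1, 55, true), (0, 15, true)], [(1, 15, true), (0, 55, true), (2, 71, true), (1, 60, true)])]

/-- part of the pairs -/
def twoEqs4 : List Pair :=
  [([11, 3, 2], [(0, 69, true), (2, 138, true), (1, 68, true), (0, 8, true)], [(1, 8, true), (0, 68, true), (1, 69, true)]),
    ([11, 6, 2], [(0, 72, true), (1, 68, true), (0, 23, true)], [(1, 23, true), (0, 68, true), (1, 72, true), (2, 73, true)]),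
    ([11, 6, 3], [(0, 72, true), (1, 69, true), (0, 24, true)], [(1, 24, true), (0, 69, true), (2, 142, true), (1, 72, true)]),
    ([11, 7, 3], [(0, 73, true), (1, 69, true), (0, 31, true)], [(1, 31, true), (0, 69, true), (2, 143, true), (1, 73, true)]),
    ([11, 9, 7], [(0, 75, true), (1, 73, true), (0, 52, true), (2, 131, true)], [(1, 52, true), (0, 73, true), (1, 75, true)]),
    ([13, 3, 0], [(0, 94, true), (1, 91, true), (0, 6, true)], [(1, 6, true), (0, 91, true), (1, 94, true), (2, 97, true)]),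
    ([13, 5, 0], [(0, 96, true), (2, 120, true), (1, 91, true), (0, 15, true)], [(1, 15, true), (0, 91, true), (1, 96, true)]),
    ([13, 7, 0], [(0, 98, true), (2, 153, true), (1, 91, true), (0, 28, true)], [(1, 28, true), (0, 91, true), (1, 98, true)]),
    ([13, 7, 1], [(0, 98, true), (2, 154, true), (1, 92, true), (0, 29, true)], [(1, 29, true), (0, 92, true), (1, 98, true)]),
    ([13, 10, 0], [(0, 101, true), (1, 91, true), (0, 55, true)], [(1, 55, true), (0, 91, true), (1, 101, true), (2, 102, true)])]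

/-- part of the pairs -/
def twoEqs5 : List Pair :=
  [([13, 11, 3], [(0, 102, true), (1, 94, true), (0, 69, true), (2, 149, true)], [(1, 69, true), (0, 94, true), (1, 102, true)]),
    ([13, 11, 7], [(0, 102, true), (1, 98, true), (0, 73, true)], [(1, 73, true), (0, 98, true), (2, 164, true), (1, 102, true)]),
    ([14, 9, 1], [(0, 114, true), (1, 106, true), (0, 46, true)], [(1, 46, true), (0, 106, true), (1, 114, true), (2, 118, true)]),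
    ([16, 2, 0], [(0, 138, true), (1, 136, true), (0, 3, true)], [(1, 3, true), (0, 136, true), (1, 138, true), (2, 141, true)]),
    ([16, 9, 7], [(0, 145, true), (1, 143, true), (0, 52, true)], [(1, 52, true), (0, 143, true), (1, 145, true), (2, 151, true)]),
    ([16, 10, 0], [(0, 146, true), (1, 136, true), (0, 55, true)], [(1, 55, true), (0, 136, true), (1, 146, true), (2, 147, true)]),
    ([17, 2, 0], [(0, 155, true), (1, 153, true), (0, 3, true)], [(1, 3, true), (0, 153, true), (1, 155, true), (2, 158, true)]),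
    ([5, 1, 0], [(0, 16, true), (3, 28, true), (2, 21, true), (1, 15, true), (0, 1, true)], [(1, 1, true), (0, 15, true), (1, 16, true)]),
    ([10, 7, 2], [(0, 62, true), (3, 155, true), (2, 138, true), (1, 57, true), (0, 30, true)], [(1, 30, true), (0, 57, true), (1, 62, true)]),
    ([10, 8, 2], [(0, 63, true), (1, 57, true), (0, 38, true), (3, 130, true), (2, 88, true)], [(1, 38, true), (0, 57, true), (1, 63, true)])]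

/-- part of the pairs -/
def twoEqs6 : List Pair :=
  [([11, 8, 2], [(0, 74, true), (1, 68, true), (0, 38, true), (3, 131, true), (2, 89, true)], [(1, 38, true), (0, 68, true), (1, 74, true)]),
    ([11, 8, 7], [(0, 74, true), (1, 73, true), (0, 43, true), (3, 164, true), (2, 116, true)], [(1, 43, true), (0, 73, true), (1, 74, true)]),
    ([12, 10, 2], [(0, 88, true), (1, 80, true), (0, 57, true)], [(1, 57, true), (0, 80, true), (3, 163, true), (2, 146, true), (1, 88, true)]),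
    ([14, 10, 7], [(0, 115, true), (1, 112, true), (0, 62, true), (3, 167, true), (2, 150, true)], [(1, 62, true), (0, 112, true), (1, 115, true)]),
    ([16, 8, 2], [(0, 144, true), (1, 138, true), (0, 38, true)], [(1, 38, true), (0, 138, true), (1, 144, true), (2, 148, true), (3, 151, true)]),
    ([17, 8, 2], [(0, 161, true), (1, 155, true), (0, 38, true)], [(1, 38, true), (0, 155, true), (1, 161, true), (2, 165, true), (3, 168, true)]),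
    ([4, 4, 3], [(0, 14, true)], [(1, 13, true), (0, 13, true), (3, 32, true), (2, 25, true), (1, 14, true), (2, 34, true), (1, 27, true), (1, 35, true)]),
    ([5, 1, 1], [(0, 16, true), (3, 29, true), (2, 22, true), (1, 16, true), (0, 2, true), (2, 34, true), (1, 27, true), (1, 35, true)], [(1, 2, true)]),
    ([5, 3, 0], [(0, 18, true), (2, 28, true), (1, 15, true), (0, 6, true), (2, 26, true)], [(1, 6, true), (0, 15, true), (1, 18, true), (3, 34, true)]),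
    ([8, 7, 7], [(0, 43, true), (3, 160, true), (2, 112, true), (1, 43, true), (0, 35, true), (2, 167, true), (1, 119, true), (1, 170, true)], [(1, 35, true)])]

/-- part of the pairs -/
def twoEqs7 : List Pair :=
  [([8, 8, 2], [(0, 44, true)], [(1, 38, true), (0, 38, true), (3, 128, true), (2, 86, true), (1, 44, true), (2, 132, true), (1, 90, true), (1, 135, true)]),
    ([8, 8, 7], [(0, 44, true)], [(1, 43, true), (0, 43, true), (3, 161, true), (2, 113, true), (1, 44, true), (2, 167, true), (1, 119, true), (1, 170, true)]),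
    ([9, 4, 0], [(0, 49, true), (1, 45, true), (0, 10, true)], [(1, 10, true), (0, 45, true), (4, 157, true), (3, 140, true), (2, 124, true), (1, 49, true)]),
    ([9, 5, 4], [(0, 50, true), (4, 157, true), (3, 140, true), (2, 70, true), (1, 49, true), (0, 19, true)], [(1, 19, true), (0, 49, true), (1, 50, true)]),
    ([9, 7, 1], [(0, 52, true), (2, 121, true), (1, 46, true), (0, 29, true)], [(1, 29, true), (0, 46, true), (2, 98, true), (1, 52, true), (3, 133, true)]),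
    ([10, 1, 1], [(0, 56, true), (3, 106, true), (2, 92, true), (1, 56, true), (0, 2, true), (2, 118, true), (1, 104, true), (1, 119, true)], [(1, 2, true)]),
    ([10, 2, 0], [(0, 57, true), (1, 55, true), (0, 3, true)], [(1, 3, true), (0, 55, true), (2, 68, true), (1, 57, true), (3, 71, true), (2, 60, true)]),
    ([10, 6, 0], [(0, 61, true), (2, 120, true), (1, 55, true), (0, 21, true)], [(1, 21, true), (0, 55, true), (2, 72, true), (1, 61, true), (3, 131, true)]),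
    ([10, 9, 4], [(0, 64, true), (1, 59, true), (0, 49, true)], [(1, 49, true), (0, 59, true), (4, 162, true), (3, 145, true), (2, 75, true), (1, 64, true)]),
    ([10, 9, 5], [(0, 64, true), (1, 60, true), (0, 50, true), (4, 163, true), (3, 146, true), (2, 76, true)], [(1, 50, true), (0, 60, true), (1, 64, true)])]

/-- part of the pairs -/
def twoEqs8 : List Pair :=
  [([10, 10, 1], [(0, 65, true)], [(1, 56, true), (0, 56, true), (3, 115, true), (2, 101, true), (1, 65, true), (2, 118, true), (1, 104, true), (1, 119, true)]),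
    ([11, 1, 0], [(0, 67, true), (4, 153, true), (3, 136, true), (2, 120, true), (1, 66, true), (0, 1, true)], [(1, 1, true), (0, 66, true), (1, 67, true)]),
    ([12, 9, 4], [(0, 87, true), (1, 82, true), (0, 49, true)], [(1, 49, true), (0, 82, true), (4, 162, true), (3, 145, true), (2, 129, true), (1, 87, true)]),
    ([13, 9, 7], [(0, 100, true), (1, 98, true), (0, 52, true), (2, 133, true)], [(1, 52, true), (0, 98, true), (2, 162, true), (1, 100, true), (3, 168, true)]),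
    ([14, 6, 4], [(0, 111, true), (2, 157, true), (1, 109, true), (0, 25, true)], [(1, 25, true), (0, 109, true), (2, 126, true), (1, 111, true), (3, 168, true)]),
    ([14, 10, 6], [(0, 115, true), (1, 111, true), (0, 61, true), (2, 134, true)], [(1, 61, true), (0, 111, true), (2, 163, true), (1, 115, true), (3, 168, true)]),
    ([2, 1, 0], [(0, 4, true), (2, 6, true), (1, 3, true), (0, 1, true), (3, 18, true), (5, 34, true)], [(1, 1, true), (0, 3, true), (2, 16, true), (1, 4, true)]),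
    ([13, 5, 3], [(0, 96, true), (2, 123, true), (1, 94, true), (0, 18, true)], [(1, 18, true), (0, 94, true), (1, 96, true), (3, 127, true), (2, 98, true), (4, 168, true)]),
    ([13, 10, 2], [(0, 101, true), (1, 93, true), (0, 57, true)], [(1, 57, true), (0, 93, true), (5, 163, true), (4, 146, true), (3, 130, true), (2, 115, true), (1, 101, true)]),
    ([14, 4, 1], [(0, 109, true), (2, 121, true), (1, 106, true), (0, 11, true)], [(1, 11, true), (0, 106, true), (1, 109, true), (3, 126, true), (2, 111, true), (4, 168, true)])]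

/-- part of the pairs -/
def twoEqs9 : List Pair :=
  [([3, 2, 0], [(0, 8, true), (1, 6, true), (0, 3, true), (2, 18, true), (4, 34, true)], [(1, 3, true), (0, 6, true), (2, 23, true), (1, 8, true), (4, 33, true), (3, 26, true)]),
    ([9, 8, 7], [(0, 53, true), (1, 52, true), (0, 43, true), (3, 162, true), (2, 114, true), (4, 168, true)], [(1, 43, true), (0, 52, true), (2, 128, true), (1, 53, true), (3, 134, true)]),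
    ([10, 1, 0], [(0, 56, true), (3, 105, true), (2, 91, true), (1, 55, true), (0, 1, true)], [(1, 1, true), (0, 55, true), (2, 67, true), (1, 56, true), (4, 116, true), (3, 102, true)]),
    ([10, 6, 2], [(0, 61, true), (2, 122, true), (1, 57, true), (0, 23, true)], [(1, 23, true), (0, 57, true), (1, 61, true), (3, 127, true), (2, 62, true), (5, 168, true), (4, 151, true)]),
    ([12, 9, 7], [(0, 87, true), (1, 85, true), (0, 52, true), (2, 132, true)], [(1, 52, true), (0, 85, true), (3, 162, true), (2, 145, true), (1, 87, true), (4, 168, true), (3, 151, true)]),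
    ([14, 1, 0], [(0, 106, true), (1, 105, true), (0, 1, true)], [(1, 1, true), (0, 105, true), (4, 154, true), (3, 137, true), (2, 121, true), (1, 106, true), (4, 169, true), (5, 170, true)]),
    ([10, 9, 1], [(0, 64, true), (1, 56, true), (0, 46, true), (2, 101, true), (3, 104, true)], [(1, 46, true), (0, 56, true), (3, 114, true), (2, 100, true), (1, 64, true), (4, 118, true), (3, 104, true)]),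
    ([12, 10, 1], [(0, 88, true), (1, 79, true), (0, 56, true), (3, 117, true), (2, 103, true), (4, 118, true), (3, 104, true)], [(1, 56, true), (0, 79, true), (2, 101, true), (1, 88, true), (3, 104, true)]),
    ([13, 3, 2], [(0, 94, true), (1, 93, true), (0, 8, true)], [(1, 8, true), (0, 93, true), (5, 156, true), (4, 139, true), (3, 123, true), (2, 108, true), (1, 94, true), (4, 168, true), (5, 170, true)]),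
    ([13, 8, 7], [(0, 99, true), (1, 98, true), (0, 43, true), (3, 166, true), (2, 118, true), (4, 170, true)], [(1, 43, true), (0, 98, true), (2, 161, true), (1, 99, true), (3, 167, true), (4, 170, true)])]

/-- part of the pairs -/
def twoEqs10 : List Pair :=
  [([8, 8, 1], [(0, 44, true)], [(1, 37, true), (0, 37, true), (4, 161, true), (3, 144, true), (2, 128, true), (1, 44, true), (3, 168, true), (2, 151, true), (1, 135, true), (2, 169, true), (1, 152, true), (1, 170, true)]),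
    ([8, 8, 3], [(0, 44, true)], [(1, 39, true), (0, 39, true), (4, 128, true), (3, 113, true), (2, 99, true), (1, 44, true), (3, 133, true), (2, 118, true), (1, 104, true), (2, 134, true), (1, 119, true), (1, 135, true)]),
    ([9, 8, 1], [(0, 53, true), (1, 46, true), (0, 37, true), (4, 162, true), (3, 145, true), (2, 129, true), (5, 166, true), (4, 149, true), (3, 133, true)], [(1, 37, true), (0, 46, true), (2, 99, true), (1, 53, true)]),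
    ([10, 3, 3], [(0, 58, true), (4, 156, true), (3, 123, true), (2, 108, true), (1, 58, true), (0, 9, true), (3, 167, true), (2, 134, true), (1, 119, true), (2, 170, true), (1, 135, true), (1, 170, true)], [(1, 9, true)]),
    ([8, 2, 2], [(0, 38, true), (3, 122, true), (2, 80, true), (1, 38, true), (0, 5, true), (2, 132, true), (1, 90, true), (3, 168, true), (2, 151, true), (1, 135, true), (2, 169, true), (1, 152, true), (1, 170, true)], [(1, 5, true)]),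
    ([10, 3, 2], [(0, 58, true), (4, 155, true), (3, 122, true), (2, 107, true), (1, 57, true), (0, 8, true), (5, 168, true), (4, 151, true), (6, 169, true), (5, 152, true), (5, 170, true)], [(1, 8, true), (0, 57, true), (1, 58, true)]),
    ([8, 3, 3], [(0, 39, true), (4, 123, true), (3, 108, true), (2, 94, true), (1, 39, true), (0, 9, true), (3, 133, true), (2, 118, true), (1, 104, true), (2, 134, true), (1, 119, true), (2, 168, true), (1, 135, true), (1, 170, true)], [(1, 9, true)]),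
    ([9, 1, 0], [(0, 46, true), (2, 91, true), (1, 45, true), (0, 1, true), (5, 166, true), (4, 149, true), (3, 133, true)], [(1, 1, true), (0, 45, true), (4, 154, true), (3, 137, true), (2, 121, true), (1, 46, true), (5, 169, true), (6, 170, true)]),
    ([11, 2, 1], [(0, 68, true), (1, 67, true), (0, 4, true)], [(1, 4, true), (0, 67, true), (4, 155, true), (3, 138, true), (2, 122, true), (1, 68, true), (5, 169, true), (4, 152, true), (4, 170, true), (3, 123, true), (2, 69, true), (4, 151, true)]),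
    ([8, 7, 2], [(0, 43, true), (3, 155, true), (2, 107, true), (1, 38, true), (0, 30, true), (4, 134, true), (7, 170, true)], [(1, 30, true), (0, 38, true), (3, 127, true), (2, 85, true), (1, 43, true), (4, 165, true), (3, 117, true), (5, 169, true), (6, 170, true), (5, 151, true)])]

/-- part of the pairs -/
def twoEqs11 : List Pair :=
  [([10, 8, 0], [(0, 63, true), (1, 55, true), (0, 36, true), (6, 163, true), (5, 146, true), (4, 130, true), (3, 88, true), (7, 164, true), (6, 147, true), (5, 131, true), (4, 89, true)], [(1, 36, true), (0, 55, true), (2, 74, true), (1, 63, true), (3, 75, true), (2, 64, true)]),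
    ([4, 2, 1], [(0, 12, true), (2, 16, true), (1, 11, true), (0, 4, true), (4, 26, true), (5, 27, true)], [(1, 4, true), (0, 11, true), (2, 23, true), (1, 12, true), (5, 31, true), (4, 24, true), (3, 18, true), (2, 13, true), (5, 33, true), (4, 26, true), (6, 35, true), (5, 27, true)]),
    ([8, 4, 4], [(0, 40, true), (5, 157, true), (4, 140, true), (3, 124, true), (2, 49, true), (1, 40, true), (0, 14, true), (4, 162, true), (3, 145, true), (2, 129, true), (1, 54, true), (3, 168, true), (2, 151, true), (1, 135, true), (2, 169, true), (1, 152, true), (1, 170, true)], [(1, 14, true)]),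
    ([8, 5, 5], [(0, 41, true), (5, 158, true), (4, 141, true), (3, 125, true), (2, 60, true), (1, 41, true), (0, 20, true), (4, 163, true), (3, 146, true), (2, 130, true), (1, 65, true), (3, 168, true), (2, 151, true), (1, 135, true), (2, 169, true), (1, 152, true), (1, 170, true)], [(1, 20, true)]),
    ([8, 8, 4], [(0, 44, true)], [(1, 40, true), (0, 40, true), (5, 161, true), (4, 144, true), (3, 128, true), (2, 53, true), (1, 44, true), (4, 162, true), (3, 145, true), (2, 129, true), (1, 54, true), (3, 168, true), (2, 151, true), (1, 135, true), (2, 169, true), (1, 152, true), (1, 170, true)]),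
    ([8, 8, 5], [(0, 44, true)], [(1, 41, true), (0, 41, true), (5, 161, true), (4, 144, true), (3, 128, true), (2, 63, true), (1, 44, true), (4, 163, true), (3, 146, true), (2, 130, true), (1, 65, true), (3, 168, true), (2, 151, true), (1, 135, true), (2, 169, true), (1, 152, true), (1, 170, true)]),
    ([9, 2, 2], [(0, 47, true), (5, 155, true), (4, 138, true), (3, 68, true), (2, 57, true), (1, 47, true), (0, 5, true), (4, 163, true), (3, 146, true), (2, 76, true), (1, 65, true), (3, 164, true), (2, 147, true), (1, 77, true), (2, 169, true), (1, 152, true), (1, 170, true)], [(1, 5, true)]),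
    ([9, 9, 2], [(0, 54, true)], [(1, 47, true), (0, 47, true), (5, 162, true), (4, 145, true), (3, 75, true), (2, 64, true), (1, 54, true), (4, 163, true), (3, 146, true), (2, 76, true), (1, 65, true), (3, 164, true), (2, 147, true), (1, 77, true), (2, 169, true), (1, 152, true), (1, 170, true)]),
    ([9, 8, 2], [(0, 53, true), (1, 47, true), (0, 38, true), (3, 129, true), (2, 87, true), (4, 130, true), (3, 88, true), (5, 131, true), (4, 89, true)], [(1, 38, true), (0, 47, true), (5, 161, true), (4, 144, true), (3, 74, true), (2, 63, true), (1, 53, true), (6, 165, true), (5, 148, true), (7, 168, true), (6, 151, true)]),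
    ([9, 4, 1], [(0, 49, true), (1, 46, true), (0, 11, true)], [(1, 11, true), (0, 46, true), (2, 95, true), (1, 49, true), (6, 159, true), (5, 142, true), (4, 126, true), (3, 97, true), (2, 51, true), (6, 166, true), (5, 149, true), (4, 133, true), (7, 168, true), (6, 151, true), (5, 135, true), (6, 169, true), (5, 152, true), (5, 170, true)])]

/-- part of the pairs -/
def twoEqs12 : List Pair :=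
  [([9, 4, 2], [(0, 49, true), (1, 47, true), (0, 12, true)], [(1, 12, true), (0, 47, true), (5, 157, true), (4, 140, true), (3, 70, true), (2, 59, true), (1, 49, true), (6, 164, true), (5, 147, true), (4, 77, true), (5, 169, true), (4, 152, true), (4, 170, true), (3, 60, true), (2, 50, true), (6, 163, true), (5, 146, true), (4, 76, true)]),
    ([10, 5, 3], [(0, 60, true), (1, 58, true), (0, 18, true)], [(1, 18, true), (0, 58, true), (4, 158, true), (3, 125, true), (2, 110, true), (1, 60, true), (5, 168, true), (4, 151, true), (6, 170, true), (5, 143, true), (4, 127, true), (3, 112, true), (2, 62, true), (5, 167, true), (4, 150, true), (6, 168, true), (5, 151, true), (7, 169, true), (6, 152, true)]),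
    ([12, 4, 2], [(0, 82, true), (4, 155, true), (3, 138, true), (2, 122, true), (1, 80, true), (0, 12, true), (5, 168, true), (4, 151, true), (6, 169, true), (5, 152, true), (5, 170, true)], [(1, 12, true), (0, 80, true), (3, 157, true), (2, 140, true), (1, 82, true), (5, 169, true), (4, 152, true), (4, 170, true), (3, 125, true), (2, 83, true), (5, 168, true), (4, 151, true)]),
    ([10, 2, 1], [(0, 57, true), (1, 56, true), (0, 4, true)], [(1, 4, true), (0, 56, true), (3, 107, true), (2, 93, true), (1, 57, true), (7, 167, true), (6, 150, true), (5, 134, true), (4, 119, true), (6, 169, true), (5, 152, true), (5, 170, true), (4, 123, true), (3, 94, true), (2, 58, true), (6, 166, true), (5, 133, true), (4, 118, true), (7, 168, true), (6, 135, true), (6, 170, true)]),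
    ([8, 7, 4], [(0, 43, true), (3, 157, true), (2, 109, true), (1, 40, true), (0, 32, true), (6, 167, true), (5, 150, true), (4, 134, true), (7, 168, true), (6, 151, true), (5, 135, true), (6, 170, true)], [(1, 32, true), (0, 40, true), (5, 160, true), (4, 143, true), (3, 127, true), (2, 52, true), (1, 43, true), (4, 162, true), (3, 114, true), (5, 168, true), (6, 168, true), (5, 135, true), (5, 169, true), (6, 170, true)]),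
    ([12, 4, 1], [(0, 82, true), (4, 154, true), (3, 137, true), (2, 121, true), (1, 79, true), (0, 11, true), (6, 169, true), (7, 170, true)], [(1, 11, true), (0, 79, true), (2, 95, true), (1, 82, true), (5, 166, true), (4, 149, true), (3, 133, true), (6, 168, true), (5, 151, true), (4, 135, true), (5, 169, true), (4, 152, true), (4, 170, true), (3, 97, true), (2, 84, true), (6, 166, true), (5, 149, true), (4, 133, true)]),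
    ([8, 0, 0], [(0, 36, true), (6, 153, true), (5, 136, true), (4, 120, true), (3, 78, true), (2, 45, true), (1, 36, true), (0, 0, true), (5, 162, true), (4, 145, true), (3, 129, true), (2, 87, true), (1, 54, true), (4, 168, true), (3, 151, true), (2, 135, true), (3, 169, true), (2, 152, true), (2, 170, true), (1, 90, true), (3, 168, true), (2, 151, true), (1, 135, true), (2, 169, true), (1, 152, true), (1, 170, true)], [(1, 0, true)]),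
    ([8, 3, 2], [(0, 39, true), (4, 122, true), (3, 107, true), (2, 93, true), (1, 38, true), (0, 8, true), (4, 133, true), (5, 134, true), (6, 135, true), (7, 167, true), (6, 150, true), (5, 119, true), (6, 169, true), (5, 152, true), (5, 170, true)], [(1, 8, true), (0, 38, true), (3, 123, true), (2, 81, true), (1, 39, true), (5, 132, true), (4, 117, true), (3, 103, true), (6, 134, true), (5, 119, true), (5, 135, true), (5, 151, true)]),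
    ([13, 2, 0], [(0, 93, true), (5, 153, true), (4, 136, true), (3, 120, true), (2, 105, true), (1, 91, true), (0, 3, true), (7, 168, true), (6, 151, true), (5, 135, true), (6, 169, true), (5, 152, true), (5, 170, true)], [(1, 3, true), (0, 91, true), (1, 93, true), (6, 158, true), (5, 141, true), (4, 125, true), (3, 110, true), (2, 96, true), (4, 134, true), (7, 168, true), (6, 151, true), (5, 135, true), (6, 169, true), (5, 152, true), (5, 170, true)]),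
    ([10, 3, 0], [(0, 58, true), (4, 153, true), (3, 120, true), (2, 105, true), (1, 55, true), (0, 6, true), (8, 168, true), (7, 151, true), (6, 135, true), (7, 170, true)], [(1, 6, true), (0, 55, true), (2, 69, true), (1, 58, true), (5, 164, true), (4, 131, true), (3, 116, true), (6, 169, true), (7, 159, true), (6, 142, true), (5, 126, true), (4, 111, true), (3, 72, true), (2, 61, true), (4, 131, true), (5, 134, true), (7, 168, true), (6, 135, true), (6, 169, true), (7, 170, true)])]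

/-- part of the pairs -/
def twoEqs13 : List Pair :=
  [([10, 4, 1], [(0, 59, true), (4, 154, true), (3, 137, true), (2, 67, true), (1, 56, true), (0, 11, true), (5, 116, true), (4, 102, true), (9, 169, true), (8, 152, true), (8, 170, true)], [(1, 11, true), (0, 56, true), (3, 109, true), (2, 95, true), (1, 59, true), (5, 166, true), (4, 149, true), (6, 168, true), (5, 151, true), (7, 169, true), (6, 152, true), (6, 170, true), (5, 134, true), (6, 135, true), (5, 111, true), (4, 97, true), (3, 72, true), (2, 61, true), (4, 131, true), (5, 133, true), (6, 134, true)]),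
    ([12, 3, 0], [(0, 81, true), (4, 136, true), (3, 120, true), (2, 105, true), (1, 78, true), (0, 6, true), (6, 167, true), (5, 150, true), (4, 134, true), (7, 168, true), (6, 151, true), (5, 135, true), (6, 169, true), (5, 152, true), (5, 170, true)], [(1, 6, true), (0, 78, true), (4, 156, true), (3, 139, true), (2, 123, true), (1, 81, true), (5, 151, true), (4, 135, true), (5, 169, true), (4, 152, true), (4, 170, true), (3, 111, true), (2, 84, true), (6, 167, true), (5, 150, true), (4, 134, true), (7, 170, true)]),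
    ([8, 2, 1], [(0, 38, true), (3, 121, true), (2, 79, true), (1, 37, true), (0, 4, true), (6, 165, true), (5, 148, true), (4, 132, true), (7, 166, true), (6, 149, true), (5, 133, true), (8, 168, true), (7, 151, true), (6, 135, true), (7, 170, true)], [(1, 4, true), (0, 37, true), (4, 155, true), (3, 138, true), (2, 122, true), (1, 38, true), (4, 135, true), (5, 169, true), (4, 152, true), (4, 170, true), (3, 81, true), (2, 39, true), (6, 132, true), (5, 117, true), (4, 103, true), (7, 134, true), (6, 119, true), (6, 135, true)]),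
    ([8, 4, 0], [(0, 40, true), (5, 153, true), (4, 136, true), (3, 120, true), (2, 45, true), (1, 36, true), (0, 10, true), (7, 162, true), (6, 145, true), (5, 129, true), (4, 87, true), (3, 54, true), (6, 168, true), (5, 151, true), (4, 135, true), (5, 169, true), (4, 152, true), (4, 170, true)], [(1, 10, true), (0, 36, true), (6, 157, true), (5, 140, true), (4, 124, true), (3, 82, true), (2, 49, true), (1, 40, true), (6, 162, true), (5, 145, true), (4, 129, true), (3, 54, true), (5, 165, true), (4, 148, true), (3, 132, true), (6, 168, true), (5, 151, true), (4, 135, true), (5, 169, true), (4, 152, true), (4, 170, true)]),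
    ([8, 1, 0], [(0, 37, true), (4, 153, true), (3, 136, true), (2, 120, true), (1, 36, true), (0, 1, true), (7, 168, true), (6, 151, true), (5, 135, true), (6, 169, true), (5, 152, true), (5, 170, true)], [(1, 1, true), (0, 36, true), (6, 154, true), (5, 137, true), (4, 121, true), (3, 79, true), (2, 46, true), (1, 37, true), (5, 162, true), (4, 145, true), (3, 129, true), (6, 166, true), (5, 149, true), (4, 133, true), (7, 165, true), (6, 148, true), (5, 132, true), (4, 103, true), (8, 166, true), (7, 149, true), (6, 133, true), (5, 104, true), (7, 168, true), (6, 151, true), (5, 135, true), (6, 170, true), (5, 152, true), (5, 170, true)]),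
    ([8, 6, 2], [(0, 42, true), (5, 155, true), (4, 138, true), (3, 122, true), (2, 93, true), (1, 38, true), (0, 23, true), (5, 133, true), (6, 134, true), (7, 135, true), (8, 168, true), (7, 151, true), (9, 169, true), (8, 152, true), (8, 170, true)], [(1, 23, true), (0, 38, true), (3, 126, true), (2, 84, true), (1, 42, true), (6, 165, true), (5, 148, true), (4, 132, true), (3, 103, true), (7, 168, true), (6, 151, true), (5, 135, true), (6, 169, true), (5, 152, true), (5, 170, true), (5, 127, true), (4, 98, true), (3, 85, true), (2, 43, true), (5, 165, true), (4, 117, true), (6, 169, true), (7, 170, true), (6, 149, true), (5, 118, true), (8, 168, true), (7, 151, true)]),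
    ([8, 4, 1], [(0, 40, true), (5, 154, true), (4, 137, true), (3, 121, true), (2, 46, true), (1, 37, true), (0, 11, true), (6, 162, true), (5, 145, true), (4, 129, true), (7, 166, true), (6, 149, true), (5, 133, true), (8, 168, true), (7, 151, true), (6, 135, true), (7, 170, true), (6, 152, true), (6, 170, true)], [(1, 11, true), (0, 37, true), (4, 157, true), (3, 140, true), (2, 124, true), (1, 40, true), (6, 168, true), (5, 151, true), (4, 135, true), (5, 169, true), (4, 152, true), (4, 170, true), (3, 51, true), (2, 42, true), (7, 162, true), (6, 145, true), (5, 129, true), (4, 100, true), (8, 168, true), (7, 151, true), (6, 135, true), (7, 169, true), (6, 152, true), (6, 170, true)]),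
    ([8, 5, 0], [(0, 41, true), (5, 153, true), (4, 136, true), (3, 120, true), (2, 55, true), (1, 36, true), (0, 15, true), (7, 163, true), (6, 146, true), (5, 130, true), (4, 88, true), (8, 164, true), (7, 147, true), (6, 131, true), (5, 89, true), (9, 168, true), (8, 151, true), (7, 135, true), (8, 169, true), (7, 152, true), (7, 170, true)], [(1, 15, true), (0, 36, true), (6, 158, true), (5, 141, true), (4, 125, true), (3, 83, true), (2, 50, true), (1, 41, true), (6, 162, true), (5, 145, true), (4, 129, true), (3, 64, true), (7, 164, true), (6, 147, true), (5, 131, true), (8, 169, true), (7, 152, true), (7, 170, true), (6, 132, true), (9, 168, true), (8, 151, true), (7, 135, true), (8, 169, true), (7, 152, true), (7, 170, true)]),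
    ([9, 2, 1], [(0, 47, true), (5, 154, true), (4, 137, true), (3, 67, true), (2, 56, true), (1, 46, true), (0, 4, true), (4, 101, true), (5, 104, true), (5, 116, true), (9, 169, true), (8, 152, true), (8, 170, true)], [(1, 4, true), (0, 46, true), (2, 93, true), (1, 47, true), (6, 166, true), (5, 149, true), (7, 167, true), (6, 150, true), (8, 168, true), (7, 151, true), (9, 169, true), (8, 152, true), (8, 170, true), (7, 123, true), (6, 108, true), (5, 94, true), (4, 69, true), (3, 58, true), (2, 48, true), (7, 146, true), (6, 130, true), (5, 115, true), (4, 101, true), (8, 150, true), (7, 134, true), (6, 119, true), (7, 151, true), (6, 135, true), (7, 164, true), (6, 147, true), (5, 102, true), (8, 169, true), (7, 152, true), (7, 166, true), (6, 104, true), (6, 167, true), (7,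 170, true)]),
    ([8, 4, 2], [(0, 40, true), (5, 155, true), (4, 138, true), (3, 122, true), (2, 47, true), (1, 38, true), (0, 12, true), (5, 129, true), (4, 87, true), (6, 130, true), (5, 88, true), (7, 131, true), (6, 89, true), (10, 168, true), (9, 151, true), (8, 135, true), (9, 169, true), (8, 152, true), (8, 170, true)], [(1, 12, true), (0, 38, true), (3, 124, true), (2, 82, true), (1, 40, true), (6, 165, true), (5, 148, true), (4, 132, true), (7, 168, true), (6, 151, true), (5, 135, true), (6, 169, true), (5, 152, true), (5, 170, true), (5, 125, true), (4, 83, true), (3, 50, true), (2, 41, true), (7, 162, true), (6, 145, true), (5, 129, true), (4, 64, true), (8, 164, true), (7, 147, true), (6, 131, true), (9, 169, true), (8, 152, true), (8, 170, true), (7, 132, true), (10,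 168, true), (9, 151, true), (8, 135, true)])]

/-- part of the pairs -/
def twoEqs14 : List Pair :=
  [([8, 5, 1], [(0, 41, true), (5, 154, true), (4, 137, true), (3, 121, true), (2, 56, true), (1, 37, true), (0, 16, true), (7, 163, true), (6, 146, true), (5, 130, true), (8, 166, true), (7, 149, true), (6, 133, true), (9, 167, true), (8, 150, true), (7, 134, true), (10, 168, true), (9, 151, true), (8, 135, true), (9, 170, true), (8, 152, true), (8, 170, true)], [(1, 16, true), (0, 37, true), (4, 158, true), (3, 141, true), (2, 125, true), (1, 41, true), (6, 168, true), (5, 151, true), (4, 135, true), (5, 169, true), (4, 152, true), (4, 170, true), (3, 61, true), (2, 42, true), (7, 163, true), (6, 146, true), (5, 130, true), (4, 101, true), (8, 168, true), (7, 151, true), (6, 135, true),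 (7, 160, true), (6, 143, true), (5, 98, true), (4, 62, true), (3, 43, true), (6, 163, true), (5, 115, true), (7, 169, true), (8, 170, true), (7, 149, true), (6, 118, true), (9, 169, true), (8, 152, true), (8, 170, true)]),
    ([18, 8, 8], [(0, 171, true), (2, 171, true), (1, 151, true), (0, 135, true), (0, 152, true)], [(1, 44, true)]),
    ([18, 9, 8], [(0, 172, true), (2, 171, true)], [(1, 53, true), (0, 171, true), (2, 172, true), (1, 148, true), (0, 132, true), (2, 150, true), (1, 134, true)]),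
    ([18, 9, 9], [(0, 172, true), (2, 172, true), (1, 117, true), (0, 90, true), (0, 119, true)], [(1, 54, true)]),
    ([18, 10, 8], [(0, 173, true), (5, 171, true), (4, 151, true), (5, 152, true)], [(1, 63, true), (0, 171, true), (2, 173, true), (1, 145, true), (0, 129, true), (2, 146, true), (1, 130, true), (3, 147, true), (2, 131, true), (4, 149, true), (3, 133, true), (5, 152, true)]),
    ([19, 2, 7, 12, 2, 7, 12], [(0, 181, true), (3, 181, true), (2, 154, true), (1, 106, true), (0, 2, true), (1, 167, true), (0, 119, true), (0, 170, true)], [(3, 80, true), (2, 30, true), (1, 5, true), (4, 160, true), (3, 143, true), (2, 85, true), (1, 35, true), (3, 169, true), (2, 152, true), (2, 170, true), (1, 90, true)]),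
    ([19, 5, 15, 2, 7, 12], [(0, 182, true), (5, 181, true), (4, 154, true), (3, 29, true), (2, 22, true), (1, 7, true), (0, 2, true), (3, 167, true), (4, 170, true)], [(2, 122, true), (1, 17, true), (5, 160, true), (4, 143, true), (3, 127, true), (6, 165, true), (5, 148, true), (4, 132, true), (5, 151, false), (6, 168, false), (2, 33, false), (3, 83, false), (0, 181, true), (3, 182, true), (2, 154, true), (1, 106, true), (0, 2, true), (1, 156, true), (0, 108, true), (2, 170, true), (1, 111, true), (3, 160, true), (2, 112, true), (4, 170, true)]),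
    ([19, 5, 15, 5, 15], [(0, 182, true), (5, 182, true), (4, 154, true), (3, 29, true), (2, 22, true), (1, 7, true), (0, 2, true), (3, 156, true), (2, 31, true), (1, 24, true), (0, 9, true), (2, 159, true), (1, 34, true), (0, 27, true), (1, 160, true), (0, 35, true), (0, 170, true)], [(2, 125, true), (1, 20, true), (1, 135, true)]),
    ([20, 8, 1, 3], [(0, 184, true), (5, 183, true), (4, 138, true), (3, 107, true), (2, 57, true), (1, 47, true), (0, 38, true), (3, 129, true), (2, 87, true), (4, 130, true), (3, 88, true), (5, 131, true), (4, 89, true), (8, 163, true), (7, 146, true), (6, 130, true), (5, 88, true), (4, 76, true), (3, 65, true), (7, 167, true), (6, 150, true), (5, 134, true), (8, 169, true), (7, 152, true), (7, 170, true), (7, 139, true), (6, 123, true), (5, 108, true),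 (4, 81, true), (3, 69, true), (2, 48, true), (1, 39, true), (5, 129, true), (4, 114, true), (3, 100, true), (6, 133, true), (5, 118, true), (4, 104, true), (5, 134, true), (4, 119, true), (4, 135, true), (4, 147, true), (5, 152, true), (8, 150, true), (7, 134, true), (6, 119, true), (8, 168, true), (7, 151, true), (6, 135, true), (7, 170, true), (6, 152, true), (5, 85, true), (4, 73, true), (3, 52, true), (2, 43, true), (5, 162, true), (4, 114, true), (6, 168, true), (7, 164, true), (6, 131, true), (5, 116, true), (8, 165, true), (7, 132, true), (6, 117, true), (9, 169, true), (10, 170, true)], [(1, 37, true), (5, 156, true), (4, 139, true), (3, 123, true), (2, 39, true), (6, 135, true), (6, 169, true), (7, 170, true), (0, 183, true), (3, 184, true), (8, 189, true), (11, 190, true),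 (16, 192, true), (7, 150, true), (6, 119, true), (6, 151, true), (7, 152, true), (6, 128, true), (5, 63, true), (4, 53, true), (3, 44, true), (5, 129, true), (4, 64, true), (3, 54, true), (4, 130, true), (3, 65, true), (3, 131, true), (4, 135, true), (3, 74, true), (4, 75, true)]),
    ([20, 9, 1, 3], [(0, 185, true), (2, 183, true), (1, 57, true), (0, 38, true), (3, 130, true), (2, 88, true), (4, 123, true), (3, 81, true), (2, 58, true), (1, 39, true), (5, 130, true), (4, 115, true), (3, 101, true), (6, 134, true), (5, 119, true), (5, 135, true), (5, 165, true), (4, 103, true), (6, 167, true), (7, 168, true), (8, 169, true), (9, 168, true), (8, 151, true), (7, 135, true), (8, 170, true), (7, 143, true), (6, 112, true), (5, 98, true), (4, 85, true), (3, 62, true), (2, 43, true), (5,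 163, true), (4, 115, true), (6, 169, true), (7, 170, true), (6, 148, true), (5, 117, true), (7, 152, true), (7, 166, true), (6, 118, true), (8, 170, true), (7, 119, true)], [(1, 46, true), (3, 94, true), (2, 48, true), (7, 149, true), (6, 133, true), (5, 118, true), (4, 104, true), (0, 183, true), (3, 185, true), (5, 190, true), (10, 191, true), (14, 192, true), (4, 63, true), (3, 44, true), (3, 64, true), (4, 65, true), (5, 130, true), (4, 76, true), (6, 131, true), (5, 77, true), (5, 133, true), (6, 134, true), (7, 128, true), (6, 113, true), (5, 99, true), (4, 63, true), (3, 53, true), (8, 129, true), (7, 114, true), (6, 100, true), (5, 64, true), (4, 54, true), (7, 132, true), (6, 117, true), (5, 103, true), (8, 134, true), (7, 119, true), (7, 135, true)])]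

/-- part of the pairs -/
def twoEqs15 : List Pair :=
  [([20, 10, 1, 3], [(0, 186, true), (2, 183, true), (1, 68, true), (0, 47, true), (5, 164, true), (4, 147, true), (3, 77, true), (4, 156, true), (3, 139, true), (2, 58, true), (1, 48, true), (6, 146, true), (5, 130, true), (4, 115, true), (3, 101, true), (7, 150, true), (6, 134, true), (5, 119, true), (6, 151, true), (5, 135, true), (6, 169, true), (5, 152, true), (5, 170, true), (4, 98, true), (3, 62, true), (2, 52, true), (4, 130, true), (7, 166, true), (6, 149, true), (5, 133, true), (8, 170, true)], [(1, 56, true), (4, 108, true), (3, 94, true), (2, 58, true), (6, 166, true), (5, 133, true), (4, 118, true), (7, 167, true), (6, 134, true), (5, 119, true), (6, 170, true), (0, 183, true), (3, 186, true), (5, 189, true), (8, 191,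 true), (7, 146, true), (6, 130, true), (5, 115, true), (4, 76, true), (8, 147, true), (7, 131, true), (6, 116, true), (5, 77, true), (7, 149, true), (6, 133, true), (5, 118, true), (8, 150, true), (7, 134, true), (6, 119, true)]),
    ([20, 11, 1, 3], [(0, 187, true), (5, 183, true), (4, 155, true), (3, 138, true), (2, 122, true), (1, 57, true), (0, 47, true), (5, 163, true), (4, 146, true), (3, 76, true), (2, 65, true), (4, 168, true), (3, 151, true), (5, 169, true), (4, 152, true), (4, 170, true), (5, 156, true), (4, 139, true), (3, 123, true), (2, 69, true), (1, 48, true), (6, 147, true), (5, 131, true), (4, 116, true), (3, 102, true), (7, 152, true), (6, 135, true), (6, 169, true), (7, 170, true), (6, 143, true), (5, 112, true), (4, 98, true), (3, 73, true), (2, 52, true), (4,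 131, true), (5, 133, true), (7, 167, true), (6, 134, true), (8, 169, true)], [(1, 67, true), (5, 156, true), (4, 139, true), (3, 123, true), (2, 69, true), (4, 151, true), (6, 169, true), (5, 152, true), (5, 170, true), (0, 183, true), (3, 187, true), (8, 191, true), (7, 163, true), (6, 146, true), (5, 130, true), (4, 65, true), (6, 164, true), (5, 147, true), (4, 131, true), (7, 166, true), (6, 149, true), (5, 133, true), (8, 167, true), (7, 150, true), (6, 134, true)]),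
    ([20, 14, 1, 3], [(0, 190, true), (5, 183, true), (4, 122, true), (3, 68, true), (2, 57, true), (1, 47, true), (0, 38, true), (3, 129, true), (2, 87, true), (4, 130, true), (3, 88, true), (5, 131, true), (4, 89, true), (8, 163, true), (7, 146, true), (6, 130, true), (5, 88, true), (4, 76, true), (3, 65, true), (7, 164, true), (6, 147, true), (5, 131, true), (4, 89, true), (3, 77, true), (6, 168, true), (5, 151, true), (4, 135, true), (5, 169, true), (4, 152, true), (4, 170, true), (3, 81, true), (2, 48, true), (1, 39, true), (5, 129, true), (4, 114, true), (3, 100, true), (6, 133, true), (5, 118, true), (4, 104, true), (5, 134, true), (4, 119, true), (4, 135, true), (4, 148, true), (5, 150, true), (6, 151, true), (7, 152, true), (6, 127, true), (5, 112, true), (4, 85, true), (3,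 52, true), (2, 43, true), (5, 162, true), (4, 114, true), (6, 168, true), (7, 165, true), (6, 132, true), (5, 117, true), (8, 169, true), (9, 170, true), (8, 150, true), (7, 134, true), (6, 119, true), (7, 151, true), (6, 135, true)], [(1, 106, true), (2, 108, true), (0, 183, true), (3, 190, true), (8, 193, true), (7, 130, true), (6, 76, true), (5, 65, true), (6, 131, true), (5, 77, true), (5, 132, true), (6, 135, true)]),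
    ([21, 0, 2, 0, 2], [(0, 194, true), (5, 194, true), (4, 28, true), (3, 10, true), (2, 3, true), (1, 1, true), (0, 0, true), (2, 19, true), (4, 29, true), (3, 16, true), (2, 11, true), (1, 4, true), (0, 2, true), (3, 26, true), (4, 27, true), (4, 35, true), (3, 17, true), (2, 12, true), (1, 8, true), (0, 5, true), (2, 20, true), (1, 14, true)], [(2, 3, true), (1, 0, true), (2, 17, true), (1, 5, true), (0, 196, true)]),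
    ([21, 4, 0, 2], [(0, 195, true), (2, 194, true), (1, 28, true), (0, 1, true), (2, 29, true), (1, 2, true), (1, 30, true), (2, 32, true), (3, 35, true)], [(1, 10, true), (2, 12, true), (0, 194, true), (5, 195, true), (7, 196, true), (4, 29, true), (3, 11, true), (2, 4, true), (1, 2, true), (5, 35, true), (4, 24, true), (3, 13, true), (2, 9, true), (4, 34, true), (3, 27, true), (3, 35, true)]),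
    ([21, 8, 0, 2], [(0, 197, true), (4, 194, true), (3, 136, true), (2, 105, true), (1, 91, true), (0, 78, true), (4, 166, true), (3, 149, true), (2, 133, true), (5, 167, true), (4, 150, true), (3, 134, true), (6, 168, true), (5, 151, true), (4, 135, true), (5, 169, true), (4, 152, true), (4, 170, true), (4, 137, true), (3, 106, true), (2, 92, true), (1, 79, true), (3, 104, true), (5, 155, true), (4, 138, true), (3, 107, true), (2, 80, true), (5, 167, true), (4, 150, true), (6, 169, true), (5, 152, true), (5, 170, true), (6, 157, true), (5, 140, true), (4, 109, true), (3, 82, true), (7, 167, true), (6, 150, true), (5, 134, true), (8, 168, true), (7, 151, true), (6, 135, true), (7, 169, true), (6, 152, true), (6, 170, true), (5, 112, true), (4, 85, true), (7, 167, true), (6, 150, true)],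 [(1, 36, true), (7, 155, true), (6, 138, true), (5, 122, true), (4, 80, true), (3, 47, true), (2, 38, true), (5, 129, true), (4, 87, true), (6, 130, true), (5, 88, true), (7, 131, true), (6, 89, true), (10, 165, true), (9, 148, true), (8, 132, true), (7, 90, true), (9, 169, true), (8, 152, true), (8, 170, true), (7, 135, true), (8, 169, true), (7, 152, true), (7, 170, true), (0, 194, true), (5, 197, true), (9, 198, true), (11, 199, true), (14, 200, true), (8, 151, true), (9, 152, true), (8, 133, true), (7, 118, true), (6, 104, true), (7, 134, true), (6, 119, true), (7, 167, true), (6, 134, true), (8, 168, true), (7, 135, true), (7, 169, true)]),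
    ([21, 8, 4], [(0, 197, true), (4, 195, true), (3, 137, true), (2, 106, true), (1, 92, true), (0, 79, true), (2, 104, true), (4, 160, true), (3, 143, true), (2, 112, true), (1, 85, true), (4, 167, true), (3, 150, true), (5, 169, true), (4, 152, true), (4, 170, true)], [(1, 40, true), (0, 195, true), (2, 197, true), (6, 198, true), (8, 204, true), (12, 205, true), (16, 206, true), (5, 151, true), (6, 152, true), (5, 133, true), (4, 118, true), (3, 104, true), (4, 134, true), (3, 119, true), (5, 161, true), (4, 144, true), (3, 128, true), (2, 86, true), (6, 162, true), (5, 145, true), (4, 129, true), (3, 87, true), (7, 163, true), (6, 146, true), (5, 130, true), (4, 88, true), (8, 168, true), (7, 151, true), (6, 135, true), (7, 161, true), (6, 144, true), (5, 86, true), (4, 63, true),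 (3, 53, true), (2, 44, true), (6, 162, true), (5, 145, true), (4, 87, true), (3, 64, true), (2, 54, true), (5, 163, true), (4, 146, true), (3, 88, true), (2, 65, true), (4, 167, true), (3, 150, true), (5, 169, true), (4, 152, true), (4, 170, true)]),
    ([21, 8, 5], [(0, 197, true), (4, 196, true), (3, 139, true), (2, 108, true), (1, 94, true), (0, 81, true), (4, 149, true), (3, 133, true), (2, 118, true), (5, 150, true), (4, 134, true), (3, 119, true), (5, 169, true), (4, 152, true), (4, 160, true), (3, 127, true), (2, 98, true), (1, 85, true), (4, 166, true), (3, 149, true), (5, 170, true), (4, 151, true)], [(1, 41, true), (0, 196, true), (2, 197, true), (6, 199, true), (9, 204, true), (13, 205, true), (17, 206, true), (5, 149, true), (4, 118, true), (3, 104, true), (4, 150, true),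 (3, 119, true), (4, 166, true), (3, 149, true), (5, 167, true), (4, 150, true), (6, 169, true), (5, 152, true), (5, 170, true), (4, 113, true), (3, 99, true), (2, 86, true), (5, 114, true), (4, 100, true), (3, 87, true), (6, 115, true), (5, 101, true), (4, 88, true), (8, 128, true), (7, 113, true), (6, 99, true), (5, 86, true), (4, 63, true), (3, 53, true), (2, 44, true), (7, 129, true), (6, 114, true), (5, 100, true), (4, 87, true), (3, 64, true), (2, 54, true), (6, 130, true), (5, 115, true), (4, 101, true), (3, 88, true), (2, 65, true), (5, 134, true), (4, 119, true)]),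
    ([21, 9, 0, 2], [(0, 198, true), (2, 194, true), (1, 136, true), (0, 120, true), (2, 137, true), (1, 121, true), (3, 169, true), (4, 170, true), (3, 138, true), (2, 122, true), (5, 169, true), (4, 152, true), (4, 157, true), (3, 124, true), (5, 160, true), (4, 127, true)], [(1, 45, true), (5, 155, true), (4, 138, true), (3, 122, true), (2, 47, true), (7, 168, true), (6, 151, true), (8, 169, true), (7, 152, true), (7, 170, true), (0, 194, true), (5, 198, true), (7, 199, true), (10, 200, true), (13, 204, true), (17, 205, true), (21, 206, true), (6, 149, true), (5, 133, true), (7, 150, true), (6, 134, true), (9, 167, true), (8, 150, true), (7, 134, true), (6, 119, true), (8, 168, true), (7, 151, true), (6, 135, true), (7, 169, true), (6, 152, true), (6, 166, true), (5, 104, true),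 (5, 167, true), (6, 169, true), (7, 170, true), (6, 144, true), (5, 113, true), (7, 145, true), (6, 114, true), (8, 146, true), (7, 115, true), (9, 151, true), (10, 144, true), (9, 128, true), (8, 113, true), (7, 63, true), (6, 53, true), (5, 44, true), (9, 145, true), (8, 129, true), (7, 114, true), (6, 64, true), (5, 54, true), (8, 146, true), (7, 130, true), (6, 115, true), (5, 65, true), (7, 150, true), (6, 134, true), (5, 119, true), (6, 152, true)]),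
    ([21, 9, 5], [(0, 198, true), (2, 196, true), (1, 139, true), (0, 123, true), (2, 169, true), (3, 160, true), (2, 143, true), (1, 127, true)], [(1, 50, true), (0, 196, true), (2, 198, true), (4, 200, true), (7, 205, true), (11, 206, true), (3, 150, true), (2, 134, true), (4, 151, true), (3, 135, true), (3, 152, true), (2, 113, true), (3, 114, true), (4, 115, true), (6, 128, true), (5, 113, true), (4, 63, true), (3, 53, true), (2, 44, true), (5, 129, true), (4, 114, true), (3, 64, true), (2, 54, true), (4, 130, true), (3, 115, true), (2, 65, true), (3, 134, true), (2, 119, true)])]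

/-- part of the pairs -/
def twoEqs16 : List Pair :=
  [([21, 12, 0, 2], [(0, 201, true), (8, 194, true), (7, 120, true), (6, 105, true), (5, 91, true), (4, 78, true), (3, 66, true), (2, 55, true), (1, 45, true), (0, 36, true), (6, 162, true), (5, 145, true), (4, 129, true), (3, 87, true), (2, 54, true), (5, 168, true), (4, 151, true), (3, 135, true), (4, 169, true), (3, 152, true), (3, 170, true), (2, 88, true), (3, 89, true), (4, 89, true), (3, 77, true), (3, 90, true), (5, 166, true), (4, 149, true), (3, 133, true), (6, 167, true), (5, 150, true), (4, 134, true), (7, 168, true), (6, 151, true), (5, 135, true), (6, 169, true), (5, 152, true), (5, 170, true), (5, 121, true), (4, 106, true), (3, 92, true), (2, 56, true), (1, 37, true), (5, 163, true), (4, 146, true), (3, 130, true),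 (6, 166, true), (5, 149, true), (4, 133, true), (7, 167, true), (6, 150, true), (5, 134, true), (8, 166, true), (7, 149, true), (6, 133, true), (5, 118, true), (4, 104, true), (7, 167, true), (6, 150, true), (5, 134, true), (4, 119, true), (6, 168, true), (5, 151, true), (4, 135, true), (5, 170, true), (4, 138, true), (3, 57, true), (2, 38, true), (5, 130, true), (4, 88, true), (7, 140, true), (6, 124, true), (5, 82, true), (4, 59, true), (3, 40, true), (8, 163, true), (7, 146, true), (6, 130, true), (9, 164, true), (8, 147, true), (7, 131, true), (10, 169, true), (9, 152, true), (9, 170, true), (8, 132, true), (9, 135, true), (10, 168, true), (9, 151, true), (11, 169, true), (10, 152, true), (10, 160, true), (9, 127, true), (8, 85, true), (7, 73, true), (6, 62, true), (5, 52, true),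 (4, 43, true), (7, 162, true), (6, 114, true), (8, 168, true), (9, 163, true), (8, 130, true), (7, 115, true), (10, 169, true), (11, 170, true), (10, 147, true), (9, 131, true), (8, 116, true), (11, 148, true), (10, 132, true), (9, 117, true), (12, 152, true), (12, 168, true), (11, 135, true), (11, 170, true)], [(1, 78, true), (5, 155, true), (4, 138, true), (3, 122, true), (2, 80, true), (5, 168, true), (4, 151, true), (6, 169, true), (5, 152, true), (5, 170, true), (0, 194, true), (5, 201, true), (13, 204, true), (17, 205, true), (21, 206, true), (12, 133, true), (11, 118, true), (10, 104, true), (11, 134, true), (10, 119, true), (12, 161, true), (11, 144, true), (10, 128, true), (9, 86, true), (8, 74, true), (7, 63, true), (6, 53, true), (5, 44, true), (11, 162, true), (10, 145,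 true), (9, 129, true), (8, 87, true), (7, 75, true), (6, 64, true), (5, 54, true), (10, 163, true), (9, 146, true), (8, 130, true), (7, 88, true), (6, 76, true), (5, 65, true), (9, 168, true), (8, 151, true), (7, 135, true), (8, 161, true), (7, 144, true), (6, 86, true), (5, 74, true), (9, 162, true), (8, 145, true), (7, 87, true), (6, 75, true), (10, 163, true), (9, 146, true), (8, 88, true), (7, 76, true), (11, 167, true), (10, 150, true), (12, 169, true), (11, 152, true), (11, 170, true)]),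
    ([21, 13, 0, 2], [(0, 202, true), (3, 194, true), (2, 105, true), (1, 55, true), (0, 36, true), (6, 163, true), (5, 146, true), (4, 130, true), (3, 88, true), (7, 164, true), (6, 147, true), (5, 131, true), (4, 89, true), (8, 167, true), (7, 150, true), (6, 134, true), (9, 168, true), (8, 151, true), (7, 135, true), (8, 169, true), (7, 152, true), (7, 170, true), (6, 106, true), (5, 79, true), (4, 67, true), (3, 56, true), (2, 46, true), (1, 37, true), (5, 162, true), (4, 145, true), (3, 129, true), (6, 166, true), (5, 149, true), (4, 133, true), (7, 163, true), (6, 146, true), (5, 130, true), (4, 101, true), (8, 166, true), (7, 149, true), (6, 133, true), (5, 104, true), (7, 167, true), (6, 150, true), (5, 134, true), (8, 164, true), (7, 147, true), (6, 131, true), (5, 116, true),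 (9, 168, true), (8, 151, true), (7, 135, true), (8, 169, true), (7, 152, true), (7, 170, true), (6, 117, true), (7, 118, true), (8, 119, true), (7, 93, true), (6, 80, true), (5, 68, true), (4, 57, true), (3, 47, true), (2, 38, true), (5, 129, true), (4, 87, true), (6, 130, true), (5, 88, true), (7, 131, true), (6, 89, true), (10, 163, true), (9, 146, true), (8, 130, true), (7, 88, true), (6, 76, true), (5, 65, true), (9, 164, true), (8, 147, true), (7, 131, true), (6, 89, true), (5, 77, true), (8, 165, true), (7, 148, true), (6, 132, true), (5, 90, true), (7, 169, true), (6, 152, true), (6, 170, true), (5, 133, true), (6, 134, true), (7, 135, true), (8, 157, true), (7, 140, true), (6, 109, true), (5, 95, true), (4, 49, true), (3, 40, true), (8, 162, true), (7, 145, true), (6, 129,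 true), (5, 54, true), (7, 166, true), (6, 149, true), (5, 133, true), (8, 168, true), (7, 151, true), (6, 135, true), (7, 169, true), (6, 152, true), (6, 170, true), (9, 160, true), (8, 143, true), (7, 127, true), (6, 112, true), (5, 98, true), (4, 43, true), (7, 166, true), (6, 118, true), (8, 170, true), (7, 119, true)], [(1, 91, true), (2, 93, true), (0, 194, true), (5, 202, true), (8, 203, true), (12, 204, true), (16, 205, true), (20, 206, true), (7, 115, true), (6, 65, true), (6, 119, true), (7, 166, true), (6, 149, true), (8, 167, true), (7, 150, true), (9, 169, true), (8, 152, true), (8, 170, true), (7, 113, true), (6, 99, true), (5, 44, true), (6, 114, true), (5, 100, true), (7, 115, true), (6, 101, true), (9, 128, true), (8, 113, true), (7, 99, true), (6, 63, true), (5, 53,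 true), (10, 129, true), (9, 114, true), (8, 100, true), (7, 64, true), (6, 54, true), (9, 130, true), (8, 115, true), (7, 101, true), (6, 65, true), (8, 134, true), (7, 119, true)]),
    ([21, 13, 4], [(0, 202, true), (3, 195, true), (2, 106, true), (1, 56, true), (0, 37, true), (4, 163, true), (3, 146, true), (2, 130, true), (5, 166, true), (4, 149, true), (3, 133, true), (6, 167, true), (5, 150, true), (4, 134, true), (7, 167, true), (6, 150, true), (5, 134, true), (4, 119, true), (6, 160, true), (5, 143, true), (4, 127, true), (3, 98, true), (2, 62, true), (1, 43, true), (4, 163, true), (3, 115, true), (5, 169, true), (6, 170, true), (5, 149, true), (4, 118, true), (7, 168, true), (6, 151, true), (8, 169, true), (7, 152, true), (7, 170, true)], [(1, 95, true), (0, 195, true), (2,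 202, true), (5, 204, true), (9, 205, true), (13, 206, true), (4, 118, true), (5, 119, true), (6, 161, true), (5, 144, true), (4, 99, true), (3, 63, true), (2, 44, true), (5, 162, true), (4, 145, true), (3, 100, true), (2, 64, true), (6, 163, true), (5, 146, true), (4, 101, true), (3, 65, true), (5, 168, true), (4, 151, true), (6, 161, true), (5, 144, true), (4, 128, true), (3, 99, true), (2, 53, true), (7, 162, true), (6, 145, true), (5, 129, true), (4, 100, true), (3, 54, true), (6, 163, true), (5, 146, true), (4, 130, true), (3, 101, true), (7, 167, true), (6, 150, true), (5, 134, true), (8, 169, true), (7, 152, true), (7, 170, true)]),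
    ([22, 0, 0], [(0, 207, true), (5, 207, true), (4, 28, true), (3, 15, true), (2, 10, true), (1, 3, true), (0, 0, true), (1, 19, true), (2, 20, true), (2, 30, true), (1, 12, true), (0, 5, true), (2, 32, true), (1, 19, true), (0, 14, true), (1, 33, true), (0, 20, true), (0, 35, true)], [(1, 0, true)]),
    ([22, 4, 0], [(0, 208, true), (3, 207, true), (2, 28, true), (1, 15, true), (0, 3, true), (2, 20, true), (2, 30, true), (1, 5, true), (1, 32, true), (2, 33, true), (3, 35, true)], [(1, 10, true), (0, 207, true), (5, 208, true), (4, 30, true), (3, 17, true), (2, 12, true), (1, 5, true), (2, 20, true), (2, 33, true), (3, 35, true)]),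
    ([22, 5, 7, 0], [(0, 209, true), (4, 207, true), (3, 21, true), (2, 15, true), (1, 6, true), (0, 3, true), (2, 18, true), (4, 34, true), (5, 33, true), (4, 26, true), (3, 20, true), (4, 34, true), (3, 27, true), (3, 30, true), (2, 8, true), (1, 5, true), (2, 32, true), (3, 33, true), (4, 35, true)], [(2, 28, true), (1, 15, true), (0, 207, true), (5, 209, true), (4, 30, true), (3, 17, true), (2, 12, true), (1, 5, true), (2, 20, true), (2, 31, true), (1, 13, true), (4, 35, true), (3, 26, true), (4, 27, true)]),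
    ([22, 8, 0], [(0, 211, true), (3, 207, true), (2, 120, true), (1, 45, true), (0, 36, true), (6, 162, true), (5, 145, true), (4, 129, true), (3, 87, true), (2, 54, true), (5, 168, true), (4, 151, true), (3, 135, true), (4, 169, true), (3, 152, true), (3, 170, true), (3, 122, true), (2, 80, true), (1, 38, true), (4, 132, true), (3, 90, true), (5, 168, true), (4, 151, true), (3, 135, true), (4, 169, true), (3, 152, true), (3, 170, true), (2, 40, true), (7, 158, true), (6, 141, true), (5, 125, true), (4, 50, true), (3, 41, true), (8, 162, true), (7, 145, true), (6, 129, true), (5, 64, true), (9, 164, true), (8, 147, true), (7, 131, true), (10, 169, true), (9, 152, true), (9, 170, true), (8, 135, true), (9, 160, true), (8, 143, true), (7, 73, true), (6, 62, true), (5, 52, true), (4,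 43, true), (7, 162, true), (6, 114, true), (8, 168, true), (9, 163, true), (8, 130, true), (7, 115, true), (10, 169, true), (11, 170, true), (10, 147, true), (9, 131, true), (8, 116, true), (11, 152, true)], [(1, 36, true), (0, 207, true), (5, 211, true), (8, 212, true), (12, 215, true), (16, 218, true), (18, 219, true), (19, 220, true), (7, 132, true), (8, 134, true), (9, 135, true), (9, 146, true), (8, 115, true), (7, 88, true), (10, 147, true), (9, 116, true), (8, 89, true), (11, 148, true), (10, 117, true), (9, 90, true), (10, 151, true), (11, 146, true), (10, 130, true), (9, 115, true), (8, 76, true), (7, 65, true), (10, 148, true), (9, 132, true), (8, 117, true), (11, 150, true), (10, 134, true), (9, 119, true), (10, 146, true), (9, 130, true), (8, 88, true), (7, 76, true), (11,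 148, true), (10, 132, true), (9, 90, true), (10, 150, true), (9, 134, true), (11, 152, true)]),
    ([22, 8, 4], [(0, 211, true), (3, 208, true), (2, 122, true), (1, 47, true), (0, 38, true), (3, 129, true), (2, 87, true), (4, 130, true), (3, 88, true), (5, 131, true), (4, 89, true), (8, 168, true), (7, 151, true), (6, 135, true), (7, 169, true), (6, 152, true), (6, 170, true), (5, 83, true), (4, 71, true), (3, 60, true), (2, 50, true), (1, 41, true), (6, 162, true), (5, 145, true), (4, 129, true), (3, 64, true), (7, 164, true), (6, 147, true), (5, 131, true), (8, 169, true), (7, 152, true), (7, 170, true), (6, 130, true), (5, 76, true), (4, 65, true), (5, 131, true), (4, 77, true), (4, 132, true), (7, 160, true), (6, 143, true), (5, 127, true), (4, 85, true), (3, 52, true), (2, 43,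 true), (5, 162, true), (4, 114, true), (6, 168, true), (7, 165, true), (6, 132, true), (5, 117, true), (8, 169, true), (9, 170, true), (8, 151, true), (7, 135, true), (7, 152, true)], [(1, 40, true), (0, 208, true), (3, 211, true), (6, 212, true), (10, 218, true), (12, 219, true), (13, 220, true), (5, 132, true), (6, 134, true), (7, 135, true), (7, 146, true), (6, 115, true), (5, 88, true), (8, 148, true), (7, 117, true), (6, 90, true), (7, 150, true), (6, 119, true), (6, 146, true), (5, 65, true), (5, 148, true), (6, 150, true), (7, 152, true)]),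
    ([22, 8, 5, 7], [(0, 211, true), (3, 209, true), (2, 122, true), (1, 47, true), (0, 38, true), (3, 129, true), (2, 87, true), (4, 130, true), (3, 88, true), (5, 131, true), (4, 89, true), (8, 168, true), (7, 151, true), (6, 135, true), (7, 169, true), (6, 152, true), (6, 170, true), (5, 81, true), (4, 69, true), (3, 58, true), (2, 48, true), (1, 39, true), (5, 129, true), (4, 114, true), (3, 100, true), (6, 133, true), (5, 118, true), (4, 104, true), (5, 134, true), (4, 119, true), (4, 135, true), (4, 146, true), (5, 150, true), (6, 151, true), (8, 164, true), (7, 147, true), (6, 131, true), (5, 116, true), (9, 169, true), (8, 152, true), (8, 165, true), (7, 132, true), (6, 117, true), (9, 167, true), (8, 134, true), (7, 119, true), (8, 168, true), (7, 135, true), (7, 169, true),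 (8, 158, true), (7, 141, true), (6, 83, true), (5, 71, true), (4, 60, true), (3, 50, true), (2, 41, true), (7, 162, true), (6, 145, true), (5, 129, true), (4, 64, true), (8, 164, true), (7, 147, true), (6, 131, true), (9, 169, true), (8, 152, true), (8, 170, true), (7, 130, true), (6, 76, true), (5, 65, true), (6, 131, true), (5, 77, true), (5, 132, true), (8, 169, true), (7, 152, true), (7, 170, true), (6, 126, true), (5, 84, true), (4, 51, true), (3, 42, true), (8, 162, true), (7, 145, true), (6, 129, true), (5, 100, true), (9, 168, true), (8, 151, true), (7, 135, true), (8, 169, true), (7, 152, true), (7, 170, true), (6, 103, true), (10, 168, true), (9, 151, true), (8, 135, true)], [(1, 41, true), (6, 160, true), (5, 143, true), (4, 127, true), (3, 62, true), (2, 43, true), (5,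 163, true), (4, 115, true), (6, 169, true), (7, 170, true), (6, 151, true), (7, 152, true), (0, 209, true), (4, 211, true), (7, 213, true), (8, 217, true), (13, 218, true), (15, 220, true), (6, 128, true), (5, 53, true), (4, 44, true), (5, 128, true), (4, 53, true), (6, 132, true), (7, 133, true), (8, 134, true), (9, 135, true), (8, 115, true), (7, 101, true), (6, 88, true), (9, 117, true), (8, 103, true), (7, 90, true), (8, 115, true), (7, 101, true), (6, 65, true), (7, 117, true), (6, 103, true), (8, 119, true)]),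
    ([22, 8, 6], [(0, 211, true), (3, 210, true), (2, 122, true), (1, 47, true), (0, 38, true), (3, 129, true), (2, 87, true), (4, 130, true), (3, 88, true), (5, 131, true), (4, 89, true), (8, 168, true), (7, 151, true), (6, 135, true), (7, 169, true), (6, 152, true), (6, 170, true), (5, 83, true), (4, 71, true), (3, 60, true), (2, 50, true), (1, 41, true), (6, 162, true), (5, 145, true), (4, 129, true), (3, 64, true), (7, 164, true), (6, 147, true), (5, 131, true), (8, 169, true), (7, 152, true), (7, 170, true), (6, 130, true), (5, 76, true), (4, 65, true), (5, 131, true), (4, 77, true), (4, 132, true)], [(1, 42, true), (0, 210, true), (2, 211, true), (5, 216, true), (6, 218, true), (8, 219, true), (9, 220, true), (4, 132, true), (5, 130, true), (4, 88, true), (6, 132, true), (5,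 90, true), (5, 134, true), (6, 130, true), (5, 115, true), (4, 65, true), (5, 132, true), (4, 117, true), (6, 134, true), (5, 119, true)])]

/-- part of the pairs -/
def twoEqs17 : List Pair :=
  [([22, 9, 0], [(0, 212, true), (4, 207, true), (3, 136, true), (2, 120, true), (1, 105, true), (0, 78, true), (4, 167, true), (3, 150, true), (2, 134, true), (5, 168, true), (4, 151, true), (3, 135, true), (4, 169, true), (3, 152, true), (3, 170, true), (4, 138, true), (3, 122, true), (2, 107, true), (1, 80, true), (4, 167, true), (3, 150, true), (5, 169, true), (4, 152, true), (4, 170, true), (6, 169, true), (5, 152, true), (5, 157, true), (4, 124, true), (3, 109, true), (2, 82, true), (6, 167, true), (5, 150, true), (4, 134, true), (7, 168, true), (6, 151, true), (5, 135, true), (6, 168,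 true), (5, 151, true), (7, 170, true), (6, 141, true), (5, 125, true), (4, 110, true), (3, 83, true), (6, 167, true), (5, 150, true), (7, 169, true), (6, 152, true), (6, 170, true), (7, 143, true), (6, 127, true), (5, 112, true), (4, 85, true), (7, 167, true), (6, 150, true), (8, 168, true), (7, 151, true), (9, 169, true), (8, 152, true)], [(1, 45, true), (0, 207, true), (5, 212, true), (9, 218, true), (11, 219, true), (12, 220, true), (8, 146, true), (7, 130, true), (6, 115, true), (5, 88, true), (9, 148, true), (8, 132, true), (7, 117, true), (6, 90, true), (8, 150, true), (7, 134, true), (6, 119, true), (7, 146, true), (6, 130, true), (5, 65, true), (6, 148, true), (5, 132, true), (7, 150, true), (6, 134, true), (8, 152, true)]),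
    ([22, 9, 5, 7], [(0, 212, true), (4, 209, true), (3, 138, true), (2, 122, true), (1, 107, true), (0, 80, true), (3, 167, true), (2, 150, true), (4, 169, true), (3, 152, true), (3, 170, true), (5, 169, true), (4, 152, true), (4, 156, true), (3, 123, true), (2, 108, true), (1, 81, true), (5, 150, true), (4, 134, true), (3, 119, true), (5, 168, true), (4, 151, true), (3, 135, true), (4, 170, true), (4, 158, true), (3, 141, true), (2, 83, true), (5, 169, true), (4, 152, true), (4, 170, true), (3, 84, true)], [(1, 50, true), (5, 160, true), (4, 143, true), (3, 73, true), (2, 52, true), (4, 131, true), (0, 209, true), (4, 212, true), (8, 214, true), (10, 218, true), (12, 219, true), (13, 220, true), (7, 150, true), (6, 134, true), (5, 119, true), (6, 152, true), (5, 130, true), (4, 88,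 true), (6, 132, true), (5, 90, true), (5, 134, true), (6, 130, true), (5, 115, true), (4, 65, true), (5, 132, true), (4, 117, true), (6, 134, true), (5, 119, true)]),
    ([22, 10, 4], [(0, 213, true), (1, 208, true), (0, 38, true), (3, 125, true), (2, 83, true), (1, 41, true), (6, 165, true), (5, 148, true), (4, 132, true), (7, 169, true), (6, 152, true), (6, 170, true), (5, 135, true), (4, 85, true), (3, 62, true), (2, 43, true), (5, 163, true), (4, 115, true), (6, 169, true), (7, 170, true), (6, 148, true), (5, 117, true), (7, 152, true)], [(1, 59, true), (0, 208, true), (3, 213, true), (4, 214, true), (6, 219, true), (7, 220, true), (5, 150, true), (4, 119, true), (4, 146, true), (5, 148, true), (6, 150, true), (7, 152, true)]),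
    ([22, 13, 5, 7], [(0, 216, true), (1, 209, true), (0, 80, true), (3, 156, true), (2, 139, true), (1, 81, true), (5, 152, true), (5, 158, true), (4, 125, true), (3, 110, true), (2, 83, true), (5, 167, true), (4, 150, true), (6, 169, true), (5, 152, true), (5, 170, true), (6, 159, true), (5, 126, true), (4, 111, true), (3, 84, true), (7, 167, true), (6, 150, true), (5, 134, true), (8, 170, true), (7, 151, true), (6, 135, true)], [(1, 96, true), (3, 127, true), (2, 98, true), (4, 168, true), (0, 209, true), (4, 216, true), (5, 218, true), (7, 220, true), (4, 88, true), (5, 90, true), (4, 65, true)]),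
    ([23, 1, 7, 0], [(0, 222, true), (1, 221, true), (0, 3, true), (2, 17, true), (1, 5, true), (1, 18, true), (3, 32, true), (2, 19, true), (4, 34, true)], [(2, 28, true), (1, 1, true), (0, 221, true), (5, 222, true), (4, 23, true), (3, 12, true), (2, 8, true), (1, 5, true)]),
    ([23, 8, 0], [(0, 223, true), (3, 221, true), (2, 136, true), (1, 105, true), (0, 36, true), (6, 167, true), (5, 150, true), (4, 134, true), (7, 168, true), (6, 151, true), (5, 135, true), (6, 169, true), (5, 152, true), (5, 170, true), (5, 138, true), (4, 107, true), (3, 80, true), (2, 47, true), (1, 38, true), (4, 129, true), (3, 87, true), (5, 130, true), (4, 88, true), (6, 131, true), (5, 89, true), (9, 165, true), (8, 148, true), (7, 132, true), (6, 90, true), (8, 169, true), (7, 152, true), (7, 170,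 true), (6, 134, true), (9, 169, true), (8, 152, true), (8, 156, true), (7, 123, true), (6, 108, true), (5, 69, true), (4, 58, true), (3, 48, true), (2, 39, true), (6, 129, true), (5, 114, true), (4, 100, true), (7, 133, true), (6, 118, true), (5, 104, true), (6, 134, true), (5, 119, true), (5, 135, true), (5, 146, true), (6, 150, true), (7, 151, true), (9, 164, true), (8, 147, true), (7, 131, true), (6, 116, true), (10, 169, true), (9, 152, true), (9, 167, true), (8, 134, true), (7, 119, true), (8, 170, true), (7, 135, true), (7, 170, true), (6, 70, true), (5, 59, true), (4, 49, true), (3, 40, true), (8, 162, true), (7, 145, true), (6, 129, true), (5, 54, true), (7, 163, true), (6, 146, true), (5, 130, true), (8, 164, true), (7, 147, true), (6, 131, true), (9, 169, true), (8, 152,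 true), (8, 170, true), (7, 131, true), (6, 77, true), (6, 126, true), (5, 61, true), (4, 42, true), (9, 163, true), (8, 146, true), (7, 130, true), (6, 101, true), (10, 168, true), (9, 151, true), (8, 135, true), (9, 168, true), (8, 151, true)], [(1, 36, true), (0, 221, true), (5, 223, true), (8, 224, true), (16, 227, true), (21, 230, true), (27, 231, true), (37, 232, true), (7, 144, true), (6, 113, true), (5, 44, true), (6, 145, true), (5, 114, true), (7, 146, true), (6, 115, true), (8, 149, true), (7, 118, true), (9, 150, true), (8, 119, true), (8, 151, true), (9, 152, true), (9, 161, true), (8, 128, true), (7, 99, true), (6, 63, true), (5, 53, true), (10, 162, true), (9, 129, true), (8, 100, true), (7, 64, true), (6, 54, true), (9, 167, true), (8, 134, true), (10, 168, true), (9,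 135, true), (9, 170, true), (8, 113, true), (7, 99, true), (6, 63, true), (5, 44, true), (7, 114, true), (6, 100, true), (5, 64, true), (8, 118, true), (7, 104, true), (7, 119, true), (8, 161, true), (7, 144, true), (6, 63, true), (5, 53, true), (9, 162, true), (8, 145, true), (7, 64, true), (6, 54, true), (8, 163, true), (7, 146, true), (6, 65, true), (7, 164, true), (6, 147, true), (8, 165, true), (7, 148, true), (9, 166, true), (8, 149, true), (10, 167, true), (9, 150, true), (11, 168, true), (10, 151, true), (12, 169, true), (11, 152, true), (11, 170, true), (10, 130, true), (9, 115, true), (8, 101, true), (7, 88, true), (6, 76, true), (11, 131, true), (10, 116, true), (9, 102, true), (8, 89, true), (7, 77, true), (10, 132, true), (9, 117, true), (8, 103, true), (7, 90, true),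 (9, 134, true), (8, 119, true)]),
    ([23, 8, 1, 7], [(0, 223, true), (3, 222, true), (2, 138, true), (1, 107, true), (0, 38, true), (3, 134, true), (6, 169, true), (5, 152, true)], [(1, 37, true), (5, 160, true), (4, 143, true), (3, 127, true), (2, 43, true), (5, 168, true), (6, 169, true), (7, 170, true), (0, 222, true), (1, 223, true), (4, 229, true), (8, 230, true), (14, 231, true), (3, 146, true), (2, 115, true), (4, 147, true), (3, 116, true), (5, 152, true), (5, 161, true), (4, 113, true), (3, 74, true), (2, 63, true), (1, 44, true), (4, 162, true), (3, 114, true), (2, 75, true), (1, 64, true), (5, 166, true), (4, 118, true), (6, 167, true), (5, 119, true), (5, 169, true), (6, 170, true), (5, 144, true), (4, 99, true), (3, 74, true), (2, 63, true), (1, 53, true), (6, 145, true),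 (5, 100, true), (4, 75, true), (3, 64, true), (2, 54, true), (5, 146, true), (4, 101, true), (3, 76, true), (2, 65, true), (4, 147, true), (3, 102, true), (2, 77, true), (3, 148, true), (2, 103, true), (4, 149, true), (3, 104, true), (3, 150, true), (4, 151, true), (5, 152, true)]),
    ([23, 9, 0], [(0, 224, true), (8, 221, true), (7, 153, true), (6, 136, true), (5, 120, true), (4, 105, true), (3, 91, true), (2, 55, true), (1, 45, true), (0, 36, true), (6, 162, true), (5, 145, true), (4, 129, true), (3, 87, true), (2, 54, true), (5, 168, true), (4, 151, true), (3, 135, true), (4, 169, true), (3, 152, true), (3, 170, true), (2, 88, true), (3, 89, true), (9, 168, true), (8, 151, true), (7, 135, true), (8, 169, true), (7, 152, true), (7, 170, true), (6, 107, true), (5, 93, true), (4,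 80, true), (3, 68, true), (2, 57, true), (1, 38, true), (4, 130, true), (3, 88, true), (5, 131, true), (4, 89, true), (6, 132, true), (5, 90, true), (7, 166, true), (6, 149, true), (5, 133, true), (8, 167, true), (7, 150, true), (6, 134, true), (9, 168, true), (8, 151, true), (7, 135, true), (8, 169, true), (7, 152, true), (7, 170, true), (6, 119, true), (7, 156, true), (6, 139, true), (5, 94, true), (4, 69, true), (3, 58, true), (2, 39, true), (6, 130, true), (5, 115, true), (4, 101, true), (7, 134, true), (6, 119, true), (6, 135, true), (6, 164, true), (5, 102, true), (7, 169, true), (8, 166, true), (7, 149, true), (6, 104, true), (7, 169, true), (6, 152, true), (6, 170, true), (5, 70, true), (4, 59, true), (3, 40, true), (8, 163, true), (7, 146, true), (6, 130, true), (9, 164, true),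 (8, 147, true), (7, 131, true), (10, 169, true), (9, 152, true), (9, 170, true), (8, 131, true), (7, 77, true), (7, 126, true), (6, 61, true), (5, 51, true), (4, 42, true), (9, 162, true), (8, 145, true), (7, 129, true), (6, 100, true), (10, 168, true), (9, 151, true), (8, 135, true), (9, 169, true), (8, 152, true), (8, 170, true), (7, 101, true), (9, 135, true)], [(1, 45, true), (0, 221, true), (5, 224, true), (13, 230, true), (19, 231, true), (29, 232, true), (12, 161, true), (11, 144, true), (10, 128, true), (9, 113, true), (8, 99, true), (7, 63, true), (6, 53, true), (5, 44, true), (11, 162, true), (10, 145, true), (9, 129, true), (8, 114, true), (7, 100, true), (6, 64, true), (5, 54, true), (10, 166, true), (9, 149, true), (8, 133, true), (7, 118, true), (6, 104, true), (9, 167,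 true), (8, 150, true), (7, 134, true), (6, 119, true), (8, 169, true), (7, 152, true), (7, 170, true), (6, 128, true), (5, 63, true), (7, 129, true), (6, 64, true), (8, 130, true), (7, 65, true), (7, 131, true), (8, 132, true), (9, 133, true), (10, 134, true), (11, 135, true), (12, 163, true), (11, 146, true), (10, 115, true), (9, 101, true), (8, 88, true), (7, 76, true), (13, 164, true), (12, 147, true), (11, 116, true), (10, 102, true), (9, 89, true), (8, 77, true), (12, 165, true), (11, 148, true), (10, 117, true), (9, 103, true), (8, 90, true), (11, 167, true), (10, 150, true), (9, 119, true), (10, 169, true), (9, 152, true), (9, 170, true)]),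
    ([23, 9, 1, 7], [(0, 224, true), (8, 222, true), (7, 155, true), (6, 138, true), (5, 122, true), (4, 107, true), (3, 93, true), (2, 57, true), (1, 47, true), (0, 38, true), (3, 129, true), (2, 87, true), (4, 130, true), (3, 88, true), (5, 131, true), (4, 89, true), (8, 163, true), (7, 146, true), (6, 130, true), (5, 88, true), (4, 76, true), (3, 65, true), (7, 166, true), (6, 149, true), (5, 133, true), (8, 167, true), (7, 150, true), (6, 134, true), (9, 168, true), (8, 151, true), (7, 135, true), (8, 169, true), (7, 152, true), (7, 170, true), (6, 119, true), (7, 168, true), (6, 151, true), (8, 169, true), (7, 152, true), (7, 170, true)], [(1, 46, true), (3, 98, true), (2, 52, true), (4, 133, true), (0, 222, true), (1, 224, true), (9, 228, true), (13, 230, true), (19, 232, true),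 (8, 161, true), (7, 144, true), (6, 128, true), (5, 113, true), (4, 99, true), (3, 63, true), (2, 53, true), (1, 44, true), (7, 162, true), (6, 145, true), (5, 129, true), (4, 114, true), (3, 100, true), (2, 64, true), (1, 54, true), (6, 166, true), (5, 149, true), (4, 133, true), (3, 118, true), (2, 104, true), (5, 167, true), (4, 150, true), (3, 134, true), (2, 119, true), (4, 161, true), (3, 144, true), (2, 128, true), (1, 63, true), (5, 162, true), (4, 145, true), (3, 129, true), (2, 64, true), (6, 166, true), (5, 149, true), (4, 133, true), (7, 167, true), (6, 150, true), (5, 134, true), (8, 169, true), (7, 152, true), (7, 170, true), (6, 130, true), (5, 115, true), (4, 101, true), (3, 65, true), (5, 131, true), (4, 116, true), (3, 102, true), (6, 132, true), (5, 117, true), (4,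 103, true), (7, 134, true), (6, 119, true)]),
    ([23, 10, 0], [(0, 225, true), (3, 221, true), (2, 153, true), (1, 136, true), (0, 36, true), (6, 169, true), (5, 152, true), (5, 170, true), (4, 122, true), (3, 80, true), (2, 47, true), (1, 38, true), (4, 129, true), (3, 87, true), (5, 130, true), (4, 88, true), (6, 131, true), (5, 89, true), (9, 165, true), (8, 148, true), (7, 132, true), (6, 90, true), (8, 169, true), (7, 152, true), (7, 170, true), (6, 135, true), (7, 156, true), (6, 139, true), (5, 69, true), (4, 58, true), (3, 48, true), (2, 39, true), (6, 129, true), (5, 114, true), (4, 100, true), (7, 133, true), (6, 118, true), (5, 104, true), (6, 134, true), (5, 119, true), (5, 135, true), (5, 146, true), (6, 150, true), (7, 151, true), (9, 164, true), (8, 147, true), (7,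 131, true), (6, 116, true), (10, 169, true), (9, 152, true), (9, 169, true), (10, 170, true), (9, 140, true), (8, 124, true), (7, 109, true), (6, 70, true), (5, 59, true), (4, 49, true), (3, 40, true), (8, 162, true), (7, 145, true), (6, 129, true), (5, 54, true), (7, 163, true), (6, 146, true), (5, 130, true), (8, 164, true), (7, 147, true), (6, 131, true), (9, 169, true), (8, 152, true), (8, 170, true), (7, 131, true), (6, 77, true), (6, 134, true), (7, 135, true), (8, 142, true), (7, 126, true), (6, 111, true), (5, 61, true), (4, 42, true), (9, 163, true), (8, 146, true), (7, 130, true), (6, 101, true), (10, 168, true), (9, 151, true), (8, 135, true), (9, 167, true), (8, 150, true), (10, 170, true), (9, 151, true), (10, 152, true)], [(1, 55, true), (0, 221, true), (5, 225, true),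 (8, 226, true), (7, 163, true), (6, 146, true), (8, 166, true), (7, 149, true), (9, 167, true), (8, 150, true), (10, 168, true), (9, 151, true), (11, 169, true), (10, 152, true), (10, 170, true)])]

/-- part of the pairs -/
def twoEqs18 : List Pair :=
  [([23, 10, 1, 7], [(0, 225, true), (3, 222, true), (2, 155, true), (1, 138, true), (0, 38, true)], [(1, 56, true), (4, 112, true), (3, 98, true), (2, 62, true), (5, 166, true), (4, 149, true), (6, 170, true), (5, 150, true), (0, 222, true), (1, 225, true), (4, 228, true), (8, 229, true), (12, 231, true), (3, 161, true), (2, 144, true), (1, 44, true), (2, 162, true), (1, 145, true), (3, 166, true), (2, 149, true), (4, 167, true), (3, 150, true), (5, 163, true), (4, 146, true), (3, 115, true), (2, 101, true), (6, 164, true), (5, 147,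 true), (4, 116, true), (3, 102, true), (7, 169, true), (6, 152, true), (6, 170, true), (5, 113, true), (4, 99, true), (3, 74, true), (2, 63, true), (1, 53, true), (6, 114, true), (5, 100, true), (4, 75, true), (3, 64, true), (2, 54, true), (5, 115, true), (4, 101, true), (3, 76, true), (2, 65, true), (4, 116, true), (3, 102, true), (2, 77, true), (3, 117, true), (2, 103, true), (4, 118, true), (3, 104, true), (3, 119, true)]),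
    ([24, 8, 10, 11, 12, 15, 17, 8, 10, 11, 12, 15, 17], [(0, 233, true), (8, 233, true), (7, 136, true), (6, 120, true), (5, 91, true), (4, 78, true), (3, 66, true), (2, 21, true), (1, 10, true), (0, 0, true), (6, 166, true), (5, 149, true), (4, 133, true), (7, 168, true), (6, 151, true), (5, 135, true), (6, 169, true), (5, 152, true), (5, 157, true), (4, 95, true), (3, 82, true), (2, 70, true), (1, 25, true), (0, 14, true), (5, 166, true), (4, 149, true), (3, 133, true), (6, 168, true), (5, 151, true), (4, 135, true), (5, 169, true), (4, 152, true), (4, 170, true), (4, 159, true), (3, 97, true), (2, 84, true), (1, 72, true), (0, 27, true), (4, 166, true), (3, 149, true), (2, 133, true), (5, 170, true), (4, 147, true), (3, 131, true), (2, 102, true), (1, 89, true), (0, 77, true),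 (3, 148, true), (2, 132, true), (1, 103, true), (0, 90, true), (2, 149, true), (1, 133, true), (0, 104, true), (1, 151, true), (0, 135, true), (0, 152, true)], [(6, 161, true), (5, 128, true), (4, 86, true), (3, 74, true), (2, 63, true), (1, 44, true), (5, 163, true), (4, 130, true), (3, 88, true), (2, 76, true), (1, 65, true), (4, 164, true), (3, 131, true), (2, 89, true), (1, 77, true), (3, 165, true), (2, 132, true), (1, 90, true), (2, 168, true), (1, 135, true), (1, 170, true)]),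
    ([25, 1, 0, 4, 5, 11], [(0, 235, true), (6, 234, true), (5, 154, true), (4, 121, true), (3, 106, true), (2, 92, true), (1, 22, true), (0, 2, true), (4, 170, true), (3, 123, true), (2, 108, true), (1, 94, true), (0, 24, true), (4, 168, true), (5, 170, true), (4, 127, true), (3, 112, true), (2, 98, true), (4, 167, true), (5, 168, true), (6, 162, true), (5, 129, true), (4, 114, true), (3, 100, true), (7, 163, true), (6, 130, true), (5, 115, true), (4, 101, true), (8, 165, true), (7, 132, true), (6, 117, true), (5, 103, true)], [(1, 1, true), (6, 170, false), (6, 152, false), (7, 169, false), (6, 135, false), (7, 151, false), (8, 168, false), (5, 35, false), (6, 73, false), (7, 127, false), (8, 143, false), (9, 160, false), (5, 27, false), (4, 26, false), (2, 11, false), (3, 16, false),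 (4, 67, false), (0, 234, true), (6, 235, true), (12, 239, true), (15, 243, true), (19, 244, true), (21, 245, true), (5, 79, true), (4, 56, true), (3, 46, true), (2, 29, true), (1, 7, true), (0, 2, true), (3, 101, true), (4, 104, true), (4, 117, true), (5, 118, true), (6, 111, true), (5, 97, true), (4, 84, true), (3, 61, true), (2, 51, true), (1, 34, true), (6, 163, true), (5, 146, true), (4, 130, true), (7, 168, true), (6, 151, true), (5, 135, true), (6, 165, true), (5, 148, true), (7, 168, true), (6, 151, true), (8, 169, true), (7, 152, true), (7, 170, true), (6, 133, true), (7, 134, true), (9, 166, true), (8, 133, true), (7, 118, true), (6, 104, true), (8, 167, true), (7, 134, true), (6, 119, true), (7, 168, true), (6, 135, true), (6, 170, true), (5, 79, true), (4, 56, true), (3,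 46, true), (2, 29, true), (1, 22, true), (0, 7, true), (5, 101, true), (6, 104, true), (6, 117, true), (7, 118, true), (8, 108, true), (7, 94, true), (6, 81, true), (5, 58, true), (4, 48, true), (3, 31, true), (2, 24, true), (1, 9, true), (7, 146, true), (6, 130, true), (5, 115, true), (4, 101, true), (8, 150, true), (7, 134, true), (6, 119, true), (7, 151, true), (6, 135, true), (7, 165, true), (6, 148, true), (5, 103, true), (8, 167, true), (7, 150, true), (9, 168, true), (8, 151, true), (10, 169, true), (9, 152, true), (9, 166, true), (8, 133, true), (7, 118, true), (6, 104, true), (8, 167, true), (7, 134, true), (6, 119, true), (7, 170, true), (6, 127, true), (5, 85, true), (4, 62, true), (3, 52, true), (2, 35, true), (3, 130, true), (6, 165, true), (5, 148, true), (4, 132, true),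 (7, 169, true), (6, 152, true), (6, 170, true), (5, 135, true), (4, 79, true), (3, 56, true), (2, 46, true), (1, 22, true), (0, 2, true), (2, 101, true), (3, 104, true), (3, 117, true), (4, 118, true), (5, 108, true), (4, 94, true), (3, 81, true), (2, 58, true), (1, 48, true), (0, 24, true), (6, 146, true), (5, 130, true), (4, 115, true), (3, 101, true), (7, 150, true), (6, 134, true), (5, 119, true), (6, 151, true), (5, 135, true), (6, 165, true), (5, 148, true), (4, 103, true), (7, 167, true), (6, 150, true), (8, 168, true), (7, 151, true), (9, 169, true), (8, 152, true), (8, 166, true), (7, 133, true), (6, 118, true), (5, 104, true), (7, 167, true), (6, 134, true), (5, 119, true), (6, 170, true), (5, 127, true), (4, 85, true), (3, 62, true), (2, 52, true), (4, 130, true), (7, 165,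 true), (6, 148, true), (5, 132, true), (8, 169, true), (7, 152, true), (7, 170, true), (6, 135, true), (6, 133, true), (7, 134, true)]),
    ([25, 2, 12, 0, 4, 5, 11], [(0, 236, true), (9, 234, true), (8, 154, true), (7, 137, true), (6, 121, true), (5, 67, true), (4, 56, true), (3, 46, true), (2, 29, true), (1, 7, true), (0, 2, true), (3, 101, true), (4, 104, true), (4, 116, true), (8, 168, true), (7, 151, true), (6, 135, true), (7, 170, true), (6, 152, true), (6, 170, true), (5, 108, true), (4, 69, true), (3, 58, true), (2, 48, true), (1, 31, true), (0, 9, true), (5, 146, true), (4, 130, true), (3, 115, true), (2, 101, true), (6, 150, true), (5, 134, true), (4, 119, true), (5, 151, true), (4, 135, true), (5, 164, true), (4, 147, true), (3, 102, true), (6, 169, true), (5, 152, true),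 (5, 167, true), (6, 170, true), (5, 112, true), (4, 98, true), (3, 73, true), (2, 62, true), (1, 52, true), (0, 35, true), (1, 130, true), (4, 164, true), (3, 147, true), (2, 131, true), (5, 166, true), (4, 149, true), (3, 133, true), (6, 170, true), (5, 150, true), (4, 134, true), (6, 145, true), (5, 129, true), (4, 114, true), (3, 100, true), (2, 75, true), (1, 64, true), (0, 54, true), (5, 146, true), (4, 130, true), (3, 115, true), (2, 101, true), (1, 76, true), (0, 65, true), (4, 148, true), (3, 132, true), (2, 117, true), (1, 103, true)], [(2, 78, true), (1, 3, true), (7, 157, true), (6, 140, true), (5, 124, true), (4, 82, true), (3, 19, true), (8, 168, true), (7, 151, true), (6, 135, true), (7, 169, true), (6, 152, true), (6, 170, true), (5, 83, true), (4, 20, true), (6, 164,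 true), (5, 147, true), (4, 89, true), (4, 20, false), (2, 12, false), (3, 17, false), (4, 68, false), (0, 234, true), (6, 236, true), (15, 244, true), (17, 245, true), (5, 79, true), (4, 56, true), (3, 46, true), (2, 29, true), (1, 7, true), (0, 2, true), (3, 101, true), (4, 104, true), (4, 117, true), (5, 118, true), (6, 108, true), (5, 94, true), (4, 81, true), (3, 58, true), (2, 48, true), (1, 31, true), (0, 9, true), (5, 146, true), (4, 130, true), (3, 115, true), (2, 101, true), (6, 150, true), (5, 134, true), (4, 119, true), (5, 151, true), (4, 135, true), (5, 165, true), (4, 148, true), (3, 103, true), (6, 167, true), (5, 150, true), (7, 168, true), (6, 151, true), (8, 169, true), (7, 152, true), (7, 166, true), (6, 133, true), (5, 118, true), (4, 104, true), (6, 167, true),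 (5, 134, true), (4, 119, true), (5, 170, true), (4, 127, true), (3, 85, true), (2, 62, true), (1, 52, true), (0, 35, true), (1, 130, true), (4, 165, true), (3, 148, true), (2, 132, true), (5, 169, true), (4, 152, true), (4, 170, true), (3, 135, true), (2, 87, true), (1, 64, true), (0, 54, true), (1, 88, true), (0, 65, true), (0, 89, true), (4, 166, true), (3, 149, true), (2, 133, true), (5, 167, true), (4, 150, true), (3, 134, true), (6, 170, true)]),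
    ([25, 2, 12, 1], [(0, 236, true), (9, 235, true), (8, 154, true), (7, 137, true), (6, 121, true), (5, 67, true), (4, 56, true), (3, 46, true), (2, 29, true), (1, 7, true), (0, 2, true), (3, 101, true), (4, 104, true), (4, 116, true), (8, 168, true), (7, 151, true), (6, 135, true), (7, 170, true), (6, 152, true), (6, 170, true), (5, 111, true), (4, 72, true), (3, 61, true), (2, 51, true), (1, 34, true), (6, 163, true), (5, 146, true), (4, 130, true), (7, 168, true), (6, 151, true), (5, 135, true), (6, 164, true), (5, 147, true), (7, 167, true), (6, 150, true), (8, 170, true), (7, 149, true), (6, 118, true), (8, 150, true), (7, 119, true), (7, 151, true)], [(2, 79, true), (1, 4, true), (6, 152, false), (6, 135, false), (7, 151, false), (6, 119, false), (7, 134, false), (8, 150, false),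 (5, 118, false), (6, 133, false), (7, 149, false), (3, 81, false), (0, 235, true), (6, 236, true), (15, 237, true), (20, 241, true), (28, 242, true), (34, 243, true), (38, 244, true), (5, 154, true), (4, 121, true), (3, 106, true), (2, 92, true), (1, 22, true), (0, 2, true), (4, 170, true), (3, 123, true), (2, 108, true), (1, 94, true), (0, 24, true), (4, 168, true), (5, 170, true), (4, 127, true), (3, 112, true), (2, 98, true), (4, 167, true), (5, 168, true), (6, 162, true), (5, 129, true), (4, 114, true), (3, 100, true), (7, 163, true), (6, 130, true), (5, 115, true), (4, 101, true), (8, 164, true), (7, 131, true), (6, 116, true), (5, 102, true), (9, 168, true), (8, 135, true), (8, 169, true), (9, 170, true), (8, 137, true), (7, 106, true), (6, 92, true), (5, 67, true), (4, 56, true),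 (3, 46, true), (2, 29, true), (1, 22, true), (0, 7, true), (5, 101, true), (6, 104, true), (6, 116, true), (10, 166, true), (9, 149, true), (8, 133, true), (7, 118, true), (11, 167, true), (10, 150, true), (9, 134, true), (8, 119, true), (10, 169, true), (9, 152, true), (9, 170, true), (8, 126, true), (7, 97, true), (6, 72, true), (5, 61, true), (4, 51, true), (3, 34, true), (2, 27, true), (6, 163, true), (5, 146, true), (4, 130, true), (7, 168, true), (6, 151, true), (5, 135, true), (6, 164, true), (5, 147, true), (7, 166, true), (6, 149, true), (8, 168, true), (7, 151, true), (9, 160, true), (8, 143, true), (7, 127, true), (6, 98, true), (5, 73, true), (4, 62, true), (3, 52, true), (2, 35, true), (3, 130, true), (6, 164, true), (5, 147, true), (4, 131, true), (7, 166, true), (6,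 149, true), (5, 133, true), (8, 170, true), (7, 151, true), (6, 135, true), (6, 152, true), (6, 166, true), (5, 104, true), (5, 167, true), (6, 154, true), (5, 106, true), (4, 67, true), (3, 56, true), (2, 46, true), (1, 7, true), (0, 2, true), (2, 101, true), (3, 104, true), (3, 116, true), (7, 167, true), (6, 150, true), (5, 134, true), (4, 119, true), (6, 170, true), (5, 142, true), (4, 126, true), (3, 72, true), (2, 61, true), (1, 51, true), (5, 163, true), (4, 146, true), (3, 130, true), (6, 168, true), (5, 151, true), (4, 135, true), (5, 164, true), (4, 147, true), (6, 168, true), (5, 151, true), (7, 169, true), (6, 152, true), (6, 160, true), (5, 127, true), (4, 73, true), (3, 62, true), (2, 52, true), (4, 130, true), (7, 164, true), (6, 147, true), (5, 131, true), (8, 168,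 true), (7, 151, true), (6, 135, true), (7, 170, true), (6, 149, true), (7, 150, true), (8, 151, true), (9, 152, true), (9, 154, true), (8, 121, true), (7, 106, true), (6, 92, true), (5, 67, true), (4, 56, true), (3, 46, true), (2, 29, true), (1, 22, true), (0, 7, true), (5, 101, true), (6, 104, true), (6, 116, true), (10, 166, true), (9, 149, true), (8, 133, true), (7, 118, true), (11, 167, true), (10, 150, true), (9, 134, true), (8, 119, true), (10, 168, true), (9, 151, true), (8, 135, true), (9, 170, true), (9, 156, true), (8, 139, true), (7, 94, true), (6, 69, true), (5, 58, true), (4, 48, true), (3, 31, true), (2, 24, true), (1, 9, true), (7, 146, true), (6, 130, true), (5, 115, true), (4, 101, true), (8, 150, true), (7, 134, true), (6, 119, true), (7, 151, true), (6, 135, true),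 (7, 164, true), (6, 147, true), (5, 102, true), (8, 169, true), (7, 152, true), (7, 166, true), (6, 104, true), (6, 169, true), (7, 170, true), (6, 143, true), (5, 73, true), (4, 62, true), (3, 52, true), (2, 35, true), (3, 130, true), (6, 164, true), (5, 147, true), (4, 131, true), (7, 169, true), (6, 152, true), (6, 166, true), (5, 133, true), (7, 168, true), (6, 135, true), (6, 169, true), (7, 154, true), (6, 137, true), (5, 92, true), (4, 67, true), (3, 56, true), (2, 46, true), (1, 22, true), (0, 2, true), (2, 101, true), (3, 104, true), (3, 116, true), (7, 166, true), (6, 149, true), (5, 133, true), (4, 118, true), (8, 169, true), (7, 152, true), (7, 170, true), (7, 156, true), (6, 123, true), (5, 108, true), (4, 94, true), (3, 69, true), (2, 58, true), (1, 48, true), (0, 24,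 true), (6, 146, true), (5, 130, true), (4, 115, true), (3, 101, true), (7, 150, true), (6, 134, true), (5, 119, true), (6, 151, true), (5, 135, true), (6, 164, true), (5, 147, true), (4, 102, true), (7, 169, true), (6, 152, true), (6, 166, true), (5, 104, true), (5, 167, true), (6, 170, true), (7, 170, true), (6, 127, true), (5, 112, true), (4, 73, true), (3, 62, true), (2, 52, true), (4, 130, true), (7, 164, true), (6, 147, true), (5, 131, true), (8, 167, true), (7, 150, true), (6, 134, true), (9, 168, true), (8, 151, true), (7, 135, true), (8, 168, true), (7, 151, true), (9, 166, true), (8, 149, true), (7, 133, true), (6, 118, true), (10, 167, true), (9, 150, true), (8, 134, true), (7, 119, true)]),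
    ([25, 3, 0, 4, 5, 11], [(0, 237, true), (5, 234, true), (4, 106, true), (3, 92, true), (2, 29, true), (1, 22, true), (0, 2, true), (3, 108, true), (2, 94, true), (1, 31, true), (0, 24, true), (5, 160, true), (4, 112, true), (3, 98, true), (2, 35, true), (3, 167, true), (4, 170, true), (3, 114, true), (2, 100, true), (4, 115, true), (3, 101, true), (5, 117, true), (4, 103, true)], [(1, 6, true), (3, 25, true), (4, 26, true), (7, 152, false), (6, 35, false), (4, 26, false), (5, 33, false), (2, 13, false), (3, 18, false), (4, 69, false), (0, 234, true), (6, 237, true), (11, 244, true), (5, 79, true), (4, 56, true), (3, 46, true), (2, 29, true), (1, 7, true), (0, 2, true), (3, 101, true), (4, 104, true), (4, 117, true), (5, 118, true), (6, 111, true), (5, 97, true), (4, 84, true),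 (3, 61, true), (2, 51, true), (1, 34, true), (6, 163, true), (5, 146, true), (4, 130, true), (7, 168, true), (6, 151, true), (5, 135, true), (6, 165, true), (5, 148, true), (7, 168, true), (6, 151, true), (8, 169, true), (7, 152, true), (7, 170, true), (6, 133, true), (7, 134, true), (9, 160, true), (8, 127, true), (7, 112, true), (6, 98, true), (5, 85, true), (4, 62, true), (3, 52, true), (2, 35, true), (3, 130, true), (6, 165, true), (5, 148, true), (4, 132, true), (7, 169, true), (6, 152, true), (6, 170, true), (5, 133, true), (7, 167, true), (6, 134, true), (8, 168, true), (7, 135, true), (7, 170, true), (6, 118, true), (5, 104, true), (5, 119, true)]),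
    ([25, 3, 2, 12], [(0, 237, true), (5, 236, true), (4, 106, true), (3, 92, true), (2, 29, true), (1, 22, true), (0, 2, true), (3, 108, true), (2, 94, true), (1, 31, true), (0, 24, true), (5, 160, true), (4, 112, true), (3, 98, true), (2, 35, true), (3, 167, true), (4, 170, true), (3, 114, true), (2, 100, true), (4, 115, true), (3, 101, true), (5, 116, true), (4, 102, true)], [(1, 8, true), (4, 152, false), (4, 135, false), (5, 151, false), (4, 119, false), (5, 134, false), (6, 150, false), (2, 81, false), (0, 236, true), (9, 237, true), (14, 242, true), (20, 243, true), (24, 244, true), (8, 154, true), (7, 137, true), (6, 121, true), (5, 67, true), (4, 56, true), (3, 46, true), (2, 29, true), (1, 7, true), (0, 2, true), (3, 101, true), (4, 104, true), (4, 116, true), (8, 168, true),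 (7, 151, true), (6, 135, true), (7, 170, true), (6, 152, true), (6, 170, true), (5, 111, true), (4, 72, true), (3, 61, true), (2, 51, true), (1, 34, true), (6, 163, true), (5, 146, true), (4, 130, true), (7, 168, true), (6, 151, true), (5, 135, true), (6, 164, true), (5, 147, true), (7, 167, true), (6, 150, true), (8, 170, true), (7, 143, true), (6, 112, true), (5, 73, true), (4, 62, true), (3, 52, true), (2, 35, true), (3, 130, true), (6, 164, true), (5, 147, true), (4, 131, true), (7, 167, true), (6, 150, true), (5, 134, true), (8, 169, true), (7, 152, true), (7, 166, true), (6, 133, true), (5, 118, true), (8, 167, true), (7, 134, true), (6, 119, true), (7, 154, true), (6, 121, true), (5, 92, true), (4, 67, true), (3, 56, true), (2, 46, true), (1, 22, true), (0, 7, true), (4, 101,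 true), (5, 104, true), (5, 116, true), (9, 166, true), (8, 149, true), (7, 133, true), (6, 118, true), (10, 168, true), (9, 151, true), (8, 135, true), (9, 170, true), (9, 156, true), (8, 139, true), (7, 108, true), (6, 94, true), (5, 69, true), (4, 58, true), (3, 48, true), (2, 24, true), (1, 9, true), (6, 146, true), (5, 130, true), (4, 115, true), (3, 101, true), (7, 150, true), (6, 134, true), (5, 119, true), (6, 151, true), (5, 135, true), (6, 164, true), (5, 147, true), (4, 102, true), (7, 169, true), (6, 152, true), (6, 166, true), (5, 104, true), (5, 167, true), (6, 170, true), (7, 160, true), (6, 143, true), (5, 112, true), (4, 73, true), (3, 62, true), (2, 52, true), (4, 130, true), (7, 164, true), (6, 147, true), (5, 131, true), (8, 167, true), (7, 150, true), (6, 134, true),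 (9, 169, true), (8, 152, true), (8, 170, true), (7, 133, true), (6, 118, true), (8, 135, true), (8, 137, true), (7, 106, true), (6, 92, true), (5, 67, true), (4, 56, true), (3, 46, true), (2, 29, true), (1, 22, true), (0, 2, true), (3, 101, true), (4, 104, true), (4, 116, true), (8, 166, true), (7, 149, true), (6, 133, true), (5, 118, true), (9, 167, true), (8, 150, true), (7, 134, true), (6, 119, true), (8, 169, true), (7, 152, true), (7, 170, true), (6, 123, true), (5, 94, true), (4, 69, true), (3, 58, true), (2, 48, true), (1, 31, true), (0, 24, true), (7, 146, true), (6, 130, true), (5, 115, true), (4, 101, true), (8, 150, true), (7, 134, true), (6, 119, true), (7, 151, true), (6, 135, true), (7, 164, true), (6, 147, true), (5, 102, true), (8, 169, true), (7, 152, true), (7, 166,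 true), (6, 104, true), (6, 168, true), (7, 170, true), (6, 127, true), (5, 73, true), (4, 62, true), (3, 52, true), (2, 35, true), (3, 130, true), (6, 164, true), (5, 147, true), (4, 131, true), (7, 168, true), (6, 151, true), (5, 135, true), (6, 168, true), (5, 151, true), (7, 166, true), (6, 149, true), (5, 133, true), (8, 167, true), (7, 150, true), (6, 134, true)]),
    ([25, 6, 2, 12], [(0, 238, true), (3, 236, true), (2, 154, true), (1, 29, true), (0, 22, true), (3, 156, true), (2, 31, true), (1, 24, true), (4, 160, true), (3, 35, true), (3, 162, true), (4, 163, true), (5, 164, true), (6, 168, true), (7, 169, true), (8, 170, true)], [(1, 23, true), (5, 135, false), (6, 170, false), (6, 152, false), (7, 169, false), (5, 151, false), (6, 168, false), (3, 85, false), (4, 127, false),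 (5, 143, false), (6, 160, false), (2, 84, false), (0, 236, true), (9, 238, true), (12, 239, true), (15, 243, true), (8, 159, true), (7, 142, true), (6, 126, true), (5, 72, true), (4, 61, true), (3, 51, true), (2, 34, true), (7, 163, true), (6, 146, true), (5, 130, true), (8, 168, true), (7, 151, true), (6, 135, true), (7, 164, true), (6, 147, true), (8, 168, true), (7, 151, true), (9, 169, true), (8, 152, true), (8, 170, true), (7, 127, true), (6, 73, true), (5, 62, true), (4, 52, true), (3, 35, true), (4, 130, true), (7, 164, true), (6, 147, true), (5, 131, true), (8, 168, true), (7, 151, true), (6, 135, true), (7, 170, true), (6, 137, true), (5, 67, true), (4, 56, true), (3, 46, true), (2, 22, true), (1, 7, true), (0, 2, true), (3, 101, true), (4, 104, true), (4, 116, true), (8,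 169, true), (7, 152, true), (7, 170, true), (6, 123, true), (5, 108, true), (4, 69, true), (3, 58, true), (2, 48, true), (1, 24, true), (0, 9, true), (5, 146, true), (4, 130, true), (3, 115, true), (2, 101, true), (6, 150, true), (5, 134, true), (4, 119, true), (5, 151, true), (4, 135, true), (5, 164, true), (4, 147, true), (3, 102, true), (6, 169, true), (5, 152, true), (5, 167, true), (6, 170, true), (7, 160, true), (6, 127, true), (5, 112, true), (4, 98, true), (3, 73, true), (2, 62, true), (1, 52, true), (3, 130, true), (6, 164, true), (5, 147, true), (4, 131, true), (7, 166, true), (6, 149, true), (5, 133, true), (8, 170, true), (7, 150, true), (6, 134, true), (8, 151, true), (7, 135, true), (8, 154, true), (7, 137, true), (6, 106, true), (5, 92, true), (4, 67, true), (3, 56,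 true), (2, 46, true), (1, 29, true), (0, 22, true), (4, 101, true), (5, 104, true), (5, 116, true), (9, 166, true), (8, 149, true), (7, 133, true), (6, 118, true), (10, 167, true), (9, 150, true), (8, 134, true), (7, 119, true), (9, 169, true), (8, 152, true), (8, 170, true), (8, 156, true), (7, 123, true), (6, 94, true), (5, 69, true), (4, 58, true), (3, 48, true), (2, 31, true), (1, 24, true), (8, 146, true), (7, 130, true), (6, 115, true), (5, 101, true), (9, 150, true), (8, 134, true), (7, 119, true), (8, 151, true), (7, 135, true), (8, 164, true), (7, 147, true), (6, 102, true), (9, 169, true), (8, 152, true), (8, 166, true), (7, 104, true), (7, 168, true), (8, 170, true), (8, 160, true), (7, 127, true), (6, 73, true), (5, 62, true), (4, 52, true), (3, 35, true), (4, 130, true),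 (7, 164, true), (6, 147, true), (5, 131, true), (8, 168, true), (7, 151, true), (6, 135, true), (7, 170, true), (6, 151, true)])]

/-- the pairs -/
def twoEqs : List Pair := twoEqs0 ++ twoEqs1 ++ twoEqs2 ++ twoEqs3 ++ twoEqs4 ++ twoEqs5 ++ twoEqs6 ++ twoEqs7 ++ twoEqs8 ++ twoEqs9 ++ twoEqs10 ++ twoEqs11 ++ twoEqs12 ++ twoEqs13 ++ twoEqs14 ++ twoEqs15 ++ twoEqs16 ++ twoEqs17 ++ twoEqs18

/-- part of the exponents -/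
def twoVecs0 : List (List ℤ) :=
  [[0, 0, 0, 0, 0, 0, 0, 0, 0, 0, 0, 0, 0, 0, 0, 1, 0, 0, 0, 0, 1, 0, 0, 0, 0, 0, 0, 0, 0, 0, 0, 0, 0, 0, 0, 0, 0, 0, 0, 0, 0, 0, 0, 0, 0, 0, 0, 0, 0, 0, 0, 0, 0, 0, 0, 0, 0, 0, 0, 0, 0, 0, 0, 0, 0, 0, 0, 0, 0, 0, 0, 0, 0, 0, 0, 0, 0, 0, 0, 0, 0, 0, 0, 0, 0, 0, 0, 0, 0, 0, 0, 0, 0, 0, 0, 0, 0, 0, 0, 0, 0, 0, 0, 0, 0, 0, 0, 0, 0, 0, 0, 0, 0, 0, 0, 0, 0, 0, 0, 0, 0, 0, 0, 0, 0, 0, 0, 0, 0, 0, 0, 0, 0, 0, 0, 0, 0, 0, 0, 0, 0, 0, 0, 0, 0, 0, 0, 0, 0, 0, 0, 0, 0, 0, 0, 0, 0, 0, 0, 0, 0, 0, 0, 0, 0, 0, 0, 0, 0, 0, 0, 0, 0, 0, 0, 0, 0, 0, 0, 0, 0, 0, 0, 0, 0, 0, 0, 0, 0, 0, 0, 0, 0, 0, 0, 0, 0, 0, 0, 0, 0, 0, 0, 0, 0, 0, 0, 0, 0, 0, 0, 0, 0, 0, 0, 0, 0, 0, 0, 0, 0, 0, 0, 0, 0, 0, 0, 0, 0, 0, 0, 0, 0, 0, 0, 0, 0, 0, 0, 0, 0, 0, 0, 0, 0, 0],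
    [0, 0, 0, 0, 0, 0, 0, 1, 0, 1, 0, 0, 0, 0, 0, 0, 0, 0, 0, 0, 0, 0, 0, 0, 0, 0, 0, 0, 0, 0, 0, 0, 0, 0, 0, 0, 0, 0, 0, 0, 0, 0, 0, 0, 0, 0, 0, 0, 0, 0, 0, 0, 0, 0, 0, 0, 0, 0, 0, 0, 0, 0, 0, 0, 0, 0, 0, 0, 0, 0, 0, 0, 0, 0, 0, 0, 0, 0, 0, 0, 0, 0, 0, 0, 0, 0, 0, 0, 0, 0, 0, 0, 0, 0, 0, 0, 0, 0, 0, 0, 0, 0, 0, 0, 0, 0, 0, 0, 0, 0, 0, 0, 0, 0, 0, 0, 0, 0, 0, 0, 0, 0, 0, 0, 0, 0, 0, 0, 0, 0, 0, 0, 0, 0, 0, 0, 0, 0, 0, 0, 0, 0, 0, 0, 0, 0, 0, 0, 0, 0, 0, 0, 0, 0, 0, 0, 0, 0, 0, 0, 0, 0, 0, 0, 0, 0, 0, 0, 0, 0, 0, 0, 0, 0, 0, 0, 0, 0, 0, 0, 0, 0, 0, 0, 0, 0, 0, 0, 0, 0, 0, 0, 0, 0, 0, 0, 0, 0, 0, 0, 0, 0, 0, 0, 0, 0, 0, 0, 0, 0, 0, 0, 0, 0, 0, 0, 0, 0, 0, 0, 0, 0, 0, 0, 0, 0, 0, 0, 0, 0, 0, 0, 0, 0, 0, 0, 0, 0, 0, 0, 0, 0, 0, 0, 0, 0],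
    [0, 0, 0, 0, 0, 0, 0, 0, 0, 0, 0, 0, 0, 0, 0, 0, 0, 1, 0, 0, 1, 0, 0, 0, 0, 0, 0, 0, 0, 0, 0, 0, 0, 0, 0, 0, 0, 0, 0, 0, 0, 0, 0, 0, 0, 0, 0, 0, 0, 0, 0, 0, 0, 0, 0, 0, 0, 0, 0, 0, 0, 0, 0, 0, 0, 0, 0, 0, 0, 0, 0, 0, 0, 0, 0, 0, 0, 0, 0, 0, 0, 0, 0, 0, 0, 0, 0, 0, 0, 0, 0, 0, 0, 0, 0, 0, 0, 0, 0, 0, 0, 0, 0, 0, 0, 0, 0, 0, 0, 0, 0, 0, 0, 0, 0, 0, 0, 0, 0, 0, 0, 0, 0, 0, 0, 0, 0, 0, 0, 0, 0, 0, 0, 0, 0, 0, 0, 0, 0, 0, 0, 0, 0, 0, 0, 0, 0, 0, 0, 0, 0, 0, 0, 0, 0, 0, 0, 0, 0, 0, 0, 0, 0, 0, 0, 0, 0, 0, 0, 0, 0, 0, 0, 0, 0, 0, 0, 0, 0, 0, 0, 0, 0, 0, 0, 0, 0, 0, 0, 0, 0, 0, 0, 0, 0, 0, 0, 0, 0, 0, 0, 0, 0, 0, 0, 0, 0, 0, 0, 0, 0, 0, 0, 0, 0, 0, 0, 0, 0, 0, 0, 0, 0, 0, 0, 0, 0, 0, 0, 0, 0, 0, 0, 0, 0, 0, 0, 0, 0, 0, 0, 0, 0, 0, 0, 0],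
    [0, 0, 0, 0, 0, 0, 0, 0, 1, 1, 0, 0, 0, 0, 0, 0, 0, 0, 0, 0, 0, 0, 0, 0, 0, 0, 0, 0, 0, 0, 0, 0, 0, 0, 0, 0, 0, 0, 0, 0, 0, 0, 0, 0, 0, 0, 0, 0, 0, 0, 0, 0, 0, 0, 0, 0, 0, 0, 0, 0, 0, 0, 0, 0, 0, 0, 0, 0, 0, 0, 0, 0, 0, 0, 0, 0, 0, 0, 0, 0, 0, 0, 0, 0, 0, 0, 0, 0, 0, 0, 0, 0, 0, 0, 0, 0, 0, 0, 0, 0, 0, 0, 0, 0, 0, 0, 0, 0, 0, 0, 0, 0, 0, 0, 0, 0, 0, 0, 0, 0, 0, 0, 0, 0, 0, 0, 0, 0, 0, 0, 0, 0, 0, 0, 0, 0, 0, 0, 0, 0, 0, 0, 0, 0, 0, 0, 0, 0, 0, 0, 0, 0, 0, 0, 0, 0, 0, 0, 0, 0, 0, 0, 0, 0, 0, 0, 0, 0, 0, 0, 0, 0, 0, 0, 0, 0, 0, 0, 0, 0, 0, 0, 0, 0, 0, 0, 0, 0, 0, 0, 0, 0, 0, 0, 0, 0, 0, 0, 0, 0, 0, 0, 0, 0, 0, 0, 0, 0, 0, 0, 0, 0, 0, 0, 0, 0, 0, 0, 0, 0, 0, 0, 0, 0, 0, 0, 0, 0, 0, 0, 0, 0, 0, 0, 0, 0, 0, 0, 0, 0, 0, 0, 0, 0, 0, 0],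
    [0, 0, 0, 0, 0, 0, 0, 0, 0, 0, 0, 0, 0, 0, 0, 0, 0, 0, 0, 0, 0, 1, 0, 0, 0, 0, 0, 1, 0, 0, 0, 0, 0, 0, 0, 0, 0, 0, 0, 0, 0, 0, 0, 0, 0, 0, 0, 0, 0, 0, 0, 0, 0, 0, 0, 0, 0, 0, 0, 0, 0, 0, 0, 0, 0, 0, 0, 0, 0, 0, 0, 0, 0, 0, 0, 0, 0, 0, 0, 0, 0, 0, 0, 0, 0, 0, 0, 0, 0, 0, 0, 0, 0, 0, 0, 0, 0, 0, 0, 0, 0, 0, 0, 0, 0, 0, 0, 0, 0, 0, 0, 0, 0, 0, 0, 0, 0, 0, 0, 0, 0, 0, 0, 0, 0, 0, 0, 0, 0, 0, 0, 0, 0, 0, 0, 0, 0, 0, 0, 0, 0, 0, 0, 0, 0, 0, 0, 0, 0, 0, 0, 0, 0, 0, 0, 0, 0, 0, 0, 0, 0, 0, 0, 0, 0, 0, 0, 0, 0, 0, 0, 0, 0, 0, 0, 0, 0, 0, 0, 0, 0, 0, 0, 0, 0, 0, 0, 0, 0, 0, 0, 0, 0, 0, 0, 0, 0, 0, 0, 0, 0, 0, 0, 0, 0, 0, 0, 0, 0, 0, 0, 0, 0, 0, 0, 0, 0, 0, 0, 0, 0, 0, 0, 0, 0, 0, 0, 0, 0, 0, 0, 0, 0, 0, 0, 0, 0, 0, 0, 0, 0, 0, 0, 0, 0, 0],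
    [0, 0, 0, 0, 0, 0, 0, 0, 0, 0, 0, 0, 0, 0, 0, 0, 0, 0, 0, 0, 0, 0, 0, 0, 1, 0, 0, 1, 0, 0, 0, 0, 0, 0, 0, 0, 0, 0, 0, 0, 0, 0, 0, 0, 0, 0, 0, 0, 0, 0, 0, 0, 0, 0, 0, 0, 0, 0, 0, 0, 0, 0, 0, 0, 0, 0, 0, 0, 0, 0, 0, 0, 0, 0, 0, 0, 0, 0, 0, 0, 0, 0, 0, 0, 0, 0, 0, 0, 0, 0, 0, 0, 0, 0, 0, 0, 0, 0, 0, 0, 0, 0, 0, 0, 0, 0, 0, 0, 0, 0, 0, 0, 0, 0, 0, 0, 0, 0, 0, 0, 0, 0, 0, 0, 0, 0, 0, 0, 0, 0, 0, 0, 0, 0, 0, 0, 0, 0, 0, 0, 0, 0, 0, 0, 0, 0, 0, 0, 0, 0, 0, 0, 0, 0, 0, 0, 0, 0, 0, 0, 0, 0, 0, 0, 0, 0, 0, 0, 0, 0, 0, 0, 0, 0, 0, 0, 0, 0, 0, 0, 0, 0, 0, 0, 0, 0, 0, 0, 0, 0, 0, 0, 0, 0, 0, 0, 0, 0, 0, 0, 0, 0, 0, 0, 0, 0, 0, 0, 0, 0, 0, 0, 0, 0, 0, 0, 0, 0, 0, 0, 0, 0, 0, 0, 0, 0, 0, 0, 0, 0, 0, 0, 0, 0, 0, 0, 0, 0, 0, 0, 0, 0, 0, 0, 0, 0],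
    [0, 0, 0, 0, 0, 0, 0, 0, 0, 0, 0, 0, 0, 0, 0, 0, 0, 0, 0, 0, 0, 0, 1, 0, 0, 0, 0, 1, 0, 0, 0, 0, 0, 0, 0, 0, 0, 0, 0, 0, 0, 0, 0, 0, 0, 0, 0, 0, 0, 0, 0, 0, 0, 0, 0, 0, 0, 0, 0, 0, 0, 0, 0, 0, 0, 0, 0, 0, 0, 0, 0, 0, 0, 0, 0, 0, 0, 0, 0, 0, 0, 0, 0, 0, 0, 0, 0, 0, 0, 0, 0, 0, 0, 0, 0, 0, 0, 0, 0, 0, 0, 0, 0, 0, 0, 0, 0, 0, 0, 0, 0, 0, 0, 0, 0, 0, 0, 0, 0, 0, 0, 0, 0, 0, 0, 0, 0, 0, 0, 0, 0, 0, 0, 0, 0, 0, 0, 0, 0, 0, 0, 0, 0, 0, 0, 0, 0, 0, 0, 0, 0, 0, 0, 0, 0, 0, 0, 0, 0, 0, 0, 0, 0, 0, 0, 0, 0, 0, 0, 0, 0, 0, 0, 0, 0, 0, 0, 0, 0, 0, 0, 0, 0, 0, 0, 0, 0, 0, 0, 0, 0, 0, 0, 0, 0, 0, 0, 0, 0, 0, 0, 0, 0, 0, 0, 0, 0, 0, 0, 0, 0, 0, 0, 0, 0, 0, 0, 0, 0, 0, 0, 0, 0, 0, 0, 0, 0, 0, 0, 0, 0, 0, 0, 0, 0, 0, 0, 0, 0, 0, 0, 0, 0, 0, 0, 0],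
    [0, 0, 0, 0, 0, 0, 0, 0, 0, 0, 0, 0, 0, 0, 0, 0, 0, 0, 0, 0, 0, 0, 0, 0, 0, 1, 0, 1, 0, 0, 0, 0, 0, 0, 0, 0, 0, 0, 0, 0, 0, 0, 0, 0, 0, 0, 0, 0, 0, 0, 0, 0, 0, 0, 0, 0, 0, 0, 0, 0, 0, 0, 0, 0, 0, 0, 0, 0, 0, 0, 0, 0, 0, 0, 0, 0, 0, 0, 0, 0, 0, 0, 0, 0, 0, 0, 0, 0, 0, 0, 0, 0, 0, 0, 0, 0, 0, 0, 0, 0, 0, 0, 0, 0, 0, 0, 0, 0, 0, 0, 0, 0, 0, 0, 0, 0, 0, 0, 0, 0, 0, 0, 0, 0, 0, 0, 0, 0, 0, 0, 0, 0, 0, 0, 0, 0, 0, 0, 0, 0, 0, 0, 0, 0, 0, 0, 0, 0, 0, 0, 0, 0, 0, 0, 0, 0, 0, 0, 0, 0, 0, 0, 0, 0, 0, 0, 0, 0, 0, 0, 0, 0, 0, 0, 0, 0, 0, 0, 0, 0, 0, 0, 0, 0, 0, 0, 0, 0, 0, 0, 0, 0, 0, 0, 0, 0, 0, 0, 0, 0, 0, 0, 0, 0, 0, 0, 0, 0, 0, 0, 0, 0, 0, 0, 0, 0, 0, 0, 0, 0, 0, 0, 0, 0, 0, 0, 0, 0, 0, 0, 0, 0, 0, 0, 0, 0, 0, 0, 0, 0, 0, 0, 0, 0, 0, 0],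
    [0, 0, 0, 0, 0, 0, 0, 0, 0, 0, 0, 0, 0, 0, 0, 0, 0, 0, 0, 1, 1, 0, 0, 0, 0, 0, 0, 0, 0, 0, 0, 0, 0, 0, 0, 0, 0, 0, 0, 0, 0, 0, 0, 0, 0, 0, 0, 0, 0, 0, 0, 0, 0, 0, 0, 0, 0, 0, 0, 0, 0, 0, 0, 0, 0, 0, 0, 0, 0, 0, 0, 0, 0, 0, 0, 0, 0, 0, 0, 0, 0, 0, 0, 0, 0, 0, 0, 0, 0, 0, 0, 0, 0, 0, 0, 0, 0, 0, 0, 0, 0, 0, 0, 0, 0, 0, 0, 0, 0, 0, 0, 0, 0, 0, 0, 0, 0, 0, 0, 0, 0, 0, 0, 0, 0, 0, 0, 0, 0, 0, 0, 0, 0, 0, 0, 0, 0, 0, 0, 0, 0, 0, 0, 0, 0, 0, 0, 0, 0, 0, 0, 0, 0, 0, 0, 0, 0, 0, 0, 0, 0, 0, 0, 0, 0, 0, 0, 0, 0, 0, 0, 0, 0, 0, 0, 0, 0, 0, 0, 0, 0, 0, 0, 0, 0, 0, 0, 0, 0, 0, 0, 0, 0, 0, 0, 0, 0, 0, 0, 0, 0, 0, 0, 0, 0, 0, 0, 0, 0, 0, 0, 0, 0, 0, 0, 0, 0, 0, 0, 0, 0, 0, 0, 0, 0, 0, 0, 0, 0, 0, 0, 0, 0, 0, 0, 0, 0, 0, 0, 0, 0, 0, 0, 0, 0, 0],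
    [0, 0, 0, 0, 0, 0, 0, 0, 0, 0, 0, 0, 0, 0, 0, 0, 0, 0, 0, 0, 0, 0, 0, 0, 0, 0, 0, 0, 0, 0, 0, 1, 0, 0, 0, 1, 0, 0, 0, 0, 0, 0, 0, 0, 0, 0, 0, 0, 0, 0, 0, 0, 0, 0, 0, 0, 0, 0, 0, 0, 0, 0, 0, 0, 0, 0, 0, 0, 0, 0, 0, 0, 0, 0, 0, 0, 0, 0, 0, 0, 0, 0, 0, 0, 0, 0, 0, 0, 0, 0, 0, 0, 0, 0, 0, 0, 0, 0, 0, 0, 0, 0, 0, 0, 0, 0, 0, 0, 0, 0, 0, 0, 0, 0, 0, 0, 0, 0, 0, 0, 0, 0, 0, 0, 0, 0, 0, 0, 0, 0, 0, 0, 0, 0, 0, 0, 0, 0, 0, 0, 0, 0, 0, 0, 0, 0, 0, 0, 0, 0, 0, 0, 0, 0, 0, 0, 0, 0, 0, 0, 0, 0, 0, 0, 0, 0, 0, 0, 0, 0, 0, 0, 0, 0, 0, 0, 0, 0, 0, 0, 0, 0, 0, 0, 0, 0, 0, 0, 0, 0, 0, 0, 0, 0, 0, 0, 0, 0, 0, 0, 0, 0, 0, 0, 0, 0, 0, 0, 0, 0, 0, 0, 0, 0, 0, 0, 0, 0, 0, 0, 0, 0, 0, 0, 0, 0, 0, 0, 0, 0, 0, 0, 0, 0, 0, 0, 0, 0, 0, 0, 0, 0, 0, 0, 0, 0]]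

/-- part of the exponents -/
def twoVecs1 : List (List ℤ) :=
  [[0, 0, 0, 0, 0, 0, 0, 0, 0, 0, 0, 0, 0, 0, 0, 0, 0, 0, 0, 0, 0, 0, 0, 0, 0, 0, 0, 0, 0, 0, 0, 0, 0, 1, 0, 1, 0, 0, 0, 0, 0, 0, 0, 0, 0, 0, 0, 0, 0, 0, 0, 0, 0, 0, 0, 0, 0, 0, 0, 0, 0, 0, 0, 0, 0, 0, 0, 0, 0, 0, 0, 0, 0, 0, 0, 0, 0, 0, 0, 0, 0, 0, 0, 0, 0, 0, 0, 0, 0, 0, 0, 0, 0, 0, 0, 0, 0, 0, 0, 0, 0, 0, 0, 0, 0, 0, 0, 0, 0, 0, 0, 0, 0, 0, 0, 0, 0, 0, 0, 0, 0, 0, 0, 0, 0, 0, 0, 0, 0, 0, 0, 0, 0, 0, 0, 0, 0, 0, 0, 0, 0, 0, 0, 0, 0, 0, 0, 0, 0, 0, 0, 0, 0, 0, 0, 0, 0, 0, 0, 0, 0, 0, 0, 0, 0, 0, 0, 0, 0, 0, 0, 0, 0, 0, 0, 0, 0, 0, 0, 0, 0, 0, 0, 0, 0, 0, 0, 0, 0, 0, 0, 0, 0, 0, 0, 0, 0, 0, 0, 0, 0, 0, 0, 0, 0, 0, 0, 0, 0, 0, 0, 0, 0, 0, 0, 0, 0, 0, 0, 0, 0, 0, 0, 0, 0, 0, 0, 0, 0, 0, 0, 0, 0, 0, 0, 0, 0, 0, 0, 0, 0, 0,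 0, 0, 0, 0],
    [0, 0, 0, 0, 0, 0, 0, 0, 0, 0, 0, 0, 0, 0, 0, 0, 0, 0, 0, 0, 0, 0, 0, 0, 0, 0, 0, 0, 0, 0, 1, 0, 0, 0, 0, 1, 0, 0, 0, 0, 0, 0, 0, 0, 0, 0, 0, 0, 0, 0, 0, 0, 0, 0, 0, 0, 0, 0, 0, 0, 0, 0, 0, 0, 0, 0, 0, 0, 0, 0, 0, 0, 0, 0, 0, 0, 0, 0, 0, 0, 0, 0, 0, 0, 0, 0, 0, 0, 0, 0, 0, 0, 0, 0, 0, 0, 0, 0, 0, 0, 0, 0, 0, 0, 0, 0, 0, 0, 0, 0, 0, 0, 0, 0, 0, 0, 0, 0, 0, 0, 0, 0, 0, 0, 0, 0, 0, 0, 0, 0, 0, 0, 0, 0, 0, 0, 0, 0, 0, 0, 0, 0, 0, 0, 0, 0, 0, 0, 0, 0, 0, 0, 0, 0, 0, 0, 0, 0, 0, 0, 0, 0, 0, 0, 0, 0, 0, 0, 0, 0, 0, 0, 0, 0, 0, 0, 0, 0, 0, 0, 0, 0, 0, 0, 0, 0, 0, 0, 0, 0, 0, 0, 0, 0, 0, 0, 0, 0, 0, 0, 0, 0, 0, 0, 0, 0, 0, 0, 0, 0, 0, 0, 0, 0, 0, 0, 0, 0, 0, 0, 0, 0, 0, 0, 0, 0, 0, 0, 0, 0, 0, 0, 0, 0, 0, 0, 0, 0, 0, 0, 0, 0, 0, 0, 0, 0],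
    [0, 0, 0, 0, 0, 0, 0, 0, 0, 0, 0, 0, 0, 0, 0, 0, 0, 0, 0, 0, 0, 0, 0, 0, 0, 0, 0, 0, 0, 0, 0, 0, 0, 0, 1, 1, 0, 0, 0, 0, 0, 0, 0, 0, 0, 0, 0, 0, 0, 0, 0, 0, 0, 0, 0, 0, 0, 0, 0, 0, 0, 0, 0, 0, 0, 0, 0, 0, 0, 0, 0, 0, 0, 0, 0, 0, 0, 0, 0, 0, 0, 0, 0, 0, 0, 0, 0, 0, 0, 0, 0, 0, 0, 0, 0, 0, 0, 0, 0, 0, 0, 0, 0, 0, 0, 0, 0, 0, 0, 0, 0, 0, 0, 0, 0, 0, 0, 0, 0, 0, 0, 0, 0, 0, 0, 0, 0, 0, 0, 0, 0, 0, 0, 0, 0, 0, 0, 0, 0, 0, 0, 0, 0, 0, 0, 0, 0, 0, 0, 0, 0, 0, 0, 0, 0, 0, 0, 0, 0, 0, 0, 0, 0, 0, 0, 0, 0, 0, 0, 0, 0, 0, 0, 0, 0, 0, 0, 0, 0, 0, 0, 0, 0, 0, 0, 0, 0, 0, 0, 0, 0, 0, 0, 0, 0, 0, 0, 0, 0, 0, 0, 0, 0, 0, 0, 0, 0, 0, 0, 0, 0, 0, 0, 0, 0, 0, 0, 0, 0, 0, 0, 0, 0, 0, 0, 0, 0, 0, 0, 0, 0, 0, 0, 0, 0, 0, 0, 0, 0, 0, 0, 0, 0, 0, 0, 0],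
    [0, 0, 0, 0, 0, 0, 0, 0, 0, 0, 0, 0, 0, 0, 0, 0, 0, 0, 0, 0, 0, 0, 0, 0, 0, 0, 0, 0, 0, 0, 0, 0, 0, 0, 0, 0, 0, 0, 0, 0, 0, 0, 0, 0, 0, 0, 0, 0, 0, 0, 0, 0, 0, 0, 0, 0, 0, 0, 0, 0, 0, 0, 0, 0, 0, 0, 0, 0, 0, 0, 0, 0, 0, 0, 0, 0, 0, 0, 0, 0, 0, 0, 0, 0, 0, 0, 0, 0, 0, 0, 0, 0, 1, 0, 0, 0, 0, 0, 0, 0, 0, 0, 0, 0, 1, 0, 0, 0, 0, 0, 0, 0, 0, 0, 0, 0, 0, 0, 0, 0, 0, 0, 0, 0, 0, 0, 0, 0, 0, 0, 0, 0, 0, 0, 0, 0, 0, 0, 0, 0, 0, 0, 0, 0, 0, 0, 0, 0, 0, 0, 0, 0, 0, 0, 0, 0, 0, 0, 0, 0, 0, 0, 0, 0, 0, 0, 0, 0, 0, 0, 0, 0, 0, 0, 0, 0, 0, 0, 0, 0, 0, 0, 0, 0, 0, 0, 0, 0, 0, 0, 0, 0, 0, 0, 0, 0, 0, 0, 0, 0, 0, 0, 0, 0, 0, 0, 0, 0, 0, 0, 0, 0, 0, 0, 0, 0, 0, 0, 0, 0, 0, 0, 0, 0, 0, 0, 0, 0, 0, 0, 0, 0, 0, 0, 0, 0, 0, 0, 0, 0, 0, 0, 0, 0, 0, 0],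
    [0, 0, 0, 0, 0, 0, 0, 0, 0, 0, 0, 0, 0, 0, 0, 0, 0, 0, 0, 0, 0, 0, 0, 0, 0, 0, 0, 0, 0, 0, 0, 0, 0, 0, 0, 0, 0, 0, 0, 0, 0, 0, 0, 0, 0, 0, 0, 0, 0, 0, 0, 0, 0, 0, 0, 0, 0, 0, 0, 0, 0, 0, 0, 0, 0, 0, 0, 0, 0, 0, 0, 0, 0, 0, 0, 0, 0, 0, 0, 0, 0, 0, 0, 0, 0, 0, 0, 0, 0, 0, 0, 0, 0, 0, 0, 0, 0, 0, 0, 0, 0, 0, 0, 0, 0, 0, 0, 0, 0, 0, 0, 0, 0, 0, 0, 0, 0, 0, 0, 0, 0, 0, 0, 0, 0, 0, 0, 1, 0, 0, 0, 0, 0, 0, 0, 1, 0, 0, 0, 0, 0, 0, 0, 0, 0, 0, 0, 0, 0, 0, 0, 0, 0, 0, 0, 0, 0, 0, 0, 0, 0, 0, 0, 0, 0, 0, 0, 0, 0, 0, 0, 0, 0, 0, 0, 0, 0, 0, 0, 0, 0, 0, 0, 0, 0, 0, 0, 0, 0, 0, 0, 0, 0, 0, 0, 0, 0, 0, 0, 0, 0, 0, 0, 0, 0, 0, 0, 0, 0, 0, 0, 0, 0, 0, 0, 0, 0, 0, 0, 0, 0, 0, 0, 0, 0, 0, 0, 0, 0, 0, 0, 0, 0, 0, 0, 0, 0, 0, 0, 0, 0, 0, 0, 0, 0, 0],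
    [0, 0, 0, 0, 0, 0, 0, 0, 0, 0, 0, 0, 0, 0, 0, 0, 0, 0, 0, 0, 0, 0, 0, 0, 0, 0, 0, 0, 0, 0, 0, 0, 0, 0, 0, 0, 0, 0, 0, 0, 0, 0, 0, 0, 0, 0, 0, 0, 0, 0, 0, 0, 0, 0, 0, 0, 0, 0, 0, 0, 0, 0, 0, 0, 0, 0, 0, 0, 0, 0, 0, 0, 0, 0, 0, 0, 0, 0, 0, 0, 0, 0, 0, 0, 0, 0, 0, 0, 0, 0, 0, 0, 0, 0, 0, 0, 0, 0, 0, 0, 1, 0, 0, 0, 1, 0, 0, 0, 0, 0, 0, 0, 0, 0, 0, 0, 0, 0, 0, 0, 0, 0, 0, 0, 0, 0, 0, 0, 0, 0, 0, 0, 0, 0, 0, 0, 0, 0, 0, 0, 0, 0, 0, 0, 0, 0, 0, 0, 0, 0, 0, 0, 0, 0, 0, 0, 0, 0, 0, 0, 0, 0, 0, 0, 0, 0, 0, 0, 0, 0, 0, 0, 0, 0, 0, 0, 0, 0, 0, 0, 0, 0, 0, 0, 0, 0, 0, 0, 0, 0, 0, 0, 0, 0, 0, 0, 0, 0, 0, 0, 0, 0, 0, 0, 0, 0, 0, 0, 0, 0, 0, 0, 0, 0, 0, 0, 0, 0, 0, 0, 0, 0, 0, 0, 0, 0, 0, 0, 0, 0, 0, 0, 0, 0, 0, 0, 0, 0, 0, 0, 0, 0, 0, 0, 0, 0],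
    [0, 0, 0, 0, 0, 0, 0, 0, 0, 0, 0, 0, 0, 0, 0, 0, 0, 0, 0, 0, 0, 0, 0, 0, 0, 0, 0, 0, 0, 0, 0, 0, 0, 0, 0, 0, 0, 0, 0, 0, 0, 0, 0, 0, 0, 0, 0, 0, 0, 0, 0, 0, 0, 0, 0, 0, 0, 0, 0, 0, 0, 0, 0, 0, 0, 0, 0, 0, 0, 0, 0, 0, 0, 0, 0, 0, 0, 0, 0, 0, 0, 0, 0, 0, 0, 0, 0, 0, 0, 0, 0, 0, 0, 0, 0, 0, 0, 0, 0, 0, 0, 0, 0, 0, 0, 0, 0, 0, 0, 0, 0, 0, 0, 0, 0, 0, 0, 0, 0, 0, 0, 0, 0, 0, 0, 0, 0, 0, 0, 1, 0, 0, 0, 0, 0, 1, 0, 0, 0, 0, 0, 0, 0, 0, 0, 0, 0, 0, 0, 0, 0, 0, 0, 0, 0, 0, 0, 0, 0, 0, 0, 0, 0, 0, 0, 0, 0, 0, 0, 0, 0, 0, 0, 0, 0, 0, 0, 0, 0, 0, 0, 0, 0, 0, 0, 0, 0, 0, 0, 0, 0, 0, 0, 0, 0, 0, 0, 0, 0, 0, 0, 0, 0, 0, 0, 0, 0, 0, 0, 0, 0, 0, 0, 0, 0, 0, 0, 0, 0, 0, 0, 0, 0, 0, 0, 0, 0, 0, 0, 0, 0, 0, 0, 0, 0, 0, 0, 0, 0, 0, 0, 0, 0, 0, 0, 0],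
    [0, 0, 0, 0, 0, 0, 0, 0, 0, 0, 0, 0, 0, 0, 0, 0, 0, 0, 0, 0, 0, 0, 0, 0, 0, 0, 0, 0, 0, 0, 0, 0, 0, 0, 0, 0, 0, 0, 0, 0, 0, 0, 0, 0, 0, 0, 0, 0, 0, 0, 0, 0, 0, 0, 0, 0, 0, 0, 0, 0, 0, 0, 0, 0, 0, 0, 1, 0, 0, 0, 0, 0, 0, 0, 0, 0, 0, 1, 0, 0, 0, 0, 0, 0, 0, 0, 0, 0, 0, 0, 0, 0, 0, 0, 0, 0, 0, 0, 0, 0, 0, 0, 0, 0, 0, 0, 0, 0, 0, 0, 0, 0, 0, 0, 0, 0, 0, 0, 0, 0, 0, 0, 0, 0, 0, 0, 0, 0, 0, 0, 0, 0, 0, 0, 0, 0, 0, 0, 0, 0, 0, 0, 0, 0, 0, 0, 0, 0, 0, 0, 0, 0, 0, 0, 0, 0, 0, 0, 0, 0, 0, 0, 0, 0, 0, 0, 0, 0, 0, 0, 0, 0, 0, 0, 0, 0, 0, 0, 0, 0, 0, 0, 0, 0, 0, 0, 0, 0, 0, 0, 0, 0, 0, 0, 0, 0, 0, 0, 0, 0, 0, 0, 0, 0, 0, 0, 0, 0, 0, 0, 0, 0, 0, 0, 0, 0, 0, 0, 0, 0, 0, 0, 0, 0, 0, 0, 0, 0, 0, 0, 0, 0, 0, 0, 0, 0, 0, 0, 0, 0, 0, 0, 0, 0, 0, 0],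
    [0, 0, 0, 0, 0, 0, 0, 0, 0, 0, 0, 0, 0, 0, 0, 0, 0, 0, 0, 0, 0, 0, 0, 0, 0, 0, 0, 0, 0, 0, 0, 0, 0, 0, 0, 0, 0, 0, 0, 0, 0, 0, 0, 0, 0, 0, 0, 0, 0, 0, 0, 0, 0, 0, 0, 0, 0, 0, 0, 0, 0, 0, 0, 0, 0, 0, 0, 0, 0, 0, 0, 0, 0, 0, 0, 0, 0, 0, 0, 0, 0, 0, 0, 0, 0, 0, 0, 0, 0, 0, 0, 0, 0, 0, 0, 0, 0, 0, 0, 0, 0, 0, 0, 0, 0, 0, 0, 0, 0, 0, 0, 0, 0, 0, 0, 0, 0, 0, 0, 0, 0, 0, 0, 0, 0, 0, 1, 0, 0, 0, 0, 0, 0, 0, 0, 1, 0, 0, 0, 0, 0, 0, 0, 0, 0, 0, 0, 0, 0, 0, 0, 0, 0, 0, 0, 0, 0, 0, 0, 0, 0, 0, 0, 0, 0, 0, 0, 0, 0, 0, 0, 0, 0, 0, 0, 0, 0, 0, 0, 0, 0, 0, 0, 0, 0, 0, 0, 0, 0, 0, 0, 0, 0, 0, 0, 0, 0, 0, 0, 0, 0, 0, 0, 0, 0, 0, 0, 0, 0, 0, 0, 0, 0, 0, 0, 0, 0, 0, 0, 0, 0, 0, 0, 0, 0, 0, 0, 0, 0, 0, 0, 0, 0, 0, 0, 0, 0, 0, 0, 0, 0, 0, 0, 0, 0, 0],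
    [0, 0, 0, 0, 0, 0, 0, 0, 0, 0, 0, 0, 0, 0, 0, 0, 0, 0, 0, 0, 0, 0, 0, 0, 0, 0, 0, 0, 0, 0, 0, 0, 0, 0, 0, 0, 0, 0, 0, 0, 0, 0, 0, 0, 0, 0, 0, 0, 0, 0, 0, 0, 0, 0, 0, 0, 0, 0, 0, 0, 0, 0, 0, 0, 0, 0, 0, 0, 0, 0, 0, 0, 0, 0, 0, 0, 1, 1, 0, 0, 0, 0, 0, 0, 0, 0, 0, 0, 0, 0, 0, 0, 0, 0, 0, 0, 0, 0, 0, 0, 0, 0, 0, 0, 0, 0, 0, 0, 0, 0, 0, 0, 0, 0, 0, 0, 0, 0, 0, 0, 0, 0, 0, 0, 0, 0, 0, 0, 0, 0, 0, 0, 0, 0, 0, 0, 0, 0, 0, 0, 0, 0, 0, 0, 0, 0, 0, 0, 0, 0, 0, 0, 0, 0, 0, 0, 0, 0, 0, 0, 0, 0, 0, 0, 0, 0, 0, 0, 0, 0, 0, 0, 0, 0, 0, 0, 0, 0, 0, 0, 0, 0, 0, 0, 0, 0, 0, 0, 0, 0, 0, 0, 0, 0, 0, 0, 0, 0, 0, 0, 0, 0, 0, 0, 0, 0, 0, 0, 0, 0, 0, 0, 0, 0, 0, 0, 0, 0, 0, 0, 0, 0, 0, 0, 0, 0, 0, 0, 0, 0, 0, 0, 0, 0, 0, 0, 0, 0, 0, 0, 0, 0, 0, 0, 0, 0]]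

/-- part of the exponents -/
def twoVecs2 : List (List ℤ) :=
  [[0, 0, 0, 0, 0, 0, 0, 0, 0, 0, 0, 0, 0, 0, 0, 0, 0, 0, 0, 0, 0, 0, 0, 0, 0, 0, 0, 0, 0, 0, 0, 0, 0, 0, 0, 0, 0, 0, 0, 0, 0, 0, 0, 0, 0, 0, 0, 0, 0, 0, 0, 0, 0, 0, 0, 0, 0, 0, 0, 0, 0, 0, 0, 0, 0, 0, 0, 0, 0, 0, 0, 0, 0, 0, 0, 0, 0, 0, 0, 0, 0, 0, 0, 0, 0, 0, 0, 0, 0, 0, 0, 0, 0, 0, 0, 0, 0, 0, 0, 0, 0, 0, 0, 0, 0, 0, 0, 0, 0, 0, 0, 0, 0, 0, 0, 0, 0, 0, 0, 0, 0, 0, 0, 0, 0, 0, 0, 0, 0, 0, 1, 0, 0, 0, 0, 1, 0, 0, 0, 0, 0, 0, 0, 0, 0, 0, 0, 0, 0, 0, 0, 0, 0, 0, 0, 0, 0, 0, 0, 0, 0, 0, 0, 0, 0, 0, 0, 0, 0, 0, 0, 0, 0, 0, 0, 0, 0, 0, 0, 0, 0, 0, 0, 0, 0, 0, 0, 0, 0, 0, 0, 0, 0, 0, 0, 0, 0, 0, 0, 0, 0, 0, 0, 0, 0, 0, 0, 0, 0, 0, 0, 0, 0, 0, 0, 0, 0, 0, 0, 0, 0, 0, 0, 0, 0, 0, 0, 0, 0, 0, 0, 0, 0, 0, 0, 0, 0, 0, 0, 0, 0, 0,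 0, 0, 0, 0],
    [0, 0, 0, 0, 0, 0, 0, 0, 0, 0, 0, 0, 0, 0, 0, 0, 0, 0, 0, 0, 0, 0, 0, 0, 0, 0, 0, 0, 0, 0, 0, 0, 0, 0, 0, 0, 0, 0, 0, 0, 0, 0, 0, 0, 0, 0, 0, 0, 0, 0, 0, 0, 0, 0, 0, 0, 0, 0, 0, 0, 0, 0, 0, 0, 0, 0, 0, 0, 0, 0, 0, 0, 0, 0, 0, 0, 0, 0, 0, 0, 0, 0, 0, 0, 0, 0, 0, 0, 0, 0, 0, 0, 0, 0, 0, 0, 0, 0, 0, 0, 0, 0, 0, 0, 0, 0, 0, 0, 0, 0, 0, 0, 0, 0, 0, 0, 0, 0, 0, 0, 0, 0, 0, 0, 0, 0, 0, 0, 0, 0, 0, 0, 0, 0, 0, 0, 0, 0, 0, 1, 0, 0, 0, 0, 0, 0, 0, 0, 0, 0, 0, 0, 1, 0, 0, 0, 0, 0, 0, 0, 0, 0, 0, 0, 0, 0, 0, 0, 0, 0, 0, 0, 0, 0, 0, 0, 0, 0, 0, 0, 0, 0, 0, 0, 0, 0, 0, 0, 0, 0, 0, 0, 0, 0, 0, 0, 0, 0, 0, 0, 0, 0, 0, 0, 0, 0, 0, 0, 0, 0, 0, 0, 0, 0, 0, 0, 0, 0, 0, 0, 0, 0, 0, 0, 0, 0, 0, 0, 0, 0, 0, 0, 0, 0, 0, 0, 0, 0, 0, 0, 0, 0, 0, 0, 0, 0],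
    [0, 0, 0, 0, 0, 0, 0, 0, 0, 0, 0, 0, 0, 0, 0, 0, 0, 0, 0, 0, 0, 0, 0, 0, 0, 0, 0, 0, 0, 0, 0, 0, 0, 0, 0, 0, 0, 0, 0, 0, 0, 0, 0, 0, 0, 0, 0, 0, 0, 0, 0, 0, 0, 0, 0, 0, 0, 0, 0, 0, 0, 0, 0, 0, 0, 0, 0, 0, 0, 0, 0, 0, 0, 0, 0, 0, 0, 0, 0, 0, 0, 0, 0, 0, 0, 0, 0, 0, 0, 0, 0, 0, 0, 0, 0, 0, 0, 0, 0, 0, 0, 0, 0, 0, 0, 0, 0, 0, 0, 0, 0, 0, 0, 0, 0, 0, 0, 0, 0, 0, 0, 0, 0, 0, 0, 0, 0, 0, 0, 0, 0, 0, 0, 0, 0, 0, 0, 0, 0, 0, 0, 0, 0, 0, 0, 0, 0, 1, 0, 0, 0, 0, 1, 0, 0, 0, 0, 0, 0, 0, 0, 0, 0, 0, 0, 0, 0, 0, 0, 0, 0, 0, 0, 0, 0, 0, 0, 0, 0, 0, 0, 0, 0, 0, 0, 0, 0, 0, 0, 0, 0, 0, 0, 0, 0, 0, 0, 0, 0, 0, 0, 0, 0, 0, 0, 0, 0, 0, 0, 0, 0, 0, 0, 0, 0, 0, 0, 0, 0, 0, 0, 0, 0, 0, 0, 0, 0, 0, 0, 0, 0, 0, 0, 0, 0, 0, 0, 0, 0, 0, 0, 0, 0, 0, 0, 0],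
    [0, 0, 0, 0, 0, 0, 0, 0, 0, 0, 0, 0, 0, 0, 0, 0, 0, 0, 0, 0, 0, 0, 0, 0, 0, 0, 0, 0, 0, 0, 0, 0, 0, 0, 0, 0, 0, 0, 0, 0, 0, 0, 0, 0, 0, 0, 0, 0, 0, 0, 0, 0, 0, 0, 0, 0, 0, 0, 0, 0, 0, 0, 0, 0, 0, 0, 0, 0, 0, 0, 0, 0, 0, 0, 0, 0, 0, 0, 0, 0, 0, 0, 0, 0, 0, 0, 0, 0, 0, 0, 0, 0, 0, 0, 0, 0, 0, 0, 0, 0, 0, 0, 0, 1, 1, 0, 0, 0, 0, 0, 0, 0, 0, 0, 0, 0, 0, 0, 0, 0, 0, 0, 0, 0, 0, 0, 0, 0, 0, 0, 0, 0, 0, 0, 0, 0, 0, 0, 0, 0, 0, 0, 0, 0, 0, 0, 0, 0, 0, 0, 0, 0, 0, 0, 0, 0, 0, 0, 0, 0, 0, 0, 0, 0, 0, 0, 0, 0, 0, 0, 0, 0, 0, 0, 0, 0, 0, 0, 0, 0, 0, 0, 0, 0, 0, 0, 0, 0, 0, 0, 0, 0, 0, 0, 0, 0, 0, 0, 0, 0, 0, 0, 0, 0, 0, 0, 0, 0, 0, 0, 0, 0, 0, 0, 0, 0, 0, 0, 0, 0, 0, 0, 0, 0, 0, 0, 0, 0, 0, 0, 0, 0, 0, 0, 0, 0, 0, 0, 0, 0, 0, 0, 0, 0, 0, 0],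
    [0, 0, 0, 0, 0, 0, 0, 0, 0, 0, 0, 0, 0, 0, 0, 0, 0, 0, 0, 0, 0, 0, 0, 0, 0, 0, 0, 0, 0, 0, 0, 0, 0, 0, 0, 0, 0, 0, 0, 0, 0, 0, 0, 0, 0, 0, 0, 0, 0, 0, 0, 0, 0, 0, 0, 0, 0, 0, 0, 0, 0, 0, 0, 0, 0, 0, 0, 0, 0, 0, 0, 0, 0, 0, 0, 0, 0, 0, 0, 0, 0, 0, 0, 0, 0, 0, 0, 0, 0, 0, 0, 0, 0, 0, 0, 0, 0, 0, 0, 0, 0, 0, 0, 0, 0, 0, 0, 0, 0, 0, 0, 0, 0, 0, 0, 0, 0, 0, 0, 0, 0, 0, 0, 0, 0, 1, 0, 0, 0, 0, 0, 0, 0, 0, 0, 1, 0, 0, 0, 0, 0, 0, 0, 0, 0, 0, 0, 0, 0, 0, 0, 0, 0, 0, 0, 0, 0, 0, 0, 0, 0, 0, 0, 0, 0, 0, 0, 0, 0, 0, 0, 0, 0, 0, 0, 0, 0, 0, 0, 0, 0, 0, 0, 0, 0, 0, 0, 0, 0, 0, 0, 0, 0, 0, 0, 0, 0, 0, 0, 0, 0, 0, 0, 0, 0, 0, 0, 0, 0, 0, 0, 0, 0, 0, 0, 0, 0, 0, 0, 0, 0, 0, 0, 0, 0, 0, 0, 0, 0, 0, 0, 0, 0, 0, 0, 0, 0, 0, 0, 0, 0, 0, 0, 0, 0, 0],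
    [0, 0, 0, 0, 0, 0, 0, 0, 0, 0, 0, 0, 0, 0, 0, 0, 0, 0, 0, 0, 0, 0, 0, 0, 0, 0, 0, 0, 0, 0, 0, 0, 0, 0, 0, 0, 0, 0, 0, 0, 0, 0, 0, 0, 0, 0, 0, 0, 0, 0, 0, 0, 0, 0, 0, 0, 0, 0, 0, 0, 0, 0, 0, 0, 0, 0, 0, 0, 0, 0, 0, 0, 0, 0, 0, 0, 0, 0, 0, 0, 0, 0, 0, 0, 0, 0, 0, 0, 0, 0, 0, 0, 0, 0, 0, 0, 0, 0, 0, 0, 0, 0, 0, 0, 0, 0, 0, 0, 0, 0, 0, 0, 0, 0, 0, 0, 0, 0, 0, 0, 0, 0, 0, 0, 0, 0, 0, 0, 0, 0, 0, 0, 0, 0, 0, 0, 0, 0, 0, 0, 0, 0, 0, 0, 0, 0, 0, 0, 0, 0, 0, 0, 0, 0, 0, 0, 0, 0, 0, 0, 1, 0, 0, 0, 0, 0, 0, 0, 0, 0, 1, 0, 0, 0, 0, 0, 0, 0, 0, 0, 0, 0, 0, 0, 0, 0, 0, 0, 0, 0, 0, 0, 0, 0, 0, 0, 0, 0, 0, 0, 0, 0, 0, 0, 0, 0, 0, 0, 0, 0, 0, 0, 0, 0, 0, 0, 0, 0, 0, 0, 0, 0, 0, 0, 0, 0, 0, 0, 0, 0, 0, 0, 0, 0, 0, 0, 0, 0, 0, 0, 0, 0, 0, 0, 0, 0],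
    [0, 0, 0, 0, 0, 0, 0, 0, 0, 0, 0, 0, 0, 0, 0, 0, 0, 0, 0, 0, 0, 0, 0, 0, 0, 0, 0, 0, 0, 0, 0, 0, 0, 0, 0, 0, 0, 0, 0, 0, 0, 0, 0, 0, 0, 0, 0, 0, 0, 0, 0, 0, 0, 0, 0, 0, 0, 0, 0, 0, 0, 0, 0, 0, 0, 0, 0, 0, 0, 0, 0, 0, 0, 0, 0, 0, 0, 0, 0, 0, 0, 0, 0, 0, 0, 0, 0, 0, 0, 0, 0, 0, 0, 0, 0, 0, 0, 0, 0, 0, 0, 0, 0, 0, 0, 0, 0, 0, 0, 0, 0, 0, 0, 0, 0, 0, 0, 0, 0, 0, 0, 0, 0, 0, 0, 0, 0, 0, 0, 0, 0, 0, 0, 1, 0, 1, 0, 0, 0, 0, 0, 0, 0, 0, 0, 0, 0, 0, 0, 0, 0, 0, 0, 0, 0, 0, 0, 0, 0, 0, 0, 0, 0, 0, 0, 0, 0, 0, 0, 0, 0, 0, 0, 0, 0, 0, 0, 0, 0, 0, 0, 0, 0, 0, 0, 0, 0, 0, 0, 0, 0, 0, 0, 0, 0, 0, 0, 0, 0, 0, 0, 0, 0, 0, 0, 0, 0, 0, 0, 0, 0, 0, 0, 0, 0, 0, 0, 0, 0, 0, 0, 0, 0, 0, 0, 0, 0, 0, 0, 0, 0, 0, 0, 0, 0, 0, 0, 0, 0, 0, 0, 0, 0, 0, 0, 0],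
    [0, 0, 0, 0, 0, 0, 0, 0, 0, 0, 0, 0, 0, 0, 0, 0, 0, 0, 0, 0, 0, 0, 0, 0, 0, 0, 0, 0, 0, 0, 0, 0, 0, 0, 0, 0, 0, 0, 0, 0, 0, 0, 0, 0, 0, 0, 0, 0, 0, 0, 0, 0, 0, 0, 0, 0, 0, 0, 0, 0, 0, 0, 0, 0, 0, 0, 0, 0, 0, 0, 0, 0, 0, 0, 0, 0, 0, 0, 0, 0, 0, 0, 0, 0, 0, 0, 0, 0, 0, 0, 0, 0, 0, 0, 0, 0, 0, 0, 0, 0, 0, 0, 0, 0, 0, 0, 0, 0, 0, 0, 0, 0, 0, 0, 0, 0, 0, 0, 0, 0, 0, 0, 0, 0, 0, 0, 0, 0, 0, 0, 0, 0, 0, 0, 0, 0, 0, 0, 0, 0, 0, 0, 0, 0, 0, 0, 0, 0, 0, 0, 0, 0, 0, 0, 0, 0, 0, 0, 0, 0, 0, 0, 0, 0, 0, 0, 1, 0, 0, 0, 1, 0, 0, 0, 0, 0, 0, 0, 0, 0, 0, 0, 0, 0, 0, 0, 0, 0, 0, 0, 0, 0, 0, 0, 0, 0, 0, 0, 0, 0, 0, 0, 0, 0, 0, 0, 0, 0, 0, 0, 0, 0, 0, 0, 0, 0, 0, 0, 0, 0, 0, 0, 0, 0, 0, 0, 0, 0, 0, 0, 0, 0, 0, 0, 0, 0, 0, 0, 0, 0, 0, 0, 0, 0, 0, 0],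
    [0, 0, 0, 0, 0, 0, 0, 0, 0, 0, 0, 0, 0, 0, 0, 0, 0, 0, 0, 0, 0, 0, 0, 0, 0, 0, 0, 0, 0, 0, 0, 0, 0, 0, 0, 0, 0, 0, 0, 0, 0, 0, 0, 0, 0, 0, 0, 0, 0, 0, 0, 0, 0, 0, 0, 0, 0, 0, 0, 0, 0, 0, 0, 0, 0, 0, 0, 0, 0, 0, 0, 0, 0, 0, 0, 0, 0, 0, 0, 0, 0, 0, 0, 0, 0, 0, 0, 0, 0, 0, 0, 0, 0, 0, 0, 0, 0, 0, 0, 0, 0, 0, 0, 0, 0, 0, 0, 0, 0, 0, 0, 0, 0, 0, 0, 0, 0, 0, 0, 0, 0, 0, 0, 0, 0, 0, 0, 0, 0, 0, 0, 0, 0, 0, 0, 0, 0, 0, 0, 0, 0, 0, 0, 0, 0, 0, 0, 0, 0, 0, 0, 0, 0, 0, 0, 0, 1, 0, 0, 0, 0, 0, 0, 0, 0, 0, 0, 0, 0, 0, 1, 0, 0, 0, 0, 0, 0, 0, 0, 0, 0, 0, 0, 0, 0, 0, 0, 0, 0, 0, 0, 0, 0, 0, 0, 0, 0, 0, 0, 0, 0, 0, 0, 0, 0, 0, 0, 0, 0, 0, 0, 0, 0, 0, 0, 0, 0, 0, 0, 0, 0, 0, 0, 0, 0, 0, 0, 0, 0, 0, 0, 0, 0, 0, 0, 0, 0, 0, 0, 0, 0, 0, 0, 0, 0, 0],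
    [0, 0, 0, 0, 0, 0, 0, 0, 0, 0, 0, 0, 0, 0, 0, 0, 0, 0, 0, 0, 0, 0, 0, 0, 0, 0, 0, 0, 0, 0, 0, 0, 0, 0, 0, 0, 0, 0, 0, 0, 0, 0, 0, 0, 0, 0, 0, 0, 0, 0, 0, 0, 0, 0, 0, 0, 0, 0, 0, 0, 0, 0, 0, 0, 0, 0, 0, 0, 0, 0, 0, 0, 0, 0, 0, 0, 0, 0, 0, 0, 0, 0, 0, 0, 0, 0, 0, 0, 0, 0, 0, 0, 0, 0, 0, 0, 0, 0, 0, 0, 0, 0, 0, 0, 0, 0, 0, 0, 0, 0, 0, 0, 0, 0, 0, 0, 0, 0, 0, 0, 0, 0, 0, 0, 1, 0, 0, 0, 0, 0, 0, 0, 0, 0, 0, 1, 0, 0, 0, 0, 0, 0, 0, 0, 0, 0, 0, 0, 0, 0, 0, 0, 0, 0, 0, 0, 0, 0, 0, 0, 0, 0, 0, 0, 0, 0, 0, 0, 0, 0, 0, 0, 0, 0, 0, 0, 0, 0, 0, 0, 0, 0, 0, 0, 0, 0, 0, 0, 0, 0, 0, 0, 0, 0, 0, 0, 0, 0, 0, 0, 0, 0, 0, 0, 0, 0, 0, 0, 0, 0, 0, 0, 0, 0, 0, 0, 0, 0, 0, 0, 0, 0, 0, 0, 0, 0, 0, 0, 0, 0, 0, 0, 0, 0, 0, 0, 0, 0, 0, 0, 0, 0, 0, 0, 0, 0]]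

/-- part of the exponents -/
def twoVecs3 : List (List ℤ) :=
  [[0, 0, 0, 0, 0, 0, 0, 0, 0, 0, 0, 0, 0, 0, 0, 0, 0, 0, 0, 0, 0, 0, 0, 0, 0, 0, 0, 0, 0, 0, 0, 0, 0, 0, 0, 0, 0, 0, 0, 0, 0, 0, 0, 0, 0, 0, 0, 0, 0, 0, 0, 0, 0, 0, 0, 0, 0, 0, 0, 0, 0, 0, 0, 0, 0, 0, 0, 0, 0, 0, 0, 0, 0, 0, 0, 0, 0, 0, 0, 0, 0, 0, 0, 0, 0, 0, 0, 0, 0, 0, 0, 0, 0, 0, 0, 0, 0, 0, 0, 0, 0, 0, 0, 0, 0, 0, 0, 0, 0, 0, 0, 0, 0, 0, 0, 0, 0, 0, 0, 0, 0, 0, 0, 0, 0, 0, 0, 0, 0, 0, 0, 0, 0, 0, 0, 0, 0, 0, 0, 0, 0, 0, 0, 0, 0, 0, 0, 0, 0, 0, 0, 0, 0, 0, 0, 0, 0, 0, 0, 1, 0, 0, 0, 0, 0, 0, 0, 0, 0, 0, 1, 0, 0, 0, 0, 0, 0, 0, 0, 0, 0, 0, 0, 0, 0, 0, 0, 0, 0, 0, 0, 0, 0, 0, 0, 0, 0, 0, 0, 0, 0, 0, 0, 0, 0, 0, 0, 0, 0, 0, 0, 0, 0, 0, 0, 0, 0, 0, 0, 0, 0, 0, 0, 0, 0, 0, 0, 0, 0, 0, 0, 0, 0, 0, 0, 0, 0, 0, 0, 0, 0, 0,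 0, 0, 0, 0],
    [0, 0, 0, 0, 0, 0, 0, 0, 0, 0, 0, 0, 0, 0, 0, 0, 0, 0, 0, 0, 0, 0, 0, 0, 0, 0, 0, 0, 0, 0, 0, 0, 0, 0, 0, 0, 0, 0, 0, 0, 0, 0, 0, 0, 0, 0, 0, 0, 0, 0, 0, 0, 0, 0, 0, 0, 0, 0, 0, 0, 0, 0, 0, 0, 0, 0, 0, 0, 0, 0, 0, 0, 0, 0, 0, 0, 0, 0, 0, 0, 0, 0, 0, 0, 0, 0, 0, 0, 0, 0, 0, 0, 0, 0, 0, 0, 0, 0, 0, 0, 0, 0, 0, 0, 0, 0, 0, 0, 0, 0, 0, 0, 0, 0, 0, 0, 0, 0, 0, 0, 0, 0, 0, 0, 0, 0, 0, 0, 0, 0, 0, 0, 0, 0, 0, 0, 0, 0, 0, 0, 0, 0, 0, 0, 0, 0, 0, 0, 0, 0, 0, 0, 0, 0, 0, 0, 0, 0, 0, 0, 0, 0, 0, 0, 0, 0, 0, 1, 0, 0, 1, 0, 0, 0, 0, 0, 0, 0, 0, 0, 0, 0, 0, 0, 0, 0, 0, 0, 0, 0, 0, 0, 0, 0, 0, 0, 0, 0, 0, 0, 0, 0, 0, 0, 0, 0, 0, 0, 0, 0, 0, 0, 0, 0, 0, 0, 0, 0, 0, 0, 0, 0, 0, 0, 0, 0, 0, 0, 0, 0, 0, 0, 0, 0, 0, 0, 0, 0, 0, 0, 0, 0, 0, 0, 0, 0],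
    [0, 0, 0, 0, 0, 0, 0, 0, 0, 0, 0, 0, 0, 0, 0, 0, 0, 0, 0, 0, 0, 0, 0, 0, 0, 0, 0, 0, 0, 0, 0, 0, 0, 0, 0, 0, 0, 0, 0, 0, 0, 0, 0, 0, 0, 0, 0, 0, 0, 0, 0, 0, 0, 0, 0, 0, 0, 0, 0, 0, 0, 0, 0, 0, 0, 0, 0, 0, 0, 0, 0, 0, 0, 0, 0, 0, 0, 0, 0, 0, 0, 0, 0, 0, 0, 0, 0, 0, 0, 0, 0, 0, 0, 0, 0, 0, 0, 0, 0, 0, 0, 0, 0, 0, 0, 0, 0, 0, 0, 0, 0, 0, 0, 0, 0, 0, 0, 0, 0, 0, 0, 0, 0, 0, 0, 0, 0, 0, 0, 0, 0, 0, 0, 0, 1, 1, 0, 0, 0, 0, 0, 0, 0, 0, 0, 0, 0, 0, 0, 0, 0, 0, 0, 0, 0, 0, 0, 0, 0, 0, 0, 0, 0, 0, 0, 0, 0, 0, 0, 0, 0, 0, 0, 0, 0, 0, 0, 0, 0, 0, 0, 0, 0, 0, 0, 0, 0, 0, 0, 0, 0, 0, 0, 0, 0, 0, 0, 0, 0, 0, 0, 0, 0, 0, 0, 0, 0, 0, 0, 0, 0, 0, 0, 0, 0, 0, 0, 0, 0, 0, 0, 0, 0, 0, 0, 0, 0, 0, 0, 0, 0, 0, 0, 0, 0, 0, 0, 0, 0, 0, 0, 0, 0, 0, 0, 0],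
    [0, 0, 0, 0, 0, 0, 0, 0, 0, 0, 0, 0, 0, 0, 0, 0, 0, 0, 0, 0, 0, 0, 0, 0, 0, 0, 0, 0, 0, 0, 0, 0, 0, 0, 0, 0, 0, 0, 0, 0, 0, 0, 0, 0, 0, 0, 0, 0, 0, 0, 0, 0, 0, 0, 0, 0, 0, 0, 0, 0, 0, 0, 0, 0, 0, 0, 0, 0, 0, 0, 0, 0, 0, 0, 0, 0, 0, 0, 0, 0, 0, 0, 0, 0, 0, 0, 0, 0, 0, 0, 0, 0, 0, 0, 0, 0, 0, 0, 0, 0, 0, 0, 0, 0, 0, 0, 0, 0, 0, 0, 0, 0, 0, 0, 0, 0, 0, 0, 0, 0, 0, 0, 0, 0, 0, 0, 0, 0, 0, 0, 0, 0, 0, 0, 0, 0, 0, 0, 0, 0, 0, 0, 0, 0, 0, 0, 0, 0, 0, 0, 0, 0, 0, 0, 1, 0, 0, 0, 0, 0, 0, 0, 0, 0, 0, 0, 0, 0, 0, 0, 1, 0, 0, 0, 0, 0, 0, 0, 0, 0, 0, 0, 0, 0, 0, 0, 0, 0, 0, 0, 0, 0, 0, 0, 0, 0, 0, 0, 0, 0, 0, 0, 0, 0, 0, 0, 0, 0, 0, 0, 0, 0, 0, 0, 0, 0, 0, 0, 0, 0, 0, 0, 0, 0, 0, 0, 0, 0, 0, 0, 0, 0, 0, 0, 0, 0, 0, 0, 0, 0, 0, 0, 0, 0, 0, 0],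
    [0, 0, 0, 0, 0, 0, 0, 0, 0, 0, 0, 0, 0, 0, 0, 0, 0, 0, 0, 0, 0, 0, 0, 0, 0, 0, 0, 0, 0, 0, 0, 0, 0, 0, 0, 0, 0, 0, 0, 0, 0, 0, 0, 0, 0, 0, 0, 0, 0, 0, 0, 0, 0, 0, 0, 0, 0, 0, 0, 0, 0, 0, 0, 0, 0, 0, 0, 0, 0, 0, 0, 0, 0, 0, 0, 0, 0, 0, 0, 0, 0, 0, 0, 0, 0, 0, 0, 0, 0, 0, 0, 0, 0, 0, 0, 0, 0, 0, 0, 0, 0, 0, 0, 0, 0, 0, 0, 0, 0, 0, 0, 0, 0, 0, 0, 0, 0, 0, 0, 0, 0, 0, 0, 0, 0, 0, 0, 0, 0, 0, 0, 0, 0, 0, 0, 0, 0, 0, 0, 0, 0, 0, 0, 0, 0, 0, 0, 0, 0, 0, 0, 0, 0, 0, 0, 0, 0, 0, 0, 0, 0, 0, 0, 0, 0, 0, 0, 0, 1, 0, 1, 0, 0, 0, 0, 0, 0, 0, 0, 0, 0, 0, 0, 0, 0, 0, 0, 0, 0, 0, 0, 0, 0, 0, 0, 0, 0, 0, 0, 0, 0, 0, 0, 0, 0, 0, 0, 0, 0, 0, 0, 0, 0, 0, 0, 0, 0, 0, 0, 0, 0, 0, 0, 0, 0, 0, 0, 0, 0, 0, 0, 0, 0, 0, 0, 0, 0, 0, 0, 0, 0, 0, 0, 0, 0, 0],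
    [0, 0, 0, 0, 0, 0, 0, 0, 0, 0, 0, 0, 0, 0, 0, 0, 0, 0, 0, 0, 0, 0, 0, 0, 0, 0, 0, 0, 0, 0, 0, 0, 0, 0, 0, 0, 0, 0, 0, 0, 0, 0, 0, 0, 0, 0, 0, 0, 0, 0, 0, 0, 0, 0, 0, 0, 0, 0, 0, 0, 0, 0, 0, 0, 0, 0, 0, 0, 0, 0, 0, 0, 0, 0, 0, 0, 0, 0, 0, 0, 0, 0, 0, 0, 0, 0, 0, 0, 0, 0, 0, 0, 0, 0, 0, 0, 0, 0, 0, 0, 0, 0, 0, 0, 0, 0, 0, 0, 0, 0, 0, 0, 0, 0, 0, 0, 0, 0, 0, 0, 0, 0, 0, 0, 0, 0, 0, 0, 0, 0, 0, 0, 0, 0, 0, 0, 0, 0, 0, 0, 0, 0, 0, 0, 0, 0, 0, 0, 0, 0, 0, 0, 0, 0, 0, 0, 0, 0, 0, 0, 0, 0, 0, 0, 0, 0, 0, 0, 0, 1, 1, 0, 0, 0, 0, 0, 0, 0, 0, 0, 0, 0, 0, 0, 0, 0, 0, 0, 0, 0, 0, 0, 0, 0, 0, 0, 0, 0, 0, 0, 0, 0, 0, 0, 0, 0, 0, 0, 0, 0, 0, 0, 0, 0, 0, 0, 0, 0, 0, 0, 0, 0, 0, 0, 0, 0, 0, 0, 0, 0, 0, 0, 0, 0, 0, 0, 0, 0, 0, 0, 0, 0, 0, 0, 0, 0],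
    [0, 0, 0, 0, 0, 0, 0, 0, 0, 0, 0, 0, 0, 0, 0, 0, 0, 0, 0, 0, 0, 0, 1, 0, 0, 0, 0, 0, 0, 0, 0, 0, 0, 0, 0, 0, 0, 0, 0, 0, 0, 0, 0, 0, 0, 0, 0, 0, 0, 0, 0, 0, 0, 0, 0, 0, 0, 0, 0, 0, 0, 0, 0, 0, 0, 0, 0, 0, 0, 0, 0, 0, 0, 0, 0, 0, 0, 0, 0, 0, 0, 0, 0, 0, 0, 0, 0, 0, 0, 0, 0, 0, 0, 0, 0, 0, 0, 0, 0, 0, 0, 0, 0, 0, 0, 0, 0, 0, 0, 0, 0, 0, 0, 0, 0, 0, 0, 0, 0, 0, 0, 0, 0, 0, 0, 0, 0, 0, 0, 0, 0, 0, 0, 0, 0, 0, 0, 0, 0, 0, 0, 0, 0, 0, 0, 0, 0, 0, 0, 0, 0, 0, 0, 0, 0, 0, 0, 0, 0, 0, 0, 0, 0, 0, 0, 0, 0, 0, 0, 0, 0, 0, 0, 0, 0, 0, 0, 0, 0, 0, 0, 0, 0, 0, 0, 0, 0, 0, 0, 0, 0, 0, 0, 0, 0, 0, 0, 0, 0, 0, 0, 0, 0, 0, 0, 0, 0, 0, 0, 0, 0, 0, 0, 0, 0, 0, 0, 0, 0, 0, 0, 0, 0, 0, 0, 0, 0, 0, 0, 0, 0, 0, 0, 0, 0, 0, 0, 0, 0, 0, 0, 0, 0, 0, 0, 0],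
    [0, 0, 0, 0, 0, 0, 0, 0, 0, 0, 0, 0, 0, 0, 0, 0, 0, 0, 0, 0, 0, 0, 0, 0, 0, 0, 0, 0, 0, 0, 1, 0, 0, 0, 0, 0, 0, 0, 0, 0, 0, 0, 0, 0, 0, 0, 0, 0, 0, 0, 0, 0, 0, 0, 0, 0, 0, 0, 0, 0, 0, 0, 0, 0, 0, 0, 0, 0, 0, 0, 0, 0, 0, 0, 0, 0, 0, 0, 0, 0, 0, 0, 0, 0, 0, 0, 0, 0, 0, 0, 0, 0, 0, 0, 0, 0, 0, 0, 0, 0, 0, 0, 0, 0, 0, 0, 0, 0, 0, 0, 0, 0, 0, 0, 0, 0, 0, 0, 0, 0, 0, 0, 0, 0, 0, 0, 0, 0, 0, 0, 0, 0, 0, 0, 0, 0, 0, 0, 0, 0, 0, 0, 0, 0, 0, 0, 0, 0, 0, 0, 0, 0, 0, 0, 0, 0, 0, 0, 0, 0, 0, 0, 0, 0, 0, 0, 0, 0, 0, 0, 0, 0, 0, 0, 0, 0, 0, 0, 0, 0, 0, 0, 0, 0, 0, 0, 0, 0, 0, 0, 0, 0, 0, 0, 0, 0, 0, 0, 0, 0, 0, 0, 0, 0, 0, 0, 0, 0, 0, 0, 0, 0, 0, 0, 0, 0, 0, 0, 0, 0, 0, 0, 0, 0, 0, 0, 0, 0, 0, 0, 0, 0, 0, 0, 0, 0, 0, 0, 0, 0, 0, 0, 0, 0, 0, 0],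
    [0, 0, 0, 0, 0, 0, 0, 0, 0, 0, 0, 0, 0, 0, 0, 0, 0, 0, 0, 0, 0, 0, 0, 0, 0, 0, 0, 0, 0, 0, 0, 0, 0, 0, 0, 0, 0, 0, 0, 0, 0, 0, 0, 0, 0, 0, 0, 0, 0, 0, 0, 0, 0, 0, 0, 0, 0, 0, 0, 0, 0, 0, 0, 0, 0, 0, 0, 0, 0, 0, 0, 0, 0, 0, 0, 0, 0, 0, 0, 0, 0, 0, 0, 0, 0, 0, 0, 0, 0, 0, 0, 0, 0, 0, 0, 0, 0, 0, 0, 0, 0, 0, 0, 0, 0, 0, 0, 0, 0, 0, 0, 0, 0, 0, 0, 0, 0, 0, 0, 0, 0, 0, 0, 0, 1, 0, 0, 0, 0, 0, 0, 0, 0, 0, 0, 0, 0, 0, 0, 0, 0, 0, 0, 0, 0, 0, 0, 0, 0, 0, 0, 0, 0, 0, 0, 0, 0, 0, 0, 0, 0, 0, 0, 0, 0, 0, 0, 0, 0, 0, 0, 0, 0, 0, 0, 0, 0, 0, 0, 0, 0, 0, 0, 0, 0, 0, 0, 0, 0, 0, 0, 0, 0, 0, 0, 0, 0, 0, 0, 0, 0, 0, 0, 0, 0, 0, 0, 0, 0, 0, 0, 0, 0, 0, 0, 0, 0, 0, 0, 0, 0, 0, 0, 0, 0, 0, 0, 0, 0, 0, 0, 0, 0, 0, 0, 0, 0, 0, 0, 0, 0, 0, 0, 0, 0, 0],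
    [0, 0, 0, 0, 0, 0, 0, 0, 0, 0, 0, 0, 0, 0, 0, 0, 0, 0, 0, 0, 0, 0, 0, 0, 0, 0, 0, 0, 0, 0, 0, 0, 0, 0, 0, 0, 0, 0, 0, 0, 0, 0, 0, 0, 0, 0, 0, 0, 0, 0, 0, 0, 0, 0, 0, 0, 0, 0, 0, 0, 0, 0, 0, 0, 0, 0, 0, 0, 0, 0, 0, 1, 0, 0, 0, 0, 0, 0, 0, 0, 0, 0, 0, 0, 0, 0, 0, 0, 0, 0, 0, 0, 0, 0, 0, 0, 0, 0, 0, 0, 0, 0, 0, 0, 0, 0, 0, 0, 0, 0, 0, 0, 0, 0, 0, 0, 0, 0, 0, 0, 0, 0, 0, 0, 0, 0, 0, 0, 0, 0, 0, 0, 0, 0, 0, 0, 0, 0, 0, 0, 0, 0, 0, 0, 0, 0, 0, 0, 0, 0, 0, 0, 0, 0, 0, 0, 0, 0, 0, 0, 0, 0, 0, 0, 0, 0, 0, 0, 0, 0, 0, 0, 0, 0, 0, 0, 0, 0, 0, 0, 0, 0, 0, 0, 0, 0, 0, 0, 0, 0, 0, 0, 0, 0, 0, 0, 0, 0, 0, 0, 0, 0, 0, 0, 0, 0, 0, 0, 0, 0, 0, 0, 0, 0, 0, 0, 0, 0, 0, 0, 0, 0, 0, 0, 0, 0, 0, 0, 0, 0, 0, 0, 0, 0, 0, 0, 0, 0, 0, 0, 0, 0, 0, 0, 0, 0]]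

/-- part of the exponents -/
def twoVecs4 : List (List ℤ) :=
  [[0, 0, 0, 0, 0, 0, 0, 0, 0, 0, 0, 0, 0, 0, 0, 0, 0, 0, 0, 0, 0, 0, 0, 0, 0, 0, 0, 0, 0, 0, 0, 0, 0, 0, 0, 0, 0, 0, 0, 0, 0, 0, 0, 0, 0, 0, 0, 0, 0, 0, 0, 0, 0, 0, 0, 0, 0, 0, 0, 0, 0, 0, 0, 0, 0, 0, 0, 0, 0, 0, 0, 0, 0, 0, 0, 0, 0, 0, 0, 0, 0, 0, 0, 0, 0, 0, 0, 0, 0, 0, 0, 0, 0, 0, 0, 0, 0, 0, 0, 0, 0, 0, 0, 0, 0, 0, 0, 0, 0, 0, 0, 0, 0, 0, 0, 0, 0, 0, 0, 0, 0, 0, 0, 0, 0, 0, 0, 0, 0, 0, 0, 0, 0, 0, 0, 0, 0, 0, 1, 0, 0, 0, 0, 0, 0, 0, 0, 0, 0, 0, 0, 0, 0, 0, 0, 0, 0, 0, 0, 0, 0, 0, 0, 0, 0, 0, 0, 0, 0, 0, 0, 0, 0, 0, 0, 0, 0, 0, 0, 0, 0, 0, 0, 0, 0, 0, 0, 0, 0, 0, 0, 0, 0, 0, 0, 0, 0, 0, 0, 0, 0, 0, 0, 0, 0, 0, 0, 0, 0, 0, 0, 0, 0, 0, 0, 0, 0, 0, 0, 0, 0, 0, 0, 0, 0, 0, 0, 0, 0, 0, 0, 0, 0, 0, 0, 0, 0, 0, 0, 0, 0, 0,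 0, 0, 0, 0],
    [0, 0, 0, 0, 0, 0, 0, 0, 0, 0, 0, 0, 0, 0, 0, 0, 0, 0, 0, 0, 0, 0, 0, 0, 0, 0, 0, 0, 0, 0, 0, 0, 0, 0, 0, 0, 0, 0, 0, 0, 0, 0, 0, 0, 0, 0, 0, 0, 0, 0, 0, 0, 0, 0, 0, 0, 0, 0, 0, 0, 0, 0, 0, 0, 0, 0, 0, 0, 0, 0, 0, 0, 0, 1, 0, 0, 0, 0, 0, 0, 0, 0, 0, 0, 0, 0, 0, 0, 0, 0, 0, 0, 0, 0, 0, 0, 0, 0, 0, 0, 0, 0, 0, 0, 0, 0, 0, 0, 0, 0, 0, 0, 0, 0, 0, 0, 0, 0, 0, 0, 0, 0, 0, 0, 0, 0, 0, 0, 0, 0, 0, 0, 0, 0, 0, 0, 0, 0, 0, 0, 0, 0, 0, 0, 0, 0, 0, 0, 0, 0, 0, 0, 0, 0, 0, 0, 0, 0, 0, 0, 0, 0, 0, 0, 0, 0, 0, 0, 0, 0, 0, 0, 0, 0, 0, 0, 0, 0, 0, 0, 0, 0, 0, 0, 0, 0, 0, 0, 0, 0, 0, 0, 0, 0, 0, 0, 0, 0, 0, 0, 0, 0, 0, 0, 0, 0, 0, 0, 0, 0, 0, 0, 0, 0, 0, 0, 0, 0, 0, 0, 0, 0, 0, 0, 0, 0, 0, 0, 0, 0, 0, 0, 0, 0, 0, 0, 0, 0, 0, 0, 0, 0, 0, 0, 0, 0],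
    [0, 0, 0, 0, 0, 0, 0, 0, 0, 0, 0, 0, 0, 0, 0, 0, 0, 0, 0, 0, 0, 0, 0, 0, 0, 0, 0, 0, 0, 0, 0, 0, 0, 0, 0, 0, 0, 0, 0, 0, 0, 0, 0, 0, 0, 0, 0, 0, 0, 0, 0, 0, 0, 0, 0, 0, 0, 0, 0, 0, 0, 0, 0, 0, 0, 0, 0, 0, 0, 0, 0, 0, 0, 0, 0, 0, 0, 0, 0, 0, 0, 0, 0, 0, 0, 0, 0, 0, 0, 0, 0, 0, 0, 0, 0, 0, 0, 0, 0, 0, 0, 0, 0, 0, 0, 0, 0, 0, 0, 0, 0, 0, 0, 0, 0, 0, 0, 0, 0, 0, 0, 0, 0, 0, 0, 0, 0, 0, 0, 0, 0, 0, 0, 0, 0, 0, 0, 0, 0, 0, 0, 0, 1, 0, 0, 0, 0, 0, 0, 0, 0, 0, 0, 0, 0, 0, 0, 0, 0, 0, 0, 0, 0, 0, 0, 0, 0, 0, 0, 0, 0, 0, 0, 0, 0, 0, 0, 0, 0, 0, 0, 0, 0, 0, 0, 0, 0, 0, 0, 0, 0, 0, 0, 0, 0, 0, 0, 0, 0, 0, 0, 0, 0, 0, 0, 0, 0, 0, 0, 0, 0, 0, 0, 0, 0, 0, 0, 0, 0, 0, 0, 0, 0, 0, 0, 0, 0, 0, 0, 0, 0, 0, 0, 0, 0, 0, 0, 0, 0, 0, 0, 0, 0, 0, 0, 0],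
    [0, 0, 0, 0, 0, 0, 0, 0, 0, 0, 0, 0, 0, 0, 0, 0, 0, 0, 0, 0, 0, 0, 0, 0, 0, 0, 0, 0, 0, 0, 0, 0, 0, 0, 0, 0, 0, 0, 0, 0, 0, 0, 0, 0, 0, 0, 0, 0, 0, 0, 0, 0, 0, 0, 0, 0, 0, 0, 0, 0, 0, 0, 0, 0, 0, 0, 0, 0, 0, 0, 0, 0, 0, 0, 0, 0, 0, 0, 0, 0, 0, 0, 0, 0, 0, 0, 0, 0, 0, 0, 0, 0, 0, 0, 0, 0, 0, 0, 0, 0, 0, 0, 0, 0, 0, 0, 0, 0, 0, 0, 0, 0, 0, 0, 0, 0, 0, 0, 0, 0, 0, 0, 0, 0, 0, 0, 0, 0, 0, 0, 0, 0, 0, 0, 0, 0, 0, 0, 0, 0, 0, 0, 0, 1, 0, 0, 0, 0, 0, 0, 0, 0, 0, 0, 0, 0, 0, 0, 0, 0, 0, 0, 0, 0, 0, 0, 0, 0, 0, 0, 0, 0, 0, 0, 0, 0, 0, 0, 0, 0, 0, 0, 0, 0, 0, 0, 0, 0, 0, 0, 0, 0, 0, 0, 0, 0, 0, 0, 0, 0, 0, 0, 0, 0, 0, 0, 0, 0, 0, 0, 0, 0, 0, 0, 0, 0, 0, 0, 0, 0, 0, 0, 0, 0, 0, 0, 0, 0, 0, 0, 0, 0, 0, 0, 0, 0, 0, 0, 0, 0, 0, 0, 0, 0, 0, 0],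
    [0, 0, 0, 0, 0, 0, 0, 0, 0, 0, 0, 0, 0, 0, 0, 0, 0, 0, 0, 0, 0, 0, 0, 0, 0, 0, 0, 0, 0, 0, 0, 0, 0, 0, 0, 0, 0, 0, 0, 0, 0, 0, 0, 0, 0, 0, 0, 0, 0, 0, 0, 0, 0, 0, 0, 0, 0, 0, 0, 0, 0, 0, 0, 0, 0, 0, 0, 0, 0, 0, 0, 0, 0, 0, 0, 0, 0, 0, 0, 0, 0, 0, 0, 0, 0, 0, 0, 0, 0, 0, 0, 0, 0, 0, 0, 0, 0, 0, 0, 0, 0, 0, 0, 0, 0, 0, 0, 0, 0, 0, 0, 0, 0, 0, 0, 0, 0, 0, 0, 0, 0, 0, 0, 0, 0, 0, 0, 0, 0, 0, 0, 1, 0, 0, 0, 0, 0, 0, 0, 0, 0, 0, 0, 0, 0, 0, 0, 0, 0, 0, 0, 0, 0, 0, 0, 0, 0, 0, 0, 0, 0, 0, 0, 0, 0, 0, 0, 0, 0, 0, 0, 0, 0, 0, 0, 0, 0, 0, 0, 0, 0, 0, 0, 0, 0, 0, 0, 0, 0, 0, 0, 0, 0, 0, 0, 0, 0, 0, 0, 0, 0, 0, 0, 0, 0, 0, 0, 0, 0, 0, 0, 0, 0, 0, 0, 0, 0, 0, 0, 0, 0, 0, 0, 0, 0, 0, 0, 0, 0, 0, 0, 0, 0, 0, 0, 0, 0, 0, 0, 0, 0, 0, 0, 0, 0, 0],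
    [0, 0, 0, 0, 0, 0, 0, 0, 0, 0, 0, 0, 0, 0, 0, 0, 0, 0, 0, 0, 0, 0, 0, 0, 0, 0, 0, 0, 0, 0, 0, 0, 0, 0, 0, 0, 0, 0, 0, 0, 0, 0, 0, 0, 0, 0, 0, 0, 0, 0, 0, 0, 0, 0, 0, 0, 0, 0, 0, 0, 0, 0, 0, 0, 0, 0, 0, 0, 0, 0, 0, 0, 0, 0, 0, 0, 0, 0, 0, 0, 0, 0, 0, 0, 0, 0, 0, 0, 0, 0, 0, 0, 0, 0, 0, 0, 0, 1, 0, 0, 0, 0, 0, 0, 0, 0, 0, 0, 0, 0, 0, 0, 0, 0, 0, 0, 0, 0, 0, 0, 0, 0, 0, 0, 0, 0, 0, 0, 0, 0, 0, 0, 0, 0, 0, 0, 0, 0, 0, 0, 0, 0, 0, 0, 0, 0, 0, 0, 0, 0, 0, 0, 0, 0, 0, 0, 0, 0, 0, 0, 0, 0, 0, 0, 0, 0, 0, 0, 0, 0, 0, 0, 0, 0, 0, 0, 0, 0, 0, 0, 0, 0, 0, 0, 0, 0, 0, 0, 0, 0, 0, 0, 0, 0, 0, 0, 0, 0, 0, 0, 0, 0, 0, 0, 0, 0, 0, 0, 0, 0, 0, 0, 0, 0, 0, 0, 0, 0, 0, 0, 0, 0, 0, 0, 0, 0, 0, 0, 0, 0, 0, 0, 0, 0, 0, 0, 0, 0, 0, 0, 0, 0, 0, 0, 0, 0],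
    [0, 0, 0, 0, 0, 0, 0, 0, 0, 0, 0, 0, 0, 0, 0, 0, 0, 0, 0, 0, 0, 0, 0, 0, 0, 0, 0, 0, 0, 0, 0, 0, 0, 0, 0, 0, 0, 0, 0, 0, 0, 0, 0, 0, 0, 0, 0, 0, 0, 0, 0, 0, 0, 0, 0, 0, 0, 0, 0, 0, 0, 0, 0, 0, 0, 0, 0, 0, 0, 0, 0, 0, 0, 0, 0, 0, 0, 0, 0, 0, 0, 0, 0, 0, 0, 0, 0, 0, 0, 0, 0, 0, 0, 0, 0, 0, 0, 0, 0, 0, 0, 0, 0, 0, 0, 0, 0, 0, 0, 0, 0, 0, 0, 0, 0, 0, 0, 0, 0, 0, 1, 0, 0, 0, 0, 0, 0, 0, 0, 0, 0, 0, 0, 0, 0, 0, 0, 0, 0, 0, 0, 0, 0, 0, 0, 0, 0, 0, 0, 0, 0, 0, 0, 0, 0, 0, 0, 0, 0, 0, 0, 0, 0, 0, 0, 0, 0, 0, 0, 0, 0, 0, 0, 0, 0, 0, 0, 0, 0, 0, 0, 0, 0, 0, 0, 0, 0, 0, 0, 0, 0, 0, 0, 0, 0, 0, 0, 0, 0, 0, 0, 0, 0, 0, 0, 0, 0, 0, 0, 0, 0, 0, 0, 0, 0, 0, 0, 0, 0, 0, 0, 0, 0, 0, 0, 0, 0, 0, 0, 0, 0, 0, 0, 0, 0, 0, 0, 0, 0, 0, 0, 0, 0, 0, 0, 0],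
    [0, 0, 0, 0, 0, 0, 0, 0, 0, 0, 0, 0, 0, 0, 0, 0, 0, 0, 0, 0, 0, 0, 0, 0, 0, 0, 0, 0, 0, 0, 0, 0, 0, 0, 0, 0, 0, 0, 0, 0, 0, 0, 0, 0, 0, 0, 0, 0, 0, 0, 0, 0, 0, 0, 0, 0, 0, 0, 0, 0, 0, 0, 0, 0, 0, 0, 0, 0, 0, 0, 0, 0, 0, 0, 0, 0, 0, 0, 0, 0, 0, 0, 0, 0, 0, 0, 0, 0, 0, 0, 0, 0, 0, 0, 0, 0, 0, 0, 0, 0, 0, 0, 0, 0, 0, 0, 0, 0, 0, 0, 0, 0, 0, 0, 0, 0, 0, 0, 0, 0, 0, 0, 0, 0, 0, 0, 0, 0, 0, 0, 0, 0, 0, 0, 0, 0, 0, 0, 0, 0, 0, 0, 0, 0, 0, 0, 0, 0, 0, 0, 0, 0, 0, 1, 0, 0, 0, 0, 0, 0, 0, 0, 0, 0, 0, 0, 0, 0, 0, 0, 0, 0, 0, 0, 0, 0, 0, 0, 0, 0, 0, 0, 0, 0, 0, 0, 0, 0, 0, 0, 0, 0, 0, 0, 0, 0, 0, 0, 0, 0, 0, 0, 0, 0, 0, 0, 0, 0, 0, 0, 0, 0, 0, 0, 0, 0, 0, 0, 0, 0, 0, 0, 0, 0, 0, 0, 0, 0, 0, 0, 0, 0, 0, 0, 0, 0, 0, 0, 0, 0, 0, 0, 0, 0, 0, 0],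
    [0, 0, 0, 0, 0, 0, 0, 0, 0, 0, 0, 0, 0, 0, 0, 0, 0, 0, 0, 0, 0, 0, 0, 0, 0, 0, 0, 0, 0, 0, 0, 0, 0, 0, 0, 0, 0, 0, 0, 0, 0, 0, 0, 0, 0, 0, 0, 0, 0, 0, 0, 0, 0, 0, 0, 0, 0, 0, 0, 0, 0, 0, 0, 0, 0, 0, 0, 0, 0, 0, 0, 0, 0, 0, 0, 0, 0, 0, 0, 0, 0, 0, 0, 0, 0, 0, 0, 0, 0, 0, 0, 0, 0, 0, 0, 0, 0, 0, 0, 0, 0, 0, 0, 0, 0, 0, 0, 0, 0, 0, 0, 0, 0, 0, 0, 0, 0, 0, 0, 0, 0, 0, 0, 0, 0, 0, 0, 0, 0, 0, 0, 0, 0, 0, 0, 0, 0, 0, 0, 0, 0, 0, 0, 0, 0, 0, 0, 0, 0, 0, 0, 0, 0, 0, 1, 0, 0, 0, 0, 0, 0, 0, 0, 0, 0, 0, 0, 0, 0, 0, 0, 0, 0, 0, 0, 0, 0, 0, 0, 0, 0, 0, 0, 0, 0, 0, 0, 0, 0, 0, 0, 0, 0, 0, 0, 0, 0, 0, 0, 0, 0, 0, 0, 0, 0, 0, 0, 0, 0, 0, 0, 0, 0, 0, 0, 0, 0, 0, 0, 0, 0, 0, 0, 0, 0, 0, 0, 0, 0, 0, 0, 0, 0, 0, 0, 0, 0, 0, 0, 0, 0, 0, 0, 0, 0, 0],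
    [0, 0, 0, 0, 0, 0, 0, 0, 0, 0, 0, 0, 0, 0, 0, 0, 0, 0, 0, 0, 0, 0, 0, 0, 0, 0, 0, 0, 0, 0, 0, 0, 0, 0, 0, 0, 0, 0, 0, 0, 0, 0, 0, 0, 0, 0, 0, 0, 0, 0, 0, 0, 0, 0, 0, 0, 0, 0, 0, 0, 0, 0, 0, 0, 0, 0, 0, 0, 0, 0, 0, 0, 0, 0, 0, 0, 0, 0, 0, 0, 0, 0, 0, 0, 0, 0, 0, 0, 0, 0, 0, 0, 0, 0, 0, 0, 0, 0, 0, 0, 0, 0, 1, 0, 0, 0, 0, 0, 0, 0, 0, 0, 0, 0, 0, 0, 0, 0, 0, 0, 0, 0, 0, 0, 0, 0, 0, 0, 0, 0, 0, 0, 0, 0, 0, 0, 0, 0, 0, 0, 0, 0, 0, 0, 0, 0, 0, 0, 0, 0, 0, 0, 0, 0, 0, 0, 0, 0, 0, 0, 0, 0, 0, 0, 0, 0, 0, 0, 0, 0, 0, 0, 0, 0, 0, 0, 0, 0, 0, 0, 0, 0, 0, 0, 0, 0, 0, 0, 0, 0, 0, 0, 0, 0, 0, 0, 0, 0, 0, 0, 0, 0, 0, 0, 0, 0, 0, 0, 0, 0, 0, 0, 0, 0, 0, 0, 0, 0, 0, 0, 0, 0, 0, 0, 0, 0, 0, 0, 0, 0, 0, 0, 0, 0, 0, 0, 0, 0, 0, 0, 0, 0, 0, 0, 0, 0]]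

/-- part of the exponents -/
def twoVecs5 : List (List ℤ) :=
  [[0, 0, 0, 0, 0, 0, 0, 0, 0, 0, 0, 0, 0, 0, 0, 0, 0, 0, 0, 0, 0, 0, 0, 0, 0, 0, 0, 0, 0, 0, 0, 0, 0, 0, 0, 0, 0, 0, 0, 0, 0, 0, 0, 0, 0, 0, 0, 0, 0, 0, 0, 0, 0, 0, 0, 0, 0, 0, 0, 0, 0, 0, 0, 0, 0, 0, 0, 0, 0, 0, 0, 0, 0, 0, 0, 0, 0, 0, 0, 0, 0, 0, 0, 0, 0, 0, 0, 0, 0, 0, 0, 0, 0, 0, 0, 0, 0, 0, 0, 0, 0, 0, 0, 0, 0, 0, 0, 0, 0, 0, 0, 0, 0, 0, 0, 0, 0, 0, 0, 0, 0, 0, 0, 0, 0, 0, 0, 0, 0, 0, 0, 0, 0, 0, 0, 0, 0, 0, 0, 0, 0, 0, 0, 0, 0, 0, 0, 0, 0, 1, 0, 0, 0, 0, 0, 0, 0, 0, 0, 0, 0, 0, 0, 0, 0, 0, 0, 0, 0, 0, 0, 0, 0, 0, 0, 0, 0, 0, 0, 0, 0, 0, 0, 0, 0, 0, 0, 0, 0, 0, 0, 0, 0, 0, 0, 0, 0, 0, 0, 0, 0, 0, 0, 0, 0, 0, 0, 0, 0, 0, 0, 0, 0, 0, 0, 0, 0, 0, 0, 0, 0, 0, 0, 0, 0, 0, 0, 0, 0, 0, 0, 0, 0, 0, 0, 0, 0, 0, 0, 0, 0, 0,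 0, 0, 0, 0],
    [0, 0, 0, 0, 0, 0, 0, 0, 0, 0, 0, 0, 0, 0, 0, 0, 0, 0, 0, 0, 0, 0, 0, 0, 0, 0, 0, 0, 0, 0, 0, 0, 0, 0, 0, 0, 0, 0, 0, 0, 0, 0, 0, 0, 0, 0, 0, 0, 0, 0, 0, 0, 0, 0, 0, 0, 0, 0, 0, 0, 0, 0, 0, 0, 0, 0, 0, 0, 0, 0, 0, 0, 0, 0, 0, 0, 0, 0, 0, 0, 0, 0, 0, 0, 0, 0, 0, 0, 0, 0, 0, 0, 0, 0, 0, 0, 0, 0, 0, 0, 0, 0, 0, 0, 0, 0, 0, 0, 0, 0, 0, 0, 0, 0, 0, 0, 0, 0, 0, 0, 0, 0, 0, 0, 0, 0, 0, 0, 0, 0, 0, 0, 0, 0, 0, 0, 0, 0, 0, 0, 0, 0, 0, 0, 0, 0, 0, 0, 0, 0, 0, 0, 0, 0, 0, 0, 0, 0, 0, 0, 0, 0, 0, 0, 1, 0, 0, 0, 0, 0, 0, 0, 0, 0, 0, 0, 0, 0, 0, 0, 0, 0, 0, 0, 0, 0, 0, 0, 0, 0, 0, 0, 0, 0, 0, 0, 0, 0, 0, 0, 0, 0, 0, 0, 0, 0, 0, 0, 0, 0, 0, 0, 0, 0, 0, 0, 0, 0, 0, 0, 0, 0, 0, 0, 0, 0, 0, 0, 0, 0, 0, 0, 0, 0, 0, 0, 0, 0, 0, 0, 0, 0, 0, 0, 0, 0],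
    [0, 0, 0, 0, 0, 0, 0, 0, 0, 0, 0, 0, 0, 0, 0, 0, 0, 0, 0, 0, 0, 0, 0, 0, 0, 0, 0, 0, 0, 0, 0, 0, 0, 0, 0, 0, 0, 0, 0, 0, 0, 0, 0, 0, 0, 0, 0, 0, 0, 0, 0, 0, 0, 0, 0, 0, 0, 0, 0, 0, 0, 0, 0, 0, 0, 0, 0, 0, 0, 0, 0, 0, 0, 0, 0, 0, 0, 0, 0, 0, 0, 0, 0, 0, 0, 0, 0, 0, 0, 0, 0, 0, 0, 0, 0, 0, 0, 0, 0, 0, 0, 0, 0, 0, 0, 0, 0, 0, 0, 0, 0, 0, 0, 0, 0, 0, 0, 0, 1, 0, 0, 0, 0, 0, 0, 0, 0, 0, 0, 0, 0, 0, 0, 0, 0, 0, 0, 0, 0, 0, 0, 0, 0, 0, 0, 0, 0, 0, 0, 0, 0, 0, 0, 0, 0, 0, 0, 0, 0, 0, 0, 0, 0, 0, 0, 0, 0, 0, 0, 0, 0, 0, 0, 0, 0, 0, 0, 0, 0, 0, 0, 0, 0, 0, 0, 0, 0, 0, 0, 0, 0, 0, 0, 0, 0, 0, 0, 0, 0, 0, 0, 0, 0, 0, 0, 0, 0, 0, 0, 0, 0, 0, 0, 0, 0, 0, 0, 0, 0, 0, 0, 0, 0, 0, 0, 0, 0, 0, 0, 0, 0, 0, 0, 0, 0, 0, 0, 0, 0, 0, 0, 0, 0, 0, 0, 0],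
    [0, 0, 0, 0, 0, 0, 0, 0, 0, 0, 0, 0, 0, 0, 0, 0, 0, 0, 0, 0, 0, 0, 0, 0, 0, 0, 0, 0, 0, 0, 0, 0, 0, 0, 0, 0, 0, 0, 0, 0, 0, 0, 0, 0, 0, 0, 0, 0, 0, 0, 0, 0, 0, 0, 0, 0, 0, 0, 0, 0, 0, 0, 0, 0, 0, 0, 0, 0, 0, 0, 0, 0, 0, 0, 0, 0, 0, 0, 0, 0, 0, 0, 0, 0, 0, 0, 0, 0, 0, 0, 0, 0, 0, 0, 0, 0, 0, 0, 0, 0, 0, 0, 0, 0, 0, 0, 0, 0, 0, 0, 0, 0, 0, 0, 0, 0, 0, 0, 0, 0, 0, 0, 0, 0, 0, 0, 0, 0, 0, 0, 0, 0, 0, 0, 0, 0, 0, 0, 0, 0, 0, 1, 0, 0, 0, 0, 0, 0, 0, 0, 0, 0, 0, 0, 0, 0, 0, 0, 0, 0, 0, 0, 0, 0, 0, 0, 0, 0, 0, 0, 0, 0, 0, 0, 0, 0, 0, 0, 0, 0, 0, 0, 0, 0, 0, 0, 0, 0, 0, 0, 0, 0, 0, 0, 0, 0, 0, 0, 0, 0, 0, 0, 0, 0, 0, 0, 0, 0, 0, 0, 0, 0, 0, 0, 0, 0, 0, 0, 0, 0, 0, 0, 0, 0, 0, 0, 0, 0, 0, 0, 0, 0, 0, 0, 0, 0, 0, 0, 0, 0, 0, 0, 0, 0, 0, 0],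
    [0, 0, 0, 0, 0, 0, 0, 0, 0, 0, 0, 0, 0, 0, 0, 0, 0, 0, 0, 0, 0, 0, 0, 0, 0, 0, 0, 0, 0, 0, 0, 0, 0, 0, 0, 0, 0, 0, 0, 0, 0, 0, 0, 0, 0, 0, 0, 0, 0, 0, 0, 0, 0, 0, 0, 0, 0, 0, 0, 0, 0, 0, 0, 0, 0, 0, 0, 0, 0, 0, 0, 0, 0, 0, 0, 0, 0, 0, 0, 0, 0, 0, 0, 0, 0, 0, 0, 0, 0, 0, 0, 0, 0, 0, 0, 0, 0, 0, 0, 0, 0, 0, 0, 0, 0, 0, 0, 0, 0, 0, 0, 0, 0, 0, 0, 0, 0, 0, 0, 0, 0, 0, 0, 0, 0, 0, 0, 0, 0, 0, 0, 0, 0, 0, 0, 0, 0, 0, 0, 0, 0, 0, 0, 0, 0, 0, 0, 0, 0, 0, 0, 1, 0, 0, 0, 0, 0, 0, 0, 0, 0, 0, 0, 0, 0, 0, 0, 0, 0, 0, 0, 0, 0, 0, 0, 0, 0, 0, 0, 0, 0, 0, 0, 0, 0, 0, 0, 0, 0, 0, 0, 0, 0, 0, 0, 0, 0, 0, 0, 0, 0, 0, 0, 0, 0, 0, 0, 0, 0, 0, 0, 0, 0, 0, 0, 0, 0, 0, 0, 0, 0, 0, 0, 0, 0, 0, 0, 0, 0, 0, 0, 0, 0, 0, 0, 0, 0, 0, 0, 0, 0, 0, 0, 0, 0, 0],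
    [0, 0, 0, 0, 0, 0, 0, 0, 0, 0, 0, 0, 0, 0, 0, 0, 0, 0, 0, 0, 0, 0, 0, 0, 0, 0, 0, 0, 0, 0, 0, 0, 0, 0, 0, 0, 0, 0, 0, 0, 0, 0, 0, 0, 0, 0, 0, 0, 0, 0, 0, 0, 0, 0, 0, 0, 0, 0, 0, 0, 0, 0, 0, 0, 0, 0, 0, 0, 0, 0, 0, 0, 0, 0, 0, 0, 0, 0, 0, 0, 0, 0, 0, 0, 0, 0, 0, 0, 0, 0, 0, 0, 0, 0, 0, 0, 0, 0, 0, 0, 0, 0, 0, 0, 0, 0, 0, 0, 0, 0, 0, 0, 0, 0, 0, 0, 0, 0, 0, 0, 0, 0, 0, 0, 0, 0, 0, 0, 0, 0, 0, 0, 0, 0, 0, 0, 0, 0, 0, 0, 0, 0, 0, 0, 0, 0, 0, 1, 0, 0, 0, 0, 0, 0, 0, 0, 0, 0, 0, 0, 0, 0, 0, 0, 0, 0, 0, 0, 0, 0, 0, 0, 0, 0, 0, 0, 0, 0, 0, 0, 0, 0, 0, 0, 0, 0, 0, 0, 0, 0, 0, 0, 0, 0, 0, 0, 0, 0, 0, 0, 0, 0, 0, 0, 0, 0, 0, 0, 0, 0, 0, 0, 0, 0, 0, 0, 0, 0, 0, 0, 0, 0, 0, 0, 0, 0, 0, 0, 0, 0, 0, 0, 0, 0, 0, 0, 0, 0, 0, 0, 0, 0, 0, 0, 0, 0],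
    [0, 0, 0, 0, 0, 0, 0, 0, 0, 0, 0, 0, 0, 0, 0, 0, 0, 0, 0, 0, 0, 0, 0, 0, 0, 0, 0, 0, 0, 0, 0, 0, 0, 0, 0, 0, 0, 0, 0, 0, 0, 0, 0, 0, 0, 0, 0, 0, 0, 0, 0, 0, 0, 0, 0, 0, 0, 0, 0, 0, 0, 0, 0, 0, 0, 0, 0, 0, 0, 0, 0, 0, 0, 0, 0, 0, 0, 0, 0, 0, 0, 0, 0, 0, 0, 0, 0, 0, 0, 0, 0, 0, 0, 0, 0, 0, 0, 0, 0, 0, 0, 0, 0, 0, 0, 0, 0, 0, 0, 0, 0, 0, 0, 0, 0, 0, 0, 0, 0, 0, 0, 0, 0, 0, 0, 0, 0, 0, 0, 0, 0, 0, 0, 0, 0, 0, 0, 0, 0, 0, 0, 0, 0, 0, 0, 0, 0, 0, 0, 0, 0, 0, 0, 0, 0, 0, 0, 0, 1, 0, 0, 0, 0, 0, 0, 0, 0, 0, 0, 0, 0, 0, 0, 0, 0, 0, 0, 0, 0, 0, 0, 0, 0, 0, 0, 0, 0, 0, 0, 0, 0, 0, 0, 0, 0, 0, 0, 0, 0, 0, 0, 0, 0, 0, 0, 0, 0, 0, 0, 0, 0, 0, 0, 0, 0, 0, 0, 0, 0, 0, 0, 0, 0, 0, 0, 0, 0, 0, 0, 0, 0, 0, 0, 0, 0, 0, 0, 0, 0, 0, 0, 0, 0, 0, 0, 0],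
    [0, 0, 0, 0, 0, 0, 0, 0, 0, 0, 0, 0, 0, 0, 0, 0, 0, 0, 0, 0, 0, 1, 0, 0, 0, 0, 0, 0, 1, 0, 0, 0, 0, 0, 0, 0, 0, 0, 0, 0, 0, 0, 0, 0, 0, 0, 0, 0, 0, 0, 0, 0, 0, 0, 0, 0, 0, 0, 0, 0, 0, 0, 0, 0, 0, 0, 0, 0, 0, 0, 0, 0, 0, 0, 0, 0, 0, 0, 0, 0, 0, 0, 0, 0, 0, 0, 0, 0, 0, 0, 0, 0, 0, 0, 0, 0, 0, 0, 0, 0, 0, 0, 0, 0, 0, 0, 0, 0, 0, 0, 0, 0, 0, 0, 0, 0, 0, 0, 0, 0, 0, 0, 0, 0, 0, 0, 0, 0, 0, 0, 0, 0, 0, 0, 0, 0, 0, 0, 0, 0, 0, 0, 0, 0, 0, 0, 0, 0, 0, 0, 0, 0, 0, 0, 0, 0, 0, 0, 0, 0, 0, 0, 0, 0, 0, 0, 0, 0, 0, 0, 0, 0, 0, 0, 0, 0, 0, 0, 0, 0, 0, 0, 0, 0, 0, 0, 0, 0, 0, 0, 0, 0, 0, 0, 0, 0, 0, 0, 0, 0, 0, 0, 0, 0, 0, 0, 0, 0, 0, 0, 0, 0, 0, 0, 0, 0, 0, 0, 0, 0, 0, 0, 0, 0, 0, 0, 0, 0, 0, 0, 0, 0, 0, 0, 0, 0, 0, 0, 0, 0, 0, 0, 0, 0, 0, 0],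
    [0, 0, 0, 0, 0, 0, 0, 0, 0, 0, 0, 0, 0, 0, 0, 0, 0, 0, 0, 0, 0, 0, 0, 0, 0, 0, 0, 0, 0, 0, 0, 0, 0, 0, 0, 0, 0, 0, 0, 0, 0, 0, 0, 0, 0, 0, 0, 0, 0, 0, 0, 0, 0, 0, 0, 0, 0, 0, 0, 0, 0, 0, 0, 0, 0, 0, 0, 0, 0, 0, 0, 0, 0, 0, 0, 0, 0, 0, 0, 0, 0, 0, 0, 0, 0, 0, 0, 0, 0, 0, 0, 0, 0, 0, 0, 0, 0, 0, 0, 0, 0, 0, 0, 0, 0, 0, 0, 0, 0, 0, 0, 0, 0, 0, 0, 0, 0, 0, 0, 0, 0, 0, 0, 0, 0, 0, 0, 0, 0, 0, 0, 0, 0, 0, 0, 0, 0, 0, 1, 0, 0, 0, 0, 0, 0, 0, 0, 0, 0, 0, 0, 0, 0, 0, 0, 1, 0, 0, 0, 0, 0, 0, 0, 0, 0, 0, 0, 0, 0, 0, 0, 0, 0, 0, 0, 0, 0, 0, 0, 0, 0, 0, 0, 0, 0, 0, 0, 0, 0, 0, 0, 0, 0, 0, 0, 0, 0, 0, 0, 0, 0, 0, 0, 0, 0, 0, 0, 0, 0, 0, 0, 0, 0, 0, 0, 0, 0, 0, 0, 0, 0, 0, 0, 0, 0, 0, 0, 0, 0, 0, 0, 0, 0, 0, 0, 0, 0, 0, 0, 0, 0, 0, 0, 0, 0, 0],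
    [0, 0, 0, 0, 0, 0, 0, 0, 0, 0, 0, 0, 0, 0, 0, 0, 0, 0, 0, 0, 0, 0, 0, 0, 0, 0, 0, 0, 0, 0, 0, 0, 0, 0, 0, 0, 0, 0, 0, 0, 0, 0, 0, 0, 0, 0, 0, 0, 0, 0, 0, 0, 0, 0, 0, 0, 0, 0, 0, 0, 0, 0, 0, 0, 0, 0, 0, 0, 0, 0, 0, 0, 0, 0, 0, 0, 0, 0, 0, 0, 0, 0, 0, 0, 0, 0, 0, 0, 1, 0, 0, 0, 0, 0, 0, 0, 0, 0, 0, 0, 0, 0, 0, 0, 0, 0, 0, 0, 0, 0, 0, 0, 0, 0, 0, 0, 0, 0, 0, 0, 0, 0, 0, 0, 0, 0, 0, 0, 0, 0, 1, 0, 0, 0, 0, 0, 0, 0, 0, 0, 0, 0, 0, 0, 0, 0, 0, 0, 0, 0, 0, 0, 0, 0, 0, 0, 0, 0, 0, 0, 0, 0, 0, 0, 0, 0, 0, 0, 0, 0, 0, 0, 0, 0, 0, 0, 0, 0, 0, 0, 0, 0, 0, 0, 0, 0, 0, 0, 0, 0, 0, 0, 0, 0, 0, 0, 0, 0, 0, 0, 0, 0, 0, 0, 0, 0, 0, 0, 0, 0, 0, 0, 0, 0, 0, 0, 0, 0, 0, 0, 0, 0, 0, 0, 0, 0, 0, 0, 0, 0, 0, 0, 0, 0, 0, 0, 0, 0, 0, 0, 0, 0, 0, 0, 0, 0]]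

/-- part of the exponents -/
def twoVecs6 : List (List ℤ) :=
  [[0, 0, 0, 0, 0, 0, 0, 0, 0, 0, 0, 0, 0, 0, 0, 0, 0, 0, 0, 0, 0, 0, 0, 0, 0, 0, 0, 0, 0, 0, 0, 0, 0, 0, 0, 0, 0, 0, 0, 0, 0, 0, 0, 0, 0, 0, 0, 0, 0, 0, 0, 0, 0, 0, 0, 0, 0, 0, 0, 0, 0, 0, 0, 0, 0, 0, 0, 0, 0, 0, 0, 0, 0, 0, 0, 0, 0, 0, 0, 0, 0, 0, 0, 0, 0, 0, 0, 0, 0, 1, 0, 0, 0, 0, 0, 0, 0, 0, 0, 0, 0, 0, 0, 0, 0, 0, 0, 0, 0, 0, 0, 0, 0, 0, 0, 0, 0, 0, 0, 0, 0, 0, 0, 0, 0, 0, 0, 0, 0, 0, 0, 1, 0, 0, 0, 0, 0, 0, 0, 0, 0, 0, 0, 0, 0, 0, 0, 0, 0, 0, 0, 0, 0, 0, 0, 0, 0, 0, 0, 0, 0, 0, 0, 0, 0, 0, 0, 0, 0, 0, 0, 0, 0, 0, 0, 0, 0, 0, 0, 0, 0, 0, 0, 0, 0, 0, 0, 0, 0, 0, 0, 0, 0, 0, 0, 0, 0, 0, 0, 0, 0, 0, 0, 0, 0, 0, 0, 0, 0, 0, 0, 0, 0, 0, 0, 0, 0, 0, 0, 0, 0, 0, 0, 0, 0, 0, 0, 0, 0, 0, 0, 0, 0, 0, 0, 0, 0, 0, 0, 0, 0, 0,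 0, 0, 0, 0],
    [0, 0, 0, 0, 0, 0, 0, 0, 0, 0, 0, 0, 0, 0, 0, 0, 0, 0, 0, 0, 0, 0, 0, 0, 0, 0, 0, 0, 0, 0, 0, 0, 0, 0, 0, 0, 0, 0, 0, 0, 0, 0, 0, 0, 0, 0, 0, 0, 0, 0, 0, 0, 0, 0, 0, 0, 0, 0, 0, 0, 0, 0, 0, 0, 0, 0, 0, 0, 0, 0, 0, 0, 0, 0, 0, 0, 0, 0, 0, 0, 0, 0, 0, 0, 0, 0, 0, 0, 0, 0, 0, 0, 0, 0, 0, 0, 0, 0, 0, 0, 0, 0, 0, 0, 0, 0, 0, 0, 0, 0, 0, 0, 0, 0, 0, 0, 1, 0, 0, 0, 0, 0, 0, 0, 0, 0, 0, 0, 0, 0, 0, 0, 0, 0, 0, 0, 0, 0, 0, 0, 0, 0, 0, 0, 0, 0, 0, 0, 0, 0, 0, 0, 0, 0, 0, 0, 0, 0, 0, 0, 0, 0, 0, 0, 1, 0, 0, 0, 0, 0, 0, 0, 0, 0, 0, 0, 0, 0, 0, 0, 0, 0, 0, 0, 0, 0, 0, 0, 0, 0, 0, 0, 0, 0, 0, 0, 0, 0, 0, 0, 0, 0, 0, 0, 0, 0, 0, 0, 0, 0, 0, 0, 0, 0, 0, 0, 0, 0, 0, 0, 0, 0, 0, 0, 0, 0, 0, 0, 0, 0, 0, 0, 0, 0, 0, 0, 0, 0, 0, 0, 0, 0, 0, 0, 0, 0],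
    [0, 0, 0, 0, 0, 0, 0, 0, 0, 0, 0, 0, 0, 0, 0, 0, 0, 0, 0, 0, 0, 0, 0, 0, 0, 0, 0, 0, 0, 0, 0, 0, 0, 0, 0, 0, 0, 0, 0, 0, 0, 0, 0, 0, 0, 0, 0, 0, 0, 0, 0, 0, 0, 0, 0, 0, 0, 0, 0, 0, 0, 0, 0, 0, 0, 0, 0, 0, 0, 0, 0, 0, 0, 0, 0, 0, 0, 0, 0, 0, 0, 0, 0, 0, 0, 0, 0, 0, 0, 0, 0, 0, 0, 0, 0, 0, 0, 0, 0, 0, 0, 0, 0, 0, 0, 0, 0, 0, 0, 0, 0, 0, 0, 0, 0, 0, 0, 0, 0, 0, 0, 0, 0, 0, 0, 0, 0, 0, 0, 0, 0, 0, 0, 0, 0, 0, 0, 0, 0, 0, 0, 0, 0, 0, 0, 0, 1, 0, 0, 0, 0, 0, 0, 0, 0, 0, 0, 0, 0, 0, 0, 0, 0, 1, 0, 0, 0, 0, 0, 0, 0, 0, 0, 0, 0, 0, 0, 0, 0, 0, 0, 0, 0, 0, 0, 0, 0, 0, 0, 0, 0, 0, 0, 0, 0, 0, 0, 0, 0, 0, 0, 0, 0, 0, 0, 0, 0, 0, 0, 0, 0, 0, 0, 0, 0, 0, 0, 0, 0, 0, 0, 0, 0, 0, 0, 0, 0, 0, 0, 0, 0, 0, 0, 0, 0, 0, 0, 0, 0, 0, 0, 0, 0, 0, 0, 0],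
    [0, 0, 0, 0, 0, 0, 0, 0, 0, 0, 0, 0, 0, 0, 0, 0, 0, 0, 0, 0, 0, 0, 0, 0, 0, 0, 0, 0, 0, 0, 0, 0, 0, 0, 0, 0, 0, 0, 0, 0, 0, 0, 0, 0, 0, 0, 0, 0, 0, 0, 0, 0, 0, 0, 0, 0, 0, 0, 0, 0, 0, 0, 0, 0, 0, 0, 0, 0, 0, 0, 0, 0, 0, 0, 0, 0, 0, 0, 0, 0, 0, 0, 0, 0, 0, 0, 0, 0, 0, 0, 0, 0, 0, 0, 0, 0, 0, 0, 0, 0, 0, 0, 0, 0, 0, 0, 0, 0, 0, 0, 0, 0, 0, 0, 0, 0, 0, 0, 0, 0, 0, 0, 0, 0, 0, 0, 0, 0, 0, 0, 0, 0, 0, 0, 0, 0, 0, 0, 0, 0, 0, 0, 0, 0, 0, 0, 0, 0, 0, 0, 1, 0, 0, 0, 0, 0, 0, 0, 0, 0, 0, 0, 0, 0, 0, 0, 0, 1, 0, 0, 0, 0, 0, 0, 0, 0, 0, 0, 0, 0, 0, 0, 0, 0, 0, 0, 0, 0, 0, 0, 0, 0, 0, 0, 0, 0, 0, 0, 0, 0, 0, 0, 0, 0, 0, 0, 0, 0, 0, 0, 0, 0, 0, 0, 0, 0, 0, 0, 0, 0, 0, 0, 0, 0, 0, 0, 0, 0, 0, 0, 0, 0, 0, 0, 0, 0, 0, 0, 0, 0, 0, 0, 0, 0, 0, 0],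
    [0, 0, 0, 0, 0, 0, 0, 0, 0, 0, 0, 0, 0, 0, 0, 0, 0, 0, 0, 0, 0, 0, 0, 0, 0, 0, 0, 0, 0, 0, 0, 0, 0, 0, 0, 0, 0, 0, 0, 0, 0, 0, 0, 0, 0, 0, 0, 0, 0, 0, 0, 0, 0, 0, 0, 0, 0, 0, 0, 0, 0, 0, 0, 0, 0, 0, 0, 0, 0, 0, 0, 0, 0, 0, 0, 0, 0, 0, 0, 0, 0, 0, 0, 0, 0, 0, 0, 0, 0, 0, 0, 0, 0, 0, 0, 0, 0, 0, 0, 0, 0, 0, 0, 0, 0, 0, 0, 0, 0, 0, 0, 0, 0, 0, 0, 0, 0, 0, 0, 0, 0, 0, 0, 0, 0, 0, 0, 0, 0, 0, 0, 0, 0, 0, 0, 0, 0, 0, 0, 0, 0, 0, 0, 0, 0, 0, 0, 0, 1, 0, 0, 1, 0, 0, 0, 0, 0, 0, 0, 0, 0, 0, 0, 0, 0, 0, 0, 0, 0, 0, 0, 0, 0, 0, 0, 0, 0, 0, 0, 0, 0, 0, 0, 0, 0, 0, 0, 0, 0, 0, 0, 0, 0, 0, 0, 0, 0, 0, 0, 0, 0, 0, 0, 0, 0, 0, 0, 0, 0, 0, 0, 0, 0, 0, 0, 0, 0, 0, 0, 0, 0, 0, 0, 0, 0, 0, 0, 0, 0, 0, 0, 0, 0, 0, 0, 0, 0, 0, 0, 0, 0, 0, 0, 0, 0, 0],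
    [0, 0, 0, 0, 0, 0, 0, 0, 0, 0, 0, 0, 0, 0, 0, 0, 0, 0, 0, 0, 0, 0, 0, 0, 0, 0, 0, 0, 0, 0, 0, 0, 0, 0, 0, 0, 0, 0, 0, 0, 0, 0, 0, 0, 0, 0, 0, 0, 0, 0, 0, 0, 0, 0, 0, 0, 0, 0, 0, 0, 0, 0, 0, 0, 0, 0, 0, 0, 0, 0, 0, 0, 0, 0, 0, 0, 0, 0, 0, 0, 0, 0, 0, 0, 0, 0, 0, 0, 0, 0, 0, 0, 0, 0, 0, 0, 0, 0, 0, 0, 0, 0, 0, 0, 0, 0, 0, 0, 0, 0, 0, 0, 0, 0, 0, 0, 0, 0, 0, 0, 0, 0, 0, 0, 0, 0, 0, 0, 0, 0, 0, 0, 0, 0, 0, 0, 0, 0, 0, 0, 0, 0, 0, 0, 0, 0, 0, 0, 0, 0, 0, 0, 0, 0, 0, 0, 0, 0, 0, 0, 0, 0, 0, 0, 0, 1, 0, 0, 1, 0, 0, 0, 0, 0, 0, 0, 0, 0, 0, 0, 0, 0, 0, 0, 0, 0, 0, 0, 0, 0, 0, 0, 0, 0, 0, 0, 0, 0, 0, 0, 0, 0, 0, 0, 0, 0, 0, 0, 0, 0, 0, 0, 0, 0, 0, 0, 0, 0, 0, 0, 0, 0, 0, 0, 0, 0, 0, 0, 0, 0, 0, 0, 0, 0, 0, 0, 0, 0, 0, 0, 0, 0, 0, 0, 0, 0],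
    [0, 0, 0, 0, 0, 0, 0, 0, 0, 0, 0, 0, 0, 0, 0, 0, 0, 0, 0, 0, 0, 0, 0, 0, 0, 1, 0, 1, 0, 0, 0, 0, 1, 0, 1, 1, 0, 0, 0, 0, 0, 0, 0, 0, 0, 0, 0, 0, 0, 0, 0, 0, 0, 0, 0, 0, 0, 0, 0, 0, 0, 0, 0, 0, 0, 0, 0, 0, 0, 0, 0, 0, 0, 0, 0, 0, 0, 0, 0, 0, 0, 0, 0, 0, 0, 0, 0, 0, 0, 0, 0, 0, 0, 0, 0, 0, 0, 0, 0, 0, 0, 0, 0, 0, 0, 0, 0, 0, 0, 0, 0, 0, 0, 0, 0, 0, 0, 0, 0, 0, 0, 0, 0, 0, 0, 0, 0, 0, 0, 0, 0, 0, 0, 0, 0, 0, 0, 0, 0, 0, 0, 0, 0, 0, 0, 0, 0, 0, 0, 0, 0, 0, 0, 0, 0, 0, 0, 0, 0, 0, 0, 0, 0, 0, 0, 0, 0, 0, 0, 0, 0, 0, 0, 0, 0, 0, 0, 0, 0, 0, 0, 0, 0, 0, 0, 0, 0, 0, 0, 0, 0, 0, 0, 0, 0, 0, 0, 0, 0, 0, 0, 0, 0, 0, 0, 0, 0, 0, 0, 0, 0, 0, 0, 0, 0, 0, 0, 0, 0, 0, 0, 0, 0, 0, 0, 0, 0, 0, 0, 0, 0, 0, 0, 0, 0, 0, 0, 0, 0, 0, 0, 0, 0, 0, 0, 0],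
    [0, 0, 0, 0, 0, 0, 0, 0, 0, 0, 0, 0, 0, 0, 0, 0, 0, 0, 0, 0, 0, 0, 1, 0, 0, 0, 0, 1, 0, 1, 0, 0, 0, 0, 1, 1, 0, 0, 0, 0, 0, 0, 0, 0, 0, 0, 0, 0, 0, 0, 0, 0, 0, 0, 0, 0, 0, 0, 0, 0, 0, 0, 0, 0, 0, 0, 0, 0, 0, 0, 0, 0, 0, 0, 0, 0, 0, 0, 0, 0, 0, 0, 0, 0, 0, 0, 0, 0, 0, 0, 0, 0, 0, 0, 0, 0, 0, 0, 0, 0, 0, 0, 0, 0, 0, 0, 0, 0, 0, 0, 0, 0, 0, 0, 0, 0, 0, 0, 0, 0, 0, 0, 0, 0, 0, 0, 0, 0, 0, 0, 0, 0, 0, 0, 0, 0, 0, 0, 0, 0, 0, 0, 0, 0, 0, 0, 0, 0, 0, 0, 0, 0, 0, 0, 0, 0, 0, 0, 0, 0, 0, 0, 0, 0, 0, 0, 0, 0, 0, 0, 0, 0, 0, 0, 0, 0, 0, 0, 0, 0, 0, 0, 0, 0, 0, 0, 0, 0, 0, 0, 0, 0, 0, 0, 0, 0, 0, 0, 0, 0, 0, 0, 0, 0, 0, 0, 0, 0, 0, 0, 0, 0, 0, 0, 0, 0, 0, 0, 0, 0, 0, 0, 0, 0, 0, 0, 0, 0, 0, 0, 0, 0, 0, 0, 0, 0, 0, 0, 0, 0, 0, 0, 0, 0, 0, 0],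
    [0, 0, 0, 0, 0, 0, 0, 0, 0, 0, 0, 0, 0, 0, 0, 0, 0, 0, 0, 0, 0, 0, 0, 0, 0, 0, 1, 0, 1, 0, 0, 0, 0, 0, 1, 0, 0, 0, 0, 0, 0, 0, 0, 0, 0, 0, 0, 0, 0, 0, 0, 0, 0, 0, 0, 0, 0, 0, 0, 0, 0, 0, 0, 0, 0, 0, 0, 0, 0, 0, 0, 0, 0, 0, 0, 0, 0, 0, 0, 0, 0, 0, 0, 0, 0, 0, 0, 0, 0, 0, 0, 0, 0, 0, 0, 0, 0, 0, 0, 0, 0, 0, 0, 0, 0, 0, 0, 0, 0, 0, 0, 0, 0, 0, 0, 0, 0, 0, 0, 0, 0, 0, 0, 0, 0, 0, 0, 0, 0, 0, 0, 0, 0, 0, 0, 0, 0, 0, 0, 0, 0, 0, 0, 0, 0, 0, 0, 0, 0, 0, 0, 0, 0, 0, 0, 0, 0, 0, 0, 0, 0, 0, 0, 0, 0, 0, 0, 0, 0, 0, 0, 0, 0, 0, 0, 0, 0, 0, 0, 0, 0, 0, 0, 0, 0, 0, 0, 0, 0, 0, 0, 0, 0, 0, 0, 0, 0, 0, 0, 0, 0, 0, 0, 0, 0, 0, 0, 0, 0, 0, 0, 0, 0, 0, 0, 0, 0, 0, 0, 0, 0, 0, 0, 0, 0, 0, 0, 0, 0, 0, 0, 0, 0, 0, 0, 0, 0, 0, 0, 0, 0, 0, 0, 0, 0, 0],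
    [0, 0, 0, 0, 0, 0, 0, 0, 0, 0, 0, 0, 0, 0, 0, 0, 0, 0, 0, 0, 0, 0, 0, 0, 0, 0, 0, 0, 0, 0, 0, 0, 0, 0, 0, 0, 0, 0, 0, 0, 0, 0, 0, 0, 0, 0, 0, 0, 0, 0, 0, 0, 0, 0, 0, 0, 0, 0, 0, 0, 0, 0, 0, 0, 0, 0, 0, 0, 0, 0, 0, 0, 0, 0, 0, 0, 0, 0, 0, 0, 0, 0, 0, 0, 0, 0, 0, 0, 0, 0, 0, 0, 0, 0, 0, 0, 0, 0, 0, 0, 0, 0, 0, 0, 0, 0, 0, 0, 0, 0, 0, 0, 1, 0, 0, 0, 0, 0, 0, 1, 0, 0, 0, 0, 0, 0, 0, 0, 0, 0, 0, 0, 0, 0, 0, 0, 0, 0, 0, 0, 0, 0, 0, 0, 0, 0, 0, 0, 0, 0, 0, 0, 0, 0, 0, 0, 0, 0, 0, 0, 1, 0, 0, 0, 0, 0, 0, 1, 0, 0, 1, 0, 0, 0, 0, 0, 0, 0, 0, 0, 0, 0, 0, 0, 0, 0, 0, 0, 0, 0, 0, 0, 0, 0, 0, 0, 0, 0, 0, 0, 0, 0, 0, 0, 0, 0, 0, 0, 0, 0, 0, 0, 0, 0, 0, 0, 0, 0, 0, 0, 0, 0, 0, 0, 0, 0, 0, 0, 0, 0, 0, 0, 0, 0, 0, 0, 0, 0, 0, 0, 0, 0, 0, 0, 0, 0]]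

/-- part of the exponents -/
def twoVecs7 : List (List ℤ) :=
  [[0, 0, 0, 0, 0, 0, 0, 0, 0, 0, 0, 0, 0, 0, 0, 0, 0, 0, 0, 0, 0, 0, 0, 0, 0, 0, 0, 0, 0, 0, 0, 0, 0, 0, 0, 0, 0, 0, 0, 0, 0, 0, 0, 0, 0, 0, 0, 0, 0, 0, 0, 0, 0, 0, 0, 0, 0, 0, 0, 0, 0, 0, 0, 0, 0, 0, 0, 0, 0, 0, 0, 0, 0, 0, 0, 0, 0, 0, 0, 0, 0, 0, 0, 0, 0, 0, 1, 0, 0, 0, 1, 0, 0, 0, 0, 0, 0, 0, 0, 0, 0, 0, 0, 0, 0, 0, 0, 0, 0, 0, 0, 0, 0, 0, 0, 0, 0, 0, 0, 0, 0, 0, 0, 0, 0, 0, 0, 0, 1, 0, 0, 0, 1, 0, 0, 1, 0, 0, 0, 0, 0, 0, 0, 0, 0, 0, 0, 0, 0, 0, 0, 0, 0, 0, 0, 0, 0, 0, 0, 0, 0, 0, 0, 0, 0, 0, 0, 0, 0, 0, 0, 0, 0, 0, 0, 0, 0, 0, 0, 0, 0, 0, 0, 0, 0, 0, 0, 0, 0, 0, 0, 0, 0, 0, 0, 0, 0, 0, 0, 0, 0, 0, 0, 0, 0, 0, 0, 0, 0, 0, 0, 0, 0, 0, 0, 0, 0, 0, 0, 0, 0, 0, 0, 0, 0, 0, 0, 0, 0, 0, 0, 0, 0, 0, 0, 0, 0, 0, 0, 0, 0, 0,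 0, 0, 0, 0],
    [0, 0, 0, 0, 0, 0, 0, 0, 0, 0, 0, 0, 0, 0, 0, 0, 0, 0, 0, 0, 0, 0, 0, 0, 0, 0, 0, 0, 0, 0, 0, 0, 0, 0, 0, 0, 0, 0, 0, 0, 0, 0, 0, 0, 0, 0, 0, 0, 0, 0, 0, 0, 0, 0, 0, 0, 0, 0, 0, 0, 0, 0, 0, 0, 0, 0, 0, 0, 0, 0, 0, 0, 0, 0, 0, 0, 0, 0, 0, 0, 0, 0, 0, 0, 0, 0, 0, 0, 0, 0, 0, 0, 0, 0, 0, 0, 0, 0, 0, 0, 0, 0, 0, 0, 0, 0, 0, 0, 0, 0, 0, 0, 0, 1, 0, 0, 0, 0, 0, 1, 0, 0, 0, 0, 0, 0, 0, 0, 0, 0, 0, 0, 0, 0, 0, 0, 0, 0, 0, 0, 0, 0, 0, 0, 0, 0, 0, 0, 0, 0, 0, 0, 0, 0, 0, 0, 0, 0, 0, 0, 0, 1, 0, 0, 0, 0, 0, 1, 0, 0, 1, 0, 0, 0, 0, 0, 0, 0, 0, 0, 0, 0, 0, 0, 0, 0, 0, 0, 0, 0, 0, 0, 0, 0, 0, 0, 0, 0, 0, 0, 0, 0, 0, 0, 0, 0, 0, 0, 0, 0, 0, 0, 0, 0, 0, 0, 0, 0, 0, 0, 0, 0, 0, 0, 0, 0, 0, 0, 0, 0, 0, 0, 0, 0, 0, 0, 0, 0, 0, 0, 0, 0, 0, 0, 0, 0],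
    [0, 0, 0, 0, 0, 0, 0, 0, 0, 0, 0, 0, 0, 0, 0, 0, 0, 0, 0, 0, 0, 0, 0, 0, 0, 0, 0, 0, 0, 0, 0, 0, 0, 0, 0, 0, 0, 0, 0, 0, 0, 0, 0, 0, 0, 0, 0, 0, 0, 0, 0, 0, 0, 0, 0, 0, 0, 0, 0, 0, 0, 0, 0, 0, 0, 0, 0, 0, 0, 0, 0, 0, 0, 0, 0, 0, 0, 0, 0, 0, 0, 0, 0, 0, 0, 0, 0, 0, 0, 0, 0, 0, 0, 0, 0, 0, 0, 0, 0, 0, 0, 0, 0, 0, 0, 0, 0, 0, 0, 0, 0, 0, 0, 0, 0, 0, 0, 0, 0, 0, 0, 0, 0, 0, 1, 0, 0, 0, 0, 0, 0, 0, 0, 0, 0, 0, 0, 0, 0, 0, 1, 0, 0, 0, 0, 0, 0, 0, 0, 0, 0, 0, 0, 0, 0, 0, 0, 1, 0, 0, 0, 0, 0, 0, 0, 0, 0, 0, 0, 0, 0, 0, 0, 0, 0, 0, 0, 0, 0, 0, 0, 0, 0, 0, 0, 0, 0, 0, 0, 0, 0, 0, 0, 0, 0, 0, 0, 0, 0, 0, 0, 0, 0, 0, 0, 0, 0, 0, 0, 0, 0, 0, 0, 0, 0, 0, 0, 0, 0, 0, 0, 0, 0, 0, 0, 0, 0, 0, 0, 0, 0, 0, 0, 0, 0, 0, 0, 0, 0, 0, 0, 0, 0, 0, 0, 0],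
    [0, 0, 0, 0, 0, 0, 0, 0, 0, 0, 0, 0, 0, 0, 0, 0, 0, 0, 0, 0, 0, 0, 0, 0, 0, 0, 0, 0, 0, 0, 0, 0, 0, 0, 0, 0, 0, 0, 0, 0, 0, 0, 0, 0, 0, 0, 0, 0, 0, 0, 0, 0, 0, 0, 0, 0, 0, 0, 0, 0, 0, 0, 0, 0, 0, 0, 0, 0, 0, 0, 1, 0, 0, 0, 0, 0, 0, 0, 0, 0, 0, 0, 0, 0, 0, 0, 0, 0, 0, 0, 0, 0, 0, 0, 0, 0, 0, 0, 0, 0, 0, 0, 0, 0, 0, 0, 0, 0, 0, 0, 0, 0, 0, 0, 0, 0, 0, 0, 0, 0, 0, 0, 0, 0, 0, 0, 0, 0, 0, 0, 0, 0, 0, 0, 0, 0, 0, 0, 0, 0, 1, 0, 0, 0, 0, 0, 0, 0, 0, 0, 0, 0, 0, 0, 0, 0, 0, 1, 0, 0, 0, 0, 0, 0, 0, 0, 0, 0, 0, 0, 0, 0, 0, 0, 0, 0, 0, 0, 0, 0, 0, 0, 0, 0, 0, 0, 0, 0, 0, 0, 0, 0, 0, 0, 0, 0, 0, 0, 0, 0, 0, 0, 0, 0, 0, 0, 0, 0, 0, 0, 0, 0, 0, 0, 0, 0, 0, 0, 0, 0, 0, 0, 0, 0, 0, 0, 0, 0, 0, 0, 0, 0, 0, 0, 0, 0, 0, 0, 0, 0, 0, 0, 0, 0, 0, 0],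
    [0, 0, 0, 0, 0, 0, 0, 0, 0, 0, 0, 0, 0, 0, 0, 0, 0, 0, 0, 0, 0, 0, 0, 0, 0, 0, 0, 0, 0, 0, 0, 0, 0, 0, 0, 0, 0, 0, 0, 0, 0, 0, 0, 0, 0, 0, 0, 0, 0, 0, 0, 0, 0, 0, 0, 0, 0, 0, 0, 0, 0, 0, 0, 0, 0, 0, 0, 0, 0, 0, 0, 0, 0, 0, 0, 0, 0, 0, 0, 0, 0, 0, 0, 0, 0, 0, 0, 0, 0, 0, 0, 0, 0, 0, 0, 0, 0, 0, 1, 0, 0, 0, 0, 0, 0, 0, 0, 0, 0, 0, 0, 0, 0, 0, 0, 0, 0, 0, 0, 0, 0, 1, 0, 0, 0, 0, 0, 0, 0, 0, 0, 0, 0, 1, 0, 0, 0, 0, 0, 0, 0, 0, 0, 0, 0, 0, 0, 0, 0, 0, 0, 0, 0, 0, 0, 0, 0, 0, 0, 0, 0, 0, 0, 0, 0, 0, 0, 0, 0, 0, 0, 0, 0, 0, 0, 0, 0, 0, 0, 0, 0, 0, 0, 0, 0, 0, 0, 0, 0, 0, 0, 0, 0, 0, 0, 0, 0, 0, 0, 0, 0, 0, 0, 0, 0, 0, 0, 0, 0, 0, 0, 0, 0, 0, 0, 0, 0, 0, 0, 0, 0, 0, 0, 0, 0, 0, 0, 0, 0, 0, 0, 0, 0, 0, 0, 0, 0, 0, 0, 0, 0, 0, 0, 0, 0, 0],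
    [0, 0, 0, 0, 0, 0, 0, 0, 0, 0, 0, 0, 0, 0, 0, 0, 0, 0, 0, 0, 0, 0, 0, 0, 0, 0, 0, 0, 0, 0, 0, 0, 0, 0, 0, 0, 0, 0, 0, 0, 0, 0, 0, 0, 0, 0, 0, 0, 0, 0, 0, 0, 0, 0, 0, 0, 0, 0, 0, 0, 0, 0, 0, 0, 0, 0, 0, 0, 0, 0, 0, 0, 0, 0, 0, 0, 0, 0, 0, 0, 0, 0, 0, 0, 0, 0, 0, 0, 0, 0, 0, 0, 1, 0, 0, 0, 0, 0, 0, 0, 0, 0, 0, 0, 1, 0, 1, 0, 0, 0, 0, 0, 0, 0, 0, 0, 0, 0, 1, 1, 0, 0, 0, 0, 0, 0, 0, 0, 0, 0, 0, 0, 0, 0, 0, 0, 0, 0, 0, 0, 0, 0, 0, 0, 0, 0, 0, 0, 0, 0, 0, 0, 0, 0, 0, 0, 0, 0, 0, 0, 0, 0, 0, 0, 0, 0, 0, 0, 0, 0, 0, 0, 0, 0, 0, 0, 0, 0, 0, 0, 0, 0, 0, 0, 0, 0, 0, 0, 0, 0, 0, 0, 0, 0, 0, 0, 0, 0, 0, 0, 0, 0, 0, 0, 0, 0, 0, 0, 0, 0, 0, 0, 0, 0, 0, 0, 0, 0, 0, 0, 0, 0, 0, 0, 0, 0, 0, 0, 0, 0, 0, 0, 0, 0, 0, 0, 0, 0, 0, 0, 0, 0, 0, 0, 0, 0],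
    [0, 0, 0, 0, 0, 0, 0, 0, 0, 0, 0, 0, 0, 0, 0, 0, 0, 0, 0, 0, 0, 0, 0, 0, 0, 0, 0, 0, 0, 0, 0, 0, 0, 0, 0, 0, 0, 0, 0, 0, 0, 0, 0, 0, 0, 0, 0, 0, 0, 0, 0, 0, 0, 0, 0, 0, 0, 0, 0, 0, 1, 0, 0, 0, 0, 0, 0, 0, 1, 0, 0, 1, 0, 0, 0, 0, 0, 0, 0, 0, 0, 0, 0, 0, 0, 0, 0, 0, 0, 0, 0, 0, 0, 0, 0, 0, 0, 0, 0, 0, 0, 0, 0, 0, 0, 0, 0, 0, 0, 0, 0, 0, 0, 0, 0, 0, 0, 0, 0, 0, 0, 0, 0, 0, 0, 0, 0, 0, 0, 0, 0, 0, 0, 0, 0, 0, 0, 0, 0, 0, 0, 0, 0, 0, 0, 0, 0, 0, 0, 0, 0, 0, 0, 0, 0, 0, 0, 0, 0, 0, 0, 0, 0, 0, 0, 0, 0, 0, 0, 0, 0, 0, 0, 0, 0, 0, 0, 0, 0, 0, 0, 0, 0, 0, 0, 0, 0, 0, 0, 0, 0, 0, 0, 0, 0, 0, 0, 0, 0, 0, 0, 0, 0, 0, 0, 0, 0, 0, 0, 0, 0, 0, 0, 0, 0, 0, 0, 0, 0, 0, 0, 0, 0, 0, 0, 0, 0, 0, 0, 0, 0, 0, 0, 0, 0, 0, 0, 0, 0, 0, 0, 0, 0, 0, 0, 0],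
    [0, 0, 0, 0, 0, 0, 0, 0, 0, 0, 0, 0, 0, 0, 0, 0, 0, 0, 0, 0, 0, 0, 0, 0, 0, 0, 0, 0, 0, 0, 0, 0, 0, 0, 0, 0, 0, 0, 0, 0, 0, 0, 0, 0, 0, 0, 0, 0, 0, 0, 0, 0, 0, 0, 0, 0, 0, 0, 0, 0, 0, 0, 0, 0, 0, 0, 0, 0, 0, 0, 0, 0, 1, 0, 0, 0, 0, 0, 0, 0, 0, 0, 0, 0, 0, 0, 0, 0, 0, 0, 0, 0, 0, 0, 0, 0, 0, 0, 0, 0, 0, 0, 0, 0, 0, 0, 0, 0, 0, 0, 0, 0, 0, 0, 0, 0, 0, 0, 0, 0, 1, 0, 0, 0, 0, 0, 0, 0, 0, 0, 0, 1, 0, 0, 0, 0, 0, 0, 0, 0, 0, 0, 0, 0, 0, 0, 0, 0, 0, 0, 0, 0, 0, 0, 0, 0, 0, 0, 0, 0, 0, 0, 0, 0, 0, 0, 0, 0, 0, 0, 0, 0, 0, 0, 0, 0, 0, 0, 0, 0, 0, 0, 0, 0, 0, 0, 0, 0, 0, 0, 0, 0, 0, 0, 0, 0, 0, 0, 0, 0, 0, 0, 0, 0, 0, 0, 0, 0, 0, 0, 0, 0, 0, 0, 0, 0, 0, 0, 0, 0, 0, 0, 0, 0, 0, 0, 0, 0, 0, 0, 0, 0, 0, 0, 0, 0, 0, 0, 0, 0, 0, 0, 0, 0, 0, 0],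
    [0, 0, 0, 0, 0, 0, 0, 0, 0, 0, 0, 0, 0, 0, 0, 0, 0, 0, 0, 0, 0, 0, 0, 0, 0, 0, 0, 0, 0, 0, 0, 0, 0, 0, 0, 0, 0, 0, 0, 0, 0, 0, 0, 0, 0, 0, 0, 0, 0, 0, 0, 0, 0, 0, 0, 0, 0, 0, 0, 0, 0, 0, 0, 0, 0, 0, 0, 0, 0, 0, 0, 0, 0, 0, 0, 1, 0, 0, 0, 0, 0, 0, 0, 0, 0, 0, 0, 0, 0, 0, 0, 0, 0, 0, 0, 0, 0, 0, 0, 0, 0, 0, 0, 0, 0, 0, 0, 0, 0, 0, 0, 0, 0, 0, 0, 0, 0, 0, 0, 0, 0, 0, 0, 0, 0, 0, 0, 0, 0, 0, 0, 0, 0, 0, 0, 0, 0, 0, 0, 0, 0, 0, 0, 0, 0, 1, 0, 0, 0, 0, 0, 0, 0, 0, 0, 0, 0, 0, 0, 0, 0, 0, 1, 0, 0, 0, 0, 0, 0, 0, 0, 0, 0, 0, 0, 0, 0, 0, 0, 0, 0, 0, 0, 0, 0, 0, 0, 0, 0, 0, 0, 0, 0, 0, 0, 0, 0, 0, 0, 0, 0, 0, 0, 0, 0, 0, 0, 0, 0, 0, 0, 0, 0, 0, 0, 0, 0, 0, 0, 0, 0, 0, 0, 0, 0, 0, 0, 0, 0, 0, 0, 0, 0, 0, 0, 0, 0, 0, 0, 0, 0, 0, 0, 0, 0, 0],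
    [0, 0, 0, 0, 0, 0, 0, 0, 0, 0, 0, 0, 0, 0, 0, 0, 0, 0, 0, 0, 0, 0, 0, 0, 0, 0, 0, 0, 0, 0, 0, 0, 0, 0, 0, 0, 0, 0, 0, 0, 0, 0, 0, 0, 0, 0, 0, 0, 0, 0, 0, 0, 0, 0, 0, 0, 0, 0, 0, 0, 0, 0, 0, 0, 0, 0, 0, 0, 0, 0, 0, 0, 0, 0, 0, 0, 1, 0, 0, 0, 0, 0, 0, 0, 0, 0, 0, 0, 0, 0, 0, 0, 0, 0, 0, 0, 0, 0, 0, 0, 0, 0, 0, 0, 0, 0, 0, 0, 0, 0, 0, 0, 0, 0, 0, 0, 0, 0, 0, 0, 0, 0, 0, 0, 0, 0, 0, 0, 0, 0, 0, 0, 0, 0, 0, 0, 0, 0, 0, 0, 0, 0, 0, 0, 0, 0, 1, 0, 0, 0, 0, 0, 0, 0, 0, 0, 0, 0, 0, 0, 0, 0, 0, 1, 0, 0, 0, 0, 0, 0, 0, 0, 0, 0, 0, 0, 0, 0, 0, 0, 0, 0, 0, 0, 0, 0, 0, 0, 0, 0, 0, 0, 0, 0, 0, 0, 0, 0, 0, 0, 0, 0, 0, 0, 0, 0, 0, 0, 0, 0, 0, 0, 0, 0, 0, 0, 0, 0, 0, 0, 0, 0, 0, 0, 0, 0, 0, 0, 0, 0, 0, 0, 0, 0, 0, 0, 0, 0, 0, 0, 0, 0, 0, 0, 0, 0]]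

/-- part of the exponents -/
def twoVecs8 : List (List ℤ) :=
  [[0, 0, 0, 0, 0, 0, 0, 0, 0, 0, 0, 0, 0, 0, 0, 0, 0, 0, 0, 0, 0, 0, 0, 0, 0, 0, 0, 0, 0, 0, 0, 0, 0, 0, 0, 0, 0, 0, 0, 0, 0, 0, 0, 0, 0, 0, 0, 0, 0, 0, 0, 0, 0, 0, 0, 0, 0, 0, 0, 0, 0, 0, 0, 0, 0, 0, 0, 0, 0, 0, 0, 0, 0, 0, 0, 0, 0, 0, 0, 0, 0, 0, 0, 0, 0, 0, 0, 0, 0, 0, 0, 0, 0, 0, 0, 0, 0, 0, 0, 0, 0, 1, 0, 0, 1, 0, 0, 0, 0, 0, 0, 0, 0, 0, 0, 1, 0, 0, 1, 1, 0, 0, 0, 0, 0, 0, 0, 0, 0, 0, 0, 0, 0, 0, 0, 0, 0, 0, 0, 0, 0, 0, 0, 0, 0, 0, 0, 0, 0, 0, 0, 0, 0, 0, 0, 0, 0, 0, 0, 0, 0, 0, 0, 0, 0, 0, 0, 0, 0, 0, 0, 0, 0, 0, 0, 0, 0, 0, 0, 0, 0, 0, 0, 0, 0, 0, 0, 0, 0, 0, 0, 0, 0, 0, 0, 0, 0, 0, 0, 0, 0, 0, 0, 0, 0, 0, 0, 0, 0, 0, 0, 0, 0, 0, 0, 0, 0, 0, 0, 0, 0, 0, 0, 0, 0, 0, 0, 0, 0, 0, 0, 0, 0, 0, 0, 0, 0, 0, 0, 0, 0, 0,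 0, 0, 0, 0],
    [0, 0, 0, 0, 0, 0, 0, 0, 0, 0, 0, 0, 0, 0, 0, 0, 0, 0, 0, 0, 0, 0, 0, 0, 0, 0, 0, 0, 0, 0, 0, 0, 0, 0, 0, 0, 0, 0, 0, 0, 0, 0, 0, 0, 0, 0, 0, 0, 0, 0, 0, 0, 0, 0, 0, 0, 0, 0, 0, 0, 0, 0, 0, 0, 0, 0, 0, 0, 0, 0, 0, 0, 0, 0, 0, 0, 0, 0, 0, 0, 0, 0, 0, 0, 0, 0, 0, 0, 0, 0, 0, 0, 0, 0, 0, 0, 0, 0, 0, 0, 0, 0, 0, 0, 0, 0, 0, 0, 0, 0, 0, 0, 0, 0, 0, 0, 0, 0, 0, 0, 1, 0, 0, 0, 0, 0, 0, 0, 0, 0, 0, 0, 0, 0, 0, 0, 1, 0, 0, 0, 0, 0, 0, 0, 0, 0, 0, 0, 0, 0, 0, 0, 0, 1, 0, 0, 0, 0, 0, 0, 0, 0, 0, 0, 0, 0, 0, 0, 0, 0, 0, 0, 0, 0, 0, 0, 0, 0, 0, 0, 0, 0, 0, 0, 0, 0, 0, 0, 0, 0, 0, 0, 0, 0, 0, 0, 0, 0, 0, 0, 0, 0, 0, 0, 0, 0, 0, 0, 0, 0, 0, 0, 0, 0, 0, 0, 0, 0, 0, 0, 0, 0, 0, 0, 0, 0, 0, 0, 0, 0, 0, 0, 0, 0, 0, 0, 0, 0, 0, 0, 0, 0, 0, 0, 0, 0],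
    [0, 0, 0, 0, 0, 0, 0, 0, 0, 0, 0, 0, 0, 0, 0, 0, 0, 0, 0, 0, 0, 0, 0, 0, 0, 0, 0, 0, 0, 0, 0, 0, 0, 0, 0, 0, 0, 0, 0, 0, 0, 0, 0, 0, 0, 0, 0, 0, 0, 0, 0, 0, 0, 0, 0, 0, 0, 0, 0, 0, 0, 0, 0, 0, 0, 0, 0, 0, 0, 0, 0, 0, 0, 0, 0, 0, 0, 0, 0, 0, 0, 0, 0, 0, 0, 0, 0, 0, 0, 0, 0, 0, 0, 0, 0, 0, 0, 0, 0, 0, 0, 0, 0, 0, 0, 0, 0, 0, 0, 0, 0, 0, 0, 0, 0, 0, 0, 0, 0, 0, 0, 0, 0, 0, 0, 0, 0, 0, 0, 1, 0, 0, 0, 0, 0, 0, 0, 0, 0, 0, 0, 0, 0, 0, 0, 1, 0, 0, 0, 0, 0, 0, 0, 0, 0, 0, 0, 0, 0, 0, 0, 0, 1, 0, 0, 0, 0, 0, 0, 0, 0, 0, 0, 0, 0, 0, 0, 0, 0, 0, 0, 0, 0, 0, 0, 0, 0, 0, 0, 0, 0, 0, 0, 0, 0, 0, 0, 0, 0, 0, 0, 0, 0, 0, 0, 0, 0, 0, 0, 0, 0, 0, 0, 0, 0, 0, 0, 0, 0, 0, 0, 0, 0, 0, 0, 0, 0, 0, 0, 0, 0, 0, 0, 0, 0, 0, 0, 0, 0, 0, 0, 0, 0, 0, 0, 0],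
    [0, 0, 0, 0, 0, 0, 0, 0, 0, 0, 0, 0, 0, 0, 0, 0, 0, 0, 0, 0, 0, 0, 0, 0, 0, 0, 0, 0, 0, 0, 0, 0, 0, 0, 0, 0, 0, 0, 0, 0, 0, 0, 0, 0, 0, 0, 0, 0, 0, 0, 0, 0, 0, 0, 0, 0, 0, 0, 0, 0, 0, 0, 0, 0, 0, 0, 0, 0, 0, 0, 0, 0, 0, 0, 0, 0, 0, 0, 0, 0, 0, 0, 0, 0, 0, 0, 0, 0, 0, 0, 0, 0, 0, 0, 0, 0, 0, 0, 0, 0, 0, 0, 0, 0, 0, 0, 0, 0, 0, 0, 0, 0, 0, 0, 0, 0, 0, 0, 0, 0, 0, 0, 0, 0, 0, 0, 0, 0, 0, 0, 0, 0, 0, 1, 0, 0, 0, 0, 0, 0, 0, 0, 0, 0, 0, 0, 0, 0, 0, 0, 0, 0, 0, 0, 0, 0, 0, 0, 0, 0, 0, 0, 1, 0, 0, 0, 0, 0, 1, 0, 0, 0, 0, 0, 0, 0, 0, 0, 0, 0, 0, 0, 0, 0, 0, 0, 0, 0, 0, 0, 0, 0, 0, 0, 0, 0, 0, 0, 0, 0, 0, 0, 0, 0, 0, 0, 0, 0, 0, 0, 0, 0, 0, 0, 0, 0, 0, 0, 0, 0, 0, 0, 0, 0, 0, 0, 0, 0, 0, 0, 0, 0, 0, 0, 0, 0, 0, 0, 0, 0, 0, 0, 0, 0, 0, 0],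
    [0, 0, 0, 0, 0, 0, 0, 0, 0, 0, 0, 0, 0, 0, 0, 0, 0, 0, 0, 0, 0, 0, 0, 0, 0, 0, 0, 0, 0, 0, 0, 0, 0, 0, 0, 0, 0, 0, 0, 0, 0, 0, 0, 0, 0, 0, 0, 0, 0, 0, 0, 0, 0, 0, 0, 0, 0, 0, 0, 0, 0, 0, 0, 0, 0, 0, 0, 0, 0, 0, 0, 0, 0, 0, 0, 0, 0, 0, 0, 0, 0, 0, 0, 0, 0, 0, 0, 0, 0, 0, 0, 0, 0, 0, 0, 0, 0, 0, 0, 0, 0, 0, 0, 0, 0, 0, 0, 0, 0, 0, 0, 0, 0, 0, 0, 0, 0, 0, 0, 0, 0, 0, 0, 0, 0, 0, 1, 0, 0, 0, 0, 0, 0, 0, 0, 0, 0, 0, 0, 0, 0, 0, 0, 0, 0, 0, 0, 0, 0, 0, 0, 0, 0, 0, 0, 0, 0, 1, 0, 0, 0, 0, 0, 0, 0, 0, 0, 0, 1, 0, 0, 0, 0, 0, 0, 0, 0, 0, 0, 0, 0, 0, 0, 0, 0, 0, 0, 0, 0, 0, 0, 0, 0, 0, 0, 0, 0, 0, 0, 0, 0, 0, 0, 0, 0, 0, 0, 0, 0, 0, 0, 0, 0, 0, 0, 0, 0, 0, 0, 0, 0, 0, 0, 0, 0, 0, 0, 0, 0, 0, 0, 0, 0, 0, 0, 0, 0, 0, 0, 0, 0, 0, 0, 0, 0, 0],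
    [0, 0, 0, 0, 0, 0, 0, 0, 0, 0, 0, 0, 0, 0, 0, 0, 0, 0, 0, 0, 0, 0, 0, 0, 0, 0, 0, 0, 0, 0, 0, 0, 0, 0, 0, 0, 0, 0, 0, 0, 0, 0, 0, 0, 0, 0, 0, 0, 0, 0, 0, 0, 0, 0, 0, 0, 0, 0, 0, 0, 0, 0, 0, 0, 0, 0, 0, 0, 0, 0, 0, 0, 0, 0, 0, 0, 0, 0, 0, 0, 0, 0, 0, 0, 0, 0, 0, 0, 0, 0, 0, 0, 0, 0, 0, 0, 0, 0, 0, 0, 0, 0, 0, 0, 0, 0, 0, 0, 0, 0, 0, 0, 0, 0, 0, 0, 0, 0, 0, 0, 0, 0, 0, 0, 0, 0, 0, 0, 0, 0, 0, 0, 0, 0, 1, 0, 0, 0, 0, 0, 0, 0, 0, 0, 0, 0, 0, 0, 0, 0, 0, 0, 0, 0, 0, 0, 0, 0, 0, 0, 0, 0, 0, 1, 0, 0, 0, 0, 1, 0, 0, 0, 0, 0, 0, 0, 0, 0, 0, 0, 0, 0, 0, 0, 0, 0, 0, 0, 0, 0, 0, 0, 0, 0, 0, 0, 0, 0, 0, 0, 0, 0, 0, 0, 0, 0, 0, 0, 0, 0, 0, 0, 0, 0, 0, 0, 0, 0, 0, 0, 0, 0, 0, 0, 0, 0, 0, 0, 0, 0, 0, 0, 0, 0, 0, 0, 0, 0, 0, 0, 0, 0, 0, 0, 0, 0],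
    [0, 0, 0, 0, 0, 0, 1, 0, 0, 0, 0, 0, 0, 0, 0, 0, 1, 0, 1, 0, 0, 0, 0, 0, 0, 0, 0, 0, 0, 0, 0, 0, 0, 0, 1, 0, 0, 0, 0, 0, 0, 0, 0, 0, 0, 0, 0, 0, 0, 0, 0, 0, 0, 0, 0, 0, 0, 0, 0, 0, 0, 0, 0, 0, 0, 0, 0, 0, 0, 0, 0, 0, 0, 0, 0, 0, 0, 0, 0, 0, 0, 0, 0, 0, 0, 0, 0, 0, 0, 0, 0, 0, 0, 0, 0, 0, 0, 0, 0, 0, 0, 0, 0, 0, 0, 0, 0, 0, 0, 0, 0, 0, 0, 0, 0, 0, 0, 0, 0, 0, 0, 0, 0, 0, 0, 0, 0, 0, 0, 0, 0, 0, 0, 0, 0, 0, 0, 0, 0, 0, 0, 0, 0, 0, 0, 0, 0, 0, 0, 0, 0, 0, 0, 0, 0, 0, 0, 0, 0, 0, 0, 0, 0, 0, 0, 0, 0, 0, 0, 0, 0, 0, 0, 0, 0, 0, 0, 0, 0, 0, 0, 0, 0, 0, 0, 0, 0, 0, 0, 0, 0, 0, 0, 0, 0, 0, 0, 0, 0, 0, 0, 0, 0, 0, 0, 0, 0, 0, 0, 0, 0, 0, 0, 0, 0, 0, 0, 0, 0, 0, 0, 0, 0, 0, 0, 0, 0, 0, 0, 0, 0, 0, 0, 0, 0, 0, 0, 0, 0, 0, 0, 0, 0, 0, 0, 0],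
    [0, 0, 0, 0, 0, 0, 0, 0, 0, 0, 0, 0, 0, 0, 0, 0, 0, 0, 0, 0, 0, 0, 0, 0, 0, 0, 0, 0, 0, 0, 0, 0, 0, 0, 0, 0, 0, 0, 0, 0, 0, 0, 0, 0, 0, 0, 0, 0, 0, 0, 0, 0, 0, 0, 0, 0, 0, 0, 0, 0, 0, 0, 0, 0, 0, 0, 0, 0, 0, 0, 0, 0, 0, 0, 0, 0, 0, 0, 0, 0, 0, 0, 0, 0, 0, 0, 0, 0, 0, 0, 0, 0, 0, 0, 0, 0, 0, 0, 1, 0, 0, 0, 0, 0, 0, 0, 0, 0, 0, 0, 0, 0, 0, 0, 0, 0, 0, 0, 0, 0, 0, 0, 0, 1, 0, 0, 0, 1, 0, 0, 0, 0, 0, 0, 0, 0, 0, 0, 0, 0, 0, 0, 0, 0, 0, 0, 0, 0, 0, 0, 0, 0, 0, 0, 0, 0, 0, 0, 0, 0, 0, 0, 0, 0, 0, 0, 0, 0, 1, 0, 0, 0, 0, 0, 0, 0, 0, 0, 0, 0, 0, 0, 0, 0, 0, 0, 0, 0, 0, 0, 0, 0, 0, 0, 0, 0, 0, 0, 0, 0, 0, 0, 0, 0, 0, 0, 0, 0, 0, 0, 0, 0, 0, 0, 0, 0, 0, 0, 0, 0, 0, 0, 0, 0, 0, 0, 0, 0, 0, 0, 0, 0, 0, 0, 0, 0, 0, 0, 0, 0, 0, 0, 0, 0, 0, 0],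
    [0, 0, 0, 0, 0, 0, 0, 0, 0, 0, 0, 0, 0, 0, 0, 0, 0, 0, 0, 0, 0, 0, 0, 0, 0, 0, 0, 0, 0, 0, 0, 0, 0, 0, 0, 0, 0, 0, 0, 0, 0, 0, 0, 0, 0, 0, 0, 0, 0, 0, 0, 0, 0, 0, 0, 0, 0, 0, 0, 0, 0, 0, 0, 0, 0, 0, 0, 0, 0, 0, 0, 0, 0, 0, 0, 0, 0, 0, 0, 0, 0, 0, 0, 0, 0, 0, 0, 0, 0, 0, 0, 0, 0, 0, 0, 0, 0, 0, 0, 0, 0, 0, 0, 0, 0, 0, 0, 0, 0, 0, 0, 0, 0, 0, 0, 1, 0, 0, 0, 0, 0, 0, 0, 0, 0, 0, 0, 0, 0, 0, 1, 0, 0, 0, 0, 0, 0, 0, 0, 0, 0, 0, 0, 0, 0, 0, 1, 0, 0, 0, 0, 0, 0, 0, 0, 0, 0, 0, 0, 0, 0, 0, 0, 1, 0, 0, 0, 0, 0, 0, 0, 0, 0, 0, 0, 0, 0, 0, 0, 0, 0, 0, 0, 0, 0, 0, 0, 0, 0, 0, 0, 0, 0, 0, 0, 0, 0, 0, 0, 0, 0, 0, 0, 0, 0, 0, 0, 0, 0, 0, 0, 0, 0, 0, 0, 0, 0, 0, 0, 0, 0, 0, 0, 0, 0, 0, 0, 0, 0, 0, 0, 0, 0, 0, 0, 0, 0, 0, 0, 0, 0, 0, 0, 0, 0, 0],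
    [0, 0, 0, 0, 0, 0, 0, 0, 0, 0, 0, 0, 0, 0, 0, 0, 0, 0, 0, 0, 0, 0, 0, 0, 0, 0, 0, 0, 0, 0, 0, 0, 0, 0, 0, 0, 0, 0, 0, 0, 0, 0, 0, 0, 0, 0, 0, 0, 0, 0, 0, 0, 0, 0, 0, 0, 0, 0, 0, 0, 0, 0, 0, 0, 0, 0, 0, 0, 0, 0, 0, 0, 0, 0, 0, 0, 0, 0, 0, 0, 0, 0, 0, 0, 0, 0, 0, 0, 0, 0, 0, 0, 0, 0, 0, 0, 0, 0, 0, 0, 0, 0, 0, 0, 0, 0, 0, 0, 0, 0, 0, 1, 0, 0, 0, 0, 0, 0, 0, 0, 0, 1, 0, 0, 0, 0, 1, 0, 0, 0, 0, 0, 0, 0, 0, 0, 0, 0, 0, 0, 0, 0, 0, 0, 0, 0, 0, 0, 0, 0, 0, 0, 0, 0, 0, 0, 0, 0, 0, 0, 0, 0, 0, 0, 0, 0, 0, 0, 1, 0, 0, 0, 0, 0, 0, 0, 0, 0, 0, 0, 0, 0, 0, 0, 0, 0, 0, 0, 0, 0, 0, 0, 0, 0, 0, 0, 0, 0, 0, 0, 0, 0, 0, 0, 0, 0, 0, 0, 0, 0, 0, 0, 0, 0, 0, 0, 0, 0, 0, 0, 0, 0, 0, 0, 0, 0, 0, 0, 0, 0, 0, 0, 0, 0, 0, 0, 0, 0, 0, 0, 0, 0, 0, 0, 0, 0]]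

/-- part of the exponents -/
def twoVecs9 : List (List ℤ) :=
  [[0, 0, 0, 0, 0, 0, 0, 0, 0, 0, 0, 0, 0, 0, 0, 0, 0, 0, 1, 0, 0, 0, 0, 1, 0, 0, 1, 0, 0, 0, 0, 0, 0, 1, 1, 0, 0, 0, 0, 0, 0, 0, 0, 0, 0, 0, 0, 0, 0, 0, 0, 0, 0, 0, 0, 0, 0, 0, 0, 0, 0, 0, 0, 0, 0, 0, 0, 0, 0, 0, 0, 0, 0, 0, 0, 0, 0, 0, 0, 0, 0, 0, 0, 0, 0, 0, 0, 0, 0, 0, 0, 0, 0, 0, 0, 0, 0, 0, 0, 0, 0, 0, 0, 0, 0, 0, 0, 0, 0, 0, 0, 0, 0, 0, 0, 0, 0, 0, 0, 0, 0, 0, 0, 0, 0, 0, 0, 0, 0, 0, 0, 0, 0, 0, 0, 0, 0, 0, 0, 0, 0, 0, 0, 0, 0, 0, 0, 0, 0, 0, 0, 0, 0, 0, 0, 0, 0, 0, 0, 0, 0, 0, 0, 0, 0, 0, 0, 0, 0, 0, 0, 0, 0, 0, 0, 0, 0, 0, 0, 0, 0, 0, 0, 0, 0, 0, 0, 0, 0, 0, 0, 0, 0, 0, 0, 0, 0, 0, 0, 0, 0, 0, 0, 0, 0, 0, 0, 0, 0, 0, 0, 0, 0, 0, 0, 0, 0, 0, 0, 0, 0, 0, 0, 0, 0, 0, 0, 0, 0, 0, 0, 0, 0, 0, 0, 0, 0, 0, 0, 0, 0, 0,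 0, 0, 0, 0],
    [0, 0, 0, 0, 0, 0, 0, 0, 0, 0, 0, 0, 0, 0, 0, 0, 0, 0, 0, 0, 0, 0, 0, 0, 0, 0, 0, 0, 0, 0, 0, 0, 0, 0, 0, 0, 0, 0, 0, 0, 0, 0, 0, 0, 0, 0, 0, 0, 0, 0, 0, 0, 0, 0, 0, 0, 0, 0, 0, 0, 0, 0, 0, 0, 0, 0, 0, 0, 0, 0, 0, 0, 0, 0, 0, 0, 0, 0, 0, 0, 0, 0, 0, 0, 0, 0, 0, 0, 0, 0, 0, 0, 0, 0, 0, 0, 0, 0, 0, 0, 0, 0, 0, 0, 0, 0, 0, 0, 0, 0, 0, 0, 0, 0, 1, 0, 0, 0, 0, 0, 0, 0, 0, 0, 0, 0, 0, 0, 1, 0, 0, 0, 0, 0, 1, 0, 0, 0, 0, 0, 0, 0, 0, 0, 0, 0, 0, 0, 0, 0, 0, 0, 0, 0, 0, 0, 0, 0, 0, 0, 0, 0, 1, 0, 0, 0, 0, 0, 1, 0, 0, 0, 0, 0, 0, 0, 0, 0, 0, 0, 0, 0, 0, 0, 0, 0, 0, 0, 0, 0, 0, 0, 0, 0, 0, 0, 0, 0, 0, 0, 0, 0, 0, 0, 0, 0, 0, 0, 0, 0, 0, 0, 0, 0, 0, 0, 0, 0, 0, 0, 0, 0, 0, 0, 0, 0, 0, 0, 0, 0, 0, 0, 0, 0, 0, 0, 0, 0, 0, 0, 0, 0, 0, 0, 0, 0],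
    [0, 0, 0, 0, 0, 0, 0, 0, 0, 0, 0, 0, 0, 0, 0, 0, 0, 0, 0, 0, 0, 0, 0, 0, 0, 0, 0, 0, 0, 0, 0, 0, 0, 0, 0, 0, 0, 0, 0, 0, 0, 0, 0, 0, 0, 0, 0, 0, 0, 0, 0, 0, 0, 0, 0, 0, 0, 0, 0, 0, 0, 0, 0, 0, 0, 0, 0, 1, 0, 0, 0, 0, 0, 0, 0, 0, 0, 0, 0, 0, 0, 0, 0, 0, 0, 0, 0, 0, 0, 0, 0, 1, 0, 0, 0, 0, 0, 0, 0, 0, 0, 0, 1, 0, 0, 1, 0, 0, 0, 0, 0, 0, 0, 0, 0, 0, 1, 0, 0, 0, 0, 0, 0, 0, 0, 0, 0, 0, 0, 0, 0, 0, 0, 0, 0, 0, 0, 0, 0, 0, 0, 0, 0, 0, 0, 0, 0, 0, 0, 0, 0, 0, 0, 0, 0, 0, 0, 0, 0, 0, 0, 0, 0, 0, 0, 0, 0, 0, 0, 0, 0, 0, 0, 0, 0, 0, 0, 0, 0, 0, 0, 0, 0, 0, 0, 0, 0, 0, 0, 0, 0, 0, 0, 0, 0, 0, 0, 0, 0, 0, 0, 0, 0, 0, 0, 0, 0, 0, 0, 0, 0, 0, 0, 0, 0, 0, 0, 0, 0, 0, 0, 0, 0, 0, 0, 0, 0, 0, 0, 0, 0, 0, 0, 0, 0, 0, 0, 0, 0, 0, 0, 0, 0, 0, 0, 0],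
    [0, 0, 0, 0, 0, 0, 0, 0, 0, 0, 0, 0, 0, 0, 0, 0, 0, 0, 0, 0, 0, 0, 0, 0, 0, 0, 0, 0, 0, 0, 0, 0, 0, 0, 0, 0, 0, 0, 0, 0, 0, 0, 0, 0, 0, 0, 0, 0, 0, 0, 0, 0, 0, 0, 0, 0, 0, 0, 0, 0, 0, 0, 1, 0, 0, 0, 0, 0, 0, 0, 0, 0, 0, 0, 0, 0, 0, 0, 0, 0, 0, 0, 0, 0, 0, 0, 0, 0, 0, 0, 0, 0, 0, 0, 0, 0, 0, 0, 0, 0, 0, 0, 0, 0, 0, 0, 0, 0, 0, 0, 0, 0, 0, 0, 0, 0, 0, 0, 0, 0, 0, 0, 1, 0, 0, 0, 0, 1, 0, 0, 0, 0, 0, 0, 0, 0, 0, 0, 0, 0, 0, 0, 0, 0, 0, 0, 0, 0, 0, 0, 0, 1, 0, 0, 0, 0, 0, 0, 0, 0, 0, 0, 0, 0, 0, 0, 0, 0, 1, 0, 0, 0, 0, 0, 0, 0, 0, 0, 0, 0, 0, 0, 0, 0, 0, 0, 0, 0, 0, 0, 0, 0, 0, 0, 0, 0, 0, 0, 0, 0, 0, 0, 0, 0, 0, 0, 0, 0, 0, 0, 0, 0, 0, 0, 0, 0, 0, 0, 0, 0, 0, 0, 0, 0, 0, 0, 0, 0, 0, 0, 0, 0, 0, 0, 0, 0, 0, 0, 0, 0, 0, 0, 0, 0, 0, 0],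
    [0, 0, 0, 0, 0, 0, 0, 0, 0, 0, 0, 0, 0, 0, 0, 0, 0, 0, 0, 0, 0, 0, 0, 0, 0, 0, 0, 0, 0, 0, 0, 0, 0, 0, 0, 0, 0, 0, 0, 0, 0, 0, 0, 0, 0, 0, 0, 0, 0, 0, 0, 0, 0, 0, 0, 0, 0, 0, 0, 0, 0, 0, 0, 0, 0, 0, 0, 0, 0, 0, 0, 0, 0, 0, 0, 0, 0, 0, 0, 0, 0, 0, 0, 0, 0, 0, 0, 0, 0, 0, 0, 0, 0, 0, 0, 0, 0, 0, 0, 0, 0, 0, 0, 0, 0, 0, 0, 0, 0, 0, 0, 0, 0, 0, 0, 0, 0, 0, 0, 0, 0, 0, 0, 0, 0, 0, 0, 0, 0, 0, 0, 0, 1, 0, 0, 0, 0, 0, 0, 0, 0, 0, 0, 0, 0, 1, 0, 0, 0, 0, 0, 1, 0, 0, 0, 0, 0, 0, 0, 0, 0, 0, 1, 0, 0, 0, 0, 0, 1, 0, 0, 0, 0, 0, 0, 0, 0, 0, 0, 0, 0, 0, 0, 0, 0, 0, 0, 0, 0, 0, 0, 0, 0, 0, 0, 0, 0, 0, 0, 0, 0, 0, 0, 0, 0, 0, 0, 0, 0, 0, 0, 0, 0, 0, 0, 0, 0, 0, 0, 0, 0, 0, 0, 0, 0, 0, 0, 0, 0, 0, 0, 0, 0, 0, 0, 0, 0, 0, 0, 0, 0, 0, 0, 0, 0, 0],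
    [0, 0, 0, 0, 0, 0, 0, 0, 0, 0, 0, 0, 0, 0, 0, 0, 0, 0, 0, 0, 0, 0, 0, 0, 0, 0, 0, 0, 0, 0, 0, 0, 0, 0, 0, 0, 0, 0, 0, 0, 0, 0, 0, 0, 0, 0, 0, 0, 0, 0, 0, 0, 0, 0, 0, 0, 0, 0, 0, 0, 0, 0, 0, 0, 0, 0, 0, 0, 0, 0, 0, 0, 0, 0, 0, 0, 0, 0, 0, 0, 0, 0, 0, 0, 0, 0, 0, 0, 0, 0, 0, 0, 0, 0, 0, 0, 0, 0, 0, 0, 0, 0, 0, 0, 0, 0, 0, 0, 0, 0, 0, 0, 0, 0, 0, 0, 0, 0, 0, 0, 0, 1, 0, 0, 0, 0, 0, 0, 0, 0, 0, 0, 0, 0, 0, 0, 0, 1, 0, 0, 0, 0, 0, 0, 0, 0, 0, 0, 0, 0, 0, 0, 0, 0, 1, 0, 0, 0, 0, 0, 0, 0, 0, 0, 0, 0, 0, 0, 0, 1, 1, 0, 0, 0, 0, 0, 0, 0, 0, 0, 0, 0, 0, 0, 0, 0, 0, 0, 0, 0, 0, 0, 0, 0, 0, 0, 0, 0, 0, 0, 0, 0, 0, 0, 0, 0, 0, 0, 0, 0, 0, 0, 0, 0, 0, 0, 0, 0, 0, 0, 0, 0, 0, 0, 0, 0, 0, 0, 0, 0, 0, 0, 0, 0, 0, 0, 0, 0, 0, 0, 0, 0, 0, 0, 0, 0],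
    [0, 0, 0, 0, 0, 0, 0, 0, 0, 0, 0, 0, 0, 0, 0, 0, 0, 0, 0, 0, 0, 0, 0, 0, 0, 0, 0, 0, 0, 0, 0, 0, 0, 0, 0, 0, 0, 0, 0, 0, 0, 0, 0, 0, 0, 0, 0, 0, 0, 0, 0, 0, 0, 0, 0, 0, 0, 0, 0, 0, 0, 0, 0, 0, 0, 0, 0, 0, 0, 0, 0, 0, 0, 0, 0, 0, 0, 0, 0, 0, 0, 0, 0, 0, 0, 0, 0, 0, 0, 0, 0, 0, 0, 0, 0, 0, 0, 0, 0, 0, 1, 1, 0, 0, 0, 0, 0, 0, 0, 0, 0, 0, 0, 0, 1, 0, 0, 0, 1, 0, 0, 0, 0, 0, 0, 0, 0, 0, 0, 0, 0, 0, 0, 0, 0, 0, 0, 0, 0, 0, 0, 0, 0, 0, 0, 0, 0, 0, 0, 0, 0, 0, 0, 0, 0, 0, 0, 0, 0, 0, 0, 0, 0, 0, 0, 0, 0, 0, 0, 0, 0, 0, 0, 0, 0, 0, 0, 0, 0, 0, 0, 0, 0, 0, 0, 0, 0, 0, 0, 0, 0, 0, 0, 0, 0, 0, 0, 0, 0, 0, 0, 0, 0, 0, 0, 0, 0, 0, 0, 0, 0, 0, 0, 0, 0, 0, 0, 0, 0, 0, 0, 0, 0, 0, 0, 0, 0, 0, 0, 0, 0, 0, 0, 0, 0, 0, 0, 0, 0, 0, 0, 0, 0, 0, 0, 0],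
    [0, 0, 0, 0, 0, 0, 0, 0, 0, 0, 0, 0, 0, 0, 0, 0, 0, 0, 0, 0, 0, 0, 0, 0, 0, 0, 0, 0, 0, 0, 0, 0, 0, 0, 0, 0, 0, 0, 0, 0, 0, 0, 0, 0, 0, 0, 0, 0, 0, 0, 0, 0, 0, 0, 0, 0, 0, 0, 0, 0, 0, 0, 0, 0, 0, 0, 0, 0, 0, 0, 0, 0, 0, 0, 0, 0, 0, 0, 0, 0, 0, 0, 0, 0, 0, 0, 0, 0, 0, 0, 0, 0, 0, 0, 0, 0, 0, 0, 0, 0, 0, 1, 0, 1, 0, 0, 0, 0, 0, 0, 0, 0, 0, 0, 0, 0, 0, 1, 1, 0, 0, 0, 0, 0, 0, 0, 0, 0, 0, 0, 0, 0, 0, 0, 0, 0, 0, 0, 0, 0, 0, 0, 0, 0, 0, 0, 0, 0, 0, 0, 0, 0, 0, 0, 0, 0, 0, 0, 0, 0, 0, 0, 0, 0, 0, 0, 0, 0, 0, 0, 0, 0, 0, 0, 0, 0, 0, 0, 0, 0, 0, 0, 0, 0, 0, 0, 0, 0, 0, 0, 0, 0, 0, 0, 0, 0, 0, 0, 0, 0, 0, 0, 0, 0, 0, 0, 0, 0, 0, 0, 0, 0, 0, 0, 0, 0, 0, 0, 0, 0, 0, 0, 0, 0, 0, 0, 0, 0, 0, 0, 0, 0, 0, 0, 0, 0, 0, 0, 0, 0, 0, 0, 0, 0, 0, 0],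
    [0, 0, 0, 0, 0, 0, 0, 0, 0, 0, 0, 0, 0, 0, 0, 0, 0, 0, 0, 0, 0, 0, 0, 0, 0, 0, 0, 0, 0, 0, 0, 0, 0, 0, 0, 0, 0, 0, 0, 0, 0, 0, 0, 0, 0, 0, 0, 0, 0, 0, 0, 0, 0, 0, 0, 0, 0, 0, 0, 0, 0, 0, 0, 0, 0, 0, 0, 0, 0, 0, 0, 0, 0, 0, 0, 0, 0, 0, 0, 0, 0, 0, 0, 0, 0, 0, 0, 0, 0, 0, 0, 0, 0, 0, 0, 0, 0, 0, 0, 0, 0, 0, 0, 0, 0, 0, 0, 0, 1, 0, 0, 0, 0, 0, 0, 0, 0, 0, 0, 0, 0, 0, 0, 1, 0, 0, 0, 0, 0, 0, 0, 0, 0, 0, 0, 0, 0, 0, 0, 1, 0, 0, 0, 0, 0, 0, 0, 0, 0, 0, 0, 0, 0, 0, 0, 0, 1, 0, 0, 0, 0, 0, 0, 0, 0, 0, 0, 0, 1, 0, 1, 0, 0, 0, 0, 0, 0, 0, 0, 0, 0, 0, 0, 0, 0, 0, 0, 0, 0, 0, 0, 0, 0, 0, 0, 0, 0, 0, 0, 0, 0, 0, 0, 0, 0, 0, 0, 0, 0, 0, 0, 0, 0, 0, 0, 0, 0, 0, 0, 0, 0, 0, 0, 0, 0, 0, 0, 0, 0, 0, 0, 0, 0, 0, 0, 0, 0, 0, 0, 0, 0, 0, 0, 0, 0, 0],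
    [0, 0, 0, 0, 0, 0, 0, 0, 0, 0, 0, 0, 0, 0, 0, 0, 0, 0, 0, 0, 0, 0, 0, 0, 0, 0, 0, 0, 0, 0, 0, 0, 0, 0, 0, 0, 0, 0, 0, 0, 0, 0, 0, 0, 0, 0, 0, 0, 0, 0, 0, 0, 0, 0, 0, 0, 0, 0, 0, 0, 0, 0, 0, 0, 0, 0, 0, 0, 0, 0, 0, 0, 0, 0, 0, 0, 0, 0, 0, 0, 0, 0, 0, 0, 0, 0, 0, 0, 0, 0, 0, 0, 0, 0, 0, 0, 0, 0, 0, 0, 0, 0, 0, 0, 0, 0, 0, 0, 0, 0, 0, 0, 0, 0, 0, 0, 0, 0, 1, 0, 0, 0, 0, 0, 0, 0, 0, 0, 0, 0, 0, 0, 0, 0, 0, 0, 0, 0, 0, 0, 0, 0, 0, 0, 0, 0, 0, 0, 0, 0, 0, 0, 0, 0, 0, 0, 0, 0, 0, 0, 0, 1, 0, 0, 0, 0, 1, 1, 0, 0, 0, 0, 0, 0, 0, 0, 0, 0, 0, 0, 0, 0, 0, 0, 0, 0, 0, 0, 0, 0, 0, 0, 0, 0, 0, 0, 0, 0, 0, 0, 0, 0, 0, 0, 0, 0, 0, 0, 0, 0, 0, 0, 0, 0, 0, 0, 0, 0, 0, 0, 0, 0, 0, 0, 0, 0, 0, 0, 0, 0, 0, 0, 0, 0, 0, 0, 0, 0, 0, 0, 0, 0, 0, 0, 0, 0]]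

/-- part of the exponents -/
def twoVecs10 : List (List ℤ) :=
  [[0, 0, 0, 0, 0, 0, 0, 0, 0, 0, 0, 0, 0, 0, 0, 0, 0, 0, 0, 0, 0, 0, 0, 0, 0, 0, 0, 0, 0, 0, 0, 0, 0, 0, 0, 0, 0, 0, 0, 0, 0, 0, 0, 0, 0, 0, 0, 0, 0, 0, 0, 0, 0, 0, 0, 0, 0, 0, 0, 0, 0, 0, 0, 0, 0, 0, 0, 0, 0, 0, 0, 0, 0, 0, 0, 0, 0, 0, 0, 0, 0, 0, 0, 0, 0, 0, 0, 0, 0, 0, 0, 0, 0, 0, 0, 0, 0, 0, 0, 0, 0, 0, 0, 0, 0, 0, 0, 0, 0, 0, 0, 0, 0, 0, 0, 0, 0, 0, 0, 0, 0, 0, 0, 0, 0, 0, 0, 0, 1, 0, 0, 0, 0, 0, 0, 1, 0, 0, 0, 0, 0, 0, 0, 0, 1, 0, 0, 0, 0, 0, 0, 1, 1, 0, 0, 0, 0, 0, 0, 0, 0, 1, 0, 0, 0, 0, 0, 0, 1, 1, 1, 0, 0, 0, 0, 0, 0, 0, 0, 0, 0, 0, 0, 0, 0, 0, 0, 0, 0, 0, 0, 0, 0, 0, 0, 0, 0, 0, 0, 0, 0, 0, 0, 0, 0, 0, 0, 0, 0, 0, 0, 0, 0, 0, 0, 0, 0, 0, 0, 0, 0, 0, 0, 0, 0, 0, 0, 0, 0, 0, 0, 0, 0, 0, 0, 0, 0, 0, 0, 0, 0, 0,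 0, 0, 0, 0],
    [0, 0, 0, 0, 0, 0, 0, 0, 0, 0, 0, 0, 0, 0, 0, 0, 0, 0, 0, 0, 0, 0, 0, 0, 0, 0, 0, 0, 0, 0, 0, 0, 0, 0, 0, 0, 0, 0, 0, 0, 0, 0, 0, 0, 0, 0, 0, 0, 0, 0, 0, 0, 0, 0, 0, 0, 0, 0, 0, 0, 0, 0, 0, 0, 0, 0, 0, 0, 0, 0, 0, 0, 0, 0, 0, 0, 0, 0, 0, 0, 0, 0, 0, 0, 0, 0, 0, 0, 0, 0, 0, 0, 0, 0, 0, 0, 0, 0, 0, 1, 0, 0, 0, 0, 1, 0, 0, 0, 0, 0, 0, 0, 0, 1, 0, 0, 0, 0, 1, 1, 0, 0, 0, 0, 0, 0, 0, 0, 1, 0, 0, 0, 0, 1, 1, 1, 0, 0, 0, 0, 0, 0, 0, 0, 0, 0, 0, 0, 0, 0, 0, 0, 0, 0, 0, 0, 0, 0, 0, 0, 0, 0, 0, 0, 0, 0, 0, 0, 0, 0, 0, 0, 0, 0, 0, 0, 0, 0, 0, 0, 0, 0, 0, 0, 0, 0, 0, 0, 0, 0, 0, 0, 0, 0, 0, 0, 0, 0, 0, 0, 0, 0, 0, 0, 0, 0, 0, 0, 0, 0, 0, 0, 0, 0, 0, 0, 0, 0, 0, 0, 0, 0, 0, 0, 0, 0, 0, 0, 0, 0, 0, 0, 0, 0, 0, 0, 0, 0, 0, 0, 0, 0, 0, 0, 0, 0],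
    [0, 0, 0, 0, 0, 0, 0, 0, 0, 0, 0, 0, 0, 0, 0, 0, 0, 0, 0, 0, 0, 0, 0, 0, 0, 0, 0, 0, 0, 0, 0, 0, 0, 0, 0, 0, 0, 0, 0, 0, 0, 0, 0, 0, 0, 0, 0, 0, 0, 0, 0, 0, 0, 0, 0, 0, 0, 0, 0, 0, 0, 0, 0, 0, 0, 0, 0, 0, 0, 0, 0, 0, 0, 0, 0, 0, 0, 0, 0, 0, 0, 0, 0, 0, 0, 0, 0, 0, 0, 0, 0, 0, 0, 0, 0, 0, 0, 0, 0, 1, 0, 0, 0, 0, 0, 0, 0, 0, 0, 0, 0, 0, 0, 0, 0, 0, 0, 0, 0, 0, 0, 0, 0, 0, 0, 0, 0, 0, 0, 1, 0, 0, 0, 1, 0, 0, 0, 0, 0, 0, 0, 0, 0, 0, 0, 1, 0, 0, 0, 1, 0, 0, 0, 0, 0, 0, 0, 0, 0, 0, 0, 0, 1, 0, 0, 0, 1, 0, 0, 0, 0, 0, 0, 0, 0, 0, 0, 0, 0, 0, 0, 0, 0, 0, 0, 0, 0, 0, 0, 0, 0, 0, 0, 0, 0, 0, 0, 0, 0, 0, 0, 0, 0, 0, 0, 0, 0, 0, 0, 0, 0, 0, 0, 0, 0, 0, 0, 0, 0, 0, 0, 0, 0, 0, 0, 0, 0, 0, 0, 0, 0, 0, 0, 0, 0, 0, 0, 0, 0, 0, 0, 0, 0, 0, 0, 0],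
    [0, 0, 0, 0, 0, 0, 0, 0, 0, 0, 0, 0, 0, 0, 0, 0, 0, 0, 0, 0, 0, 0, 0, 0, 0, 0, 0, 0, 0, 0, 0, 0, 0, 0, 0, 0, 0, 0, 0, 0, 0, 0, 0, 0, 0, 0, 0, 0, 0, 0, 0, 0, 0, 0, 0, 0, 0, 0, 0, 0, 0, 0, 0, 0, 0, 0, 0, 0, 0, 0, 0, 0, 0, 0, 0, 0, 0, 0, 0, 0, 0, 0, 0, 0, 0, 0, 0, 0, 0, 0, 0, 0, 0, 0, 0, 0, 0, 0, 0, 0, 0, 0, 0, 0, 0, 0, 0, 0, 1, 0, 0, 0, 0, 0, 0, 0, 0, 0, 0, 1, 0, 0, 0, 1, 0, 0, 0, 0, 0, 0, 0, 0, 0, 0, 1, 1, 0, 0, 0, 0, 0, 0, 0, 0, 0, 0, 0, 0, 0, 0, 0, 0, 0, 0, 0, 0, 1, 0, 0, 0, 0, 0, 0, 0, 0, 0, 0, 1, 0, 0, 0, 0, 0, 0, 0, 0, 0, 0, 0, 0, 0, 0, 0, 0, 0, 0, 0, 0, 0, 0, 0, 0, 0, 0, 0, 0, 0, 0, 0, 0, 0, 0, 0, 0, 0, 0, 0, 0, 0, 0, 0, 0, 0, 0, 0, 0, 0, 0, 0, 0, 0, 0, 0, 0, 0, 0, 0, 0, 0, 0, 0, 0, 0, 0, 0, 0, 0, 0, 0, 0, 0, 0, 0, 0, 0, 0],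
    [0, 0, 0, 0, 0, 0, 0, 0, 0, 0, 0, 0, 0, 0, 0, 0, 0, 0, 0, 0, 0, 0, 0, 0, 0, 0, 0, 0, 0, 0, 0, 0, 0, 0, 0, 0, 0, 0, 0, 0, 0, 0, 0, 0, 0, 0, 0, 0, 0, 0, 0, 0, 0, 0, 0, 0, 0, 0, 0, 0, 0, 0, 0, 0, 0, 0, 0, 0, 0, 0, 0, 0, 0, 0, 0, 0, 0, 0, 0, 0, 1, 0, 0, 0, 0, 0, 0, 0, 0, 0, 1, 0, 0, 0, 0, 0, 0, 0, 0, 0, 0, 0, 0, 0, 0, 0, 0, 0, 0, 0, 0, 0, 0, 0, 0, 0, 0, 0, 0, 0, 0, 0, 1, 0, 0, 0, 0, 0, 0, 0, 0, 0, 1, 0, 0, 1, 0, 0, 0, 0, 0, 0, 0, 0, 0, 0, 0, 0, 0, 0, 0, 1, 1, 0, 0, 0, 0, 0, 0, 0, 0, 0, 0, 0, 0, 0, 0, 0, 1, 1, 1, 0, 0, 0, 0, 0, 0, 0, 0, 0, 0, 0, 0, 0, 0, 0, 0, 0, 0, 0, 0, 0, 0, 0, 0, 0, 0, 0, 0, 0, 0, 0, 0, 0, 0, 0, 0, 0, 0, 0, 0, 0, 0, 0, 0, 0, 0, 0, 0, 0, 0, 0, 0, 0, 0, 0, 0, 0, 0, 0, 0, 0, 0, 0, 0, 0, 0, 0, 0, 0, 0, 0, 0, 0, 0, 0],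
    [0, 0, 0, 0, 0, 0, 0, 0, 0, 0, 0, 0, 0, 0, 0, 0, 0, 0, 0, 0, 0, 0, 0, 0, 0, 0, 0, 0, 0, 0, 0, 0, 0, 0, 0, 0, 0, 0, 0, 0, 0, 0, 0, 0, 0, 0, 0, 0, 0, 0, 0, 0, 0, 0, 0, 0, 0, 0, 0, 0, 0, 0, 0, 0, 0, 0, 0, 0, 0, 0, 0, 0, 0, 0, 0, 0, 0, 0, 0, 0, 0, 0, 0, 0, 0, 0, 0, 0, 0, 0, 0, 0, 0, 0, 0, 0, 0, 0, 0, 0, 0, 0, 0, 0, 0, 0, 0, 1, 0, 0, 0, 0, 0, 0, 0, 0, 0, 0, 0, 0, 0, 0, 1, 0, 0, 0, 0, 0, 0, 0, 0, 0, 0, 0, 0, 0, 0, 0, 0, 0, 0, 0, 0, 0, 0, 0, 0, 0, 0, 0, 0, 1, 1, 0, 0, 1, 0, 0, 0, 0, 0, 0, 0, 0, 0, 0, 0, 0, 1, 1, 1, 0, 0, 0, 0, 0, 0, 0, 0, 0, 0, 0, 0, 0, 0, 0, 0, 0, 0, 0, 0, 0, 0, 0, 0, 0, 0, 0, 0, 0, 0, 0, 0, 0, 0, 0, 0, 0, 0, 0, 0, 0, 0, 0, 0, 0, 0, 0, 0, 0, 0, 0, 0, 0, 0, 0, 0, 0, 0, 0, 0, 0, 0, 0, 0, 0, 0, 0, 0, 0, 0, 0, 0, 0, 0, 0],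
    [0, 0, 0, 0, 0, 0, 0, 0, 0, 0, 0, 0, 0, 0, 0, 0, 0, 0, 0, 0, 0, 0, 0, 0, 0, 0, 0, 0, 0, 0, 0, 0, 0, 0, 0, 0, 0, 0, 0, 0, 0, 0, 0, 0, 0, 0, 0, 0, 0, 0, 0, 0, 0, 0, 0, 0, 0, 0, 0, 0, 0, 0, 0, 0, 0, 0, 0, 0, 0, 0, 0, 0, 0, 0, 0, 0, 0, 0, 0, 0, 0, 0, 0, 0, 0, 0, 0, 0, 0, 0, 0, 0, 0, 0, 1, 0, 0, 0, 0, 0, 0, 0, 0, 0, 1, 0, 0, 0, 1, 0, 0, 0, 0, 0, 0, 0, 0, 0, 1, 1, 0, 0, 0, 1, 0, 0, 0, 0, 0, 0, 0, 0, 0, 1, 1, 1, 0, 0, 0, 0, 0, 0, 0, 0, 0, 0, 0, 0, 0, 0, 0, 0, 0, 0, 0, 0, 0, 0, 0, 0, 0, 0, 0, 0, 0, 0, 0, 0, 1, 0, 1, 0, 0, 0, 0, 0, 0, 0, 0, 0, 0, 0, 0, 0, 0, 0, 0, 0, 0, 0, 0, 0, 0, 0, 0, 0, 0, 0, 0, 0, 0, 0, 0, 0, 0, 0, 0, 0, 0, 0, 0, 0, 0, 0, 0, 0, 0, 0, 0, 0, 0, 0, 0, 0, 0, 0, 0, 0, 0, 0, 0, 0, 0, 0, 0, 0, 0, 0, 0, 0, 0, 0, 0, 0, 0, 0],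
    [0, 0, 0, 0, 0, 0, 0, 0, 0, 0, 0, 0, 0, 0, 0, 0, 0, 0, 0, 0, 0, 0, 0, 0, 0, 0, 0, 0, 0, 0, 0, 0, 0, 0, 0, 0, 0, 0, 0, 0, 0, 0, 0, 0, 0, 0, 0, 0, 0, 0, 0, 0, 0, 0, 0, 0, 0, 0, 0, 0, 0, 0, 0, 0, 0, 0, 0, 0, 0, 0, 0, 0, 0, 0, 0, 0, 0, 0, 0, 0, 0, 0, 0, 0, 0, 0, 0, 0, 0, 0, 0, 1, 0, 0, 0, 0, 0, 0, 0, 0, 0, 0, 0, 0, 0, 0, 0, 0, 0, 0, 0, 0, 0, 0, 0, 0, 0, 0, 0, 0, 0, 1, 0, 0, 0, 0, 0, 0, 0, 0, 0, 0, 0, 1, 0, 0, 0, 1, 0, 0, 0, 0, 0, 0, 0, 0, 0, 0, 0, 1, 0, 0, 0, 0, 1, 0, 0, 0, 0, 0, 0, 0, 0, 0, 0, 0, 1, 0, 0, 1, 1, 0, 0, 0, 0, 0, 0, 0, 0, 0, 0, 0, 0, 0, 0, 0, 0, 0, 0, 0, 0, 0, 0, 0, 0, 0, 0, 0, 0, 0, 0, 0, 0, 0, 0, 0, 0, 0, 0, 0, 0, 0, 0, 0, 0, 0, 0, 0, 0, 0, 0, 0, 0, 0, 0, 0, 0, 0, 0, 0, 0, 0, 0, 0, 0, 0, 0, 0, 0, 0, 0, 0, 0, 0, 0, 0],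
    [0, 0, 0, 0, 0, 0, 0, 0, 0, 0, 0, 0, 0, 0, 0, 0, 0, 0, 0, 0, 0, 0, 0, 0, 0, 0, 0, 0, 0, 0, 0, 0, 0, 0, 0, 0, 0, 0, 0, 0, 0, 0, 0, 0, 0, 0, 0, 0, 0, 0, 0, 0, 0, 0, 0, 0, 0, 0, 0, 0, 0, 0, 0, 0, 0, 0, 0, 0, 0, 1, 0, 0, 0, 0, 0, 0, 0, 0, 0, 0, 0, 0, 0, 0, 0, 0, 0, 0, 0, 0, 0, 0, 0, 0, 0, 0, 0, 0, 0, 0, 0, 0, 0, 0, 0, 0, 0, 0, 0, 0, 0, 0, 0, 0, 0, 0, 0, 0, 0, 0, 0, 0, 1, 1, 0, 0, 0, 0, 0, 0, 0, 0, 0, 0, 0, 0, 0, 0, 1, 0, 0, 0, 0, 0, 0, 0, 0, 0, 0, 0, 0, 1, 1, 0, 0, 1, 0, 0, 0, 0, 0, 0, 0, 0, 0, 0, 0, 0, 0, 1, 1, 0, 0, 0, 0, 0, 0, 0, 0, 0, 0, 0, 0, 0, 0, 0, 0, 0, 0, 0, 0, 0, 0, 0, 0, 0, 0, 0, 0, 0, 0, 0, 0, 0, 0, 0, 0, 0, 0, 0, 0, 0, 0, 0, 0, 0, 0, 0, 0, 0, 0, 0, 0, 0, 0, 0, 0, 0, 0, 0, 0, 0, 0, 0, 0, 0, 0, 0, 0, 0, 0, 0, 0, 0, 0, 0],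
    [0, 0, 0, 0, 0, 0, 0, 0, 0, 0, 0, 0, 0, 0, 0, 0, 0, 0, 0, 0, 0, 0, 0, 0, 0, 0, 0, 0, 0, 0, 0, 0, 0, 0, 0, 0, 0, 0, 0, 0, 0, 0, 0, 0, 0, 0, 0, 0, 0, 0, 0, 0, 0, 0, 0, 0, 0, 0, 0, 0, 0, 0, 0, 0, 0, 0, 0, 0, 0, 0, 0, 0, 0, 0, 0, 0, 0, 0, 0, 0, 0, 0, 0, 0, 0, 1, 0, 0, 0, 0, 0, 0, 0, 0, 0, 0, 0, 0, 0, 0, 0, 0, 0, 0, 0, 0, 0, 1, 0, 0, 0, 0, 0, 0, 0, 0, 0, 1, 0, 0, 0, 0, 0, 0, 0, 0, 0, 1, 0, 0, 0, 0, 0, 0, 1, 0, 0, 0, 0, 0, 0, 0, 0, 0, 0, 0, 0, 0, 0, 0, 0, 1, 0, 0, 0, 1, 0, 0, 0, 0, 0, 0, 0, 0, 0, 1, 0, 0, 0, 1, 0, 0, 0, 0, 0, 0, 0, 0, 0, 0, 0, 0, 0, 0, 0, 0, 0, 0, 0, 0, 0, 0, 0, 0, 0, 0, 0, 0, 0, 0, 0, 0, 0, 0, 0, 0, 0, 0, 0, 0, 0, 0, 0, 0, 0, 0, 0, 0, 0, 0, 0, 0, 0, 0, 0, 0, 0, 0, 0, 0, 0, 0, 0, 0, 0, 0, 0, 0, 0, 0, 0, 0, 0, 0, 0, 0]]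

/-- part of the exponents -/
def twoVecs11 : List (List ℤ) :=
  [[0, 0, 0, 0, 0, 0, 0, 0, 0, 0, 0, 0, 0, 0, 0, 0, 0, 0, 0, 0, 0, 0, 0, 0, 0, 0, 0, 0, 0, 0, 0, 0, 0, 0, 0, 0, 0, 0, 0, 0, 0, 0, 0, 0, 0, 0, 0, 0, 0, 0, 0, 0, 0, 0, 0, 0, 0, 0, 0, 0, 0, 0, 0, 0, 1, 0, 0, 0, 0, 0, 0, 0, 0, 0, 1, 1, 0, 0, 0, 0, 0, 0, 0, 0, 0, 0, 0, 0, 1, 1, 0, 0, 0, 0, 0, 0, 0, 0, 0, 0, 0, 0, 0, 0, 0, 0, 0, 0, 0, 0, 0, 0, 0, 0, 0, 0, 0, 0, 0, 0, 0, 0, 0, 0, 0, 0, 0, 0, 0, 0, 1, 1, 0, 0, 0, 0, 0, 0, 0, 0, 0, 0, 0, 0, 0, 0, 1, 1, 0, 0, 0, 0, 0, 0, 0, 0, 0, 0, 0, 0, 0, 0, 0, 1, 1, 0, 0, 0, 0, 0, 0, 0, 0, 0, 0, 0, 0, 0, 0, 0, 0, 0, 0, 0, 0, 0, 0, 0, 0, 0, 0, 0, 0, 0, 0, 0, 0, 0, 0, 0, 0, 0, 0, 0, 0, 0, 0, 0, 0, 0, 0, 0, 0, 0, 0, 0, 0, 0, 0, 0, 0, 0, 0, 0, 0, 0, 0, 0, 0, 0, 0, 0, 0, 0, 0, 0, 0, 0, 0, 0, 0, 0,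 0, 0, 0, 0],
    [0, 0, 0, 0, 0, 0, 0, 0, 0, 0, 0, 0, 0, 1, 0, 0, 1, 0, 1, 0, 0, 0, 0, 1, 1, 0, 0, 0, 0, 0, 0, 1, 0, 1, 0, 1, 0, 0, 0, 0, 0, 0, 0, 0, 0, 0, 0, 0, 0, 0, 0, 0, 0, 0, 0, 0, 0, 0, 0, 0, 0, 0, 0, 0, 0, 0, 0, 0, 0, 0, 0, 0, 0, 0, 0, 0, 0, 0, 0, 0, 0, 0, 0, 0, 0, 0, 0, 0, 0, 0, 0, 0, 0, 0, 0, 0, 0, 0, 0, 0, 0, 0, 0, 0, 0, 0, 0, 0, 0, 0, 0, 0, 0, 0, 0, 0, 0, 0, 0, 0, 0, 0, 0, 0, 0, 0, 0, 0, 0, 0, 0, 0, 0, 0, 0, 0, 0, 0, 0, 0, 0, 0, 0, 0, 0, 0, 0, 0, 0, 0, 0, 0, 0, 0, 0, 0, 0, 0, 0, 0, 0, 0, 0, 0, 0, 0, 0, 0, 0, 0, 0, 0, 0, 0, 0, 0, 0, 0, 0, 0, 0, 0, 0, 0, 0, 0, 0, 0, 0, 0, 0, 0, 0, 0, 0, 0, 0, 0, 0, 0, 0, 0, 0, 0, 0, 0, 0, 0, 0, 0, 0, 0, 0, 0, 0, 0, 0, 0, 0, 0, 0, 0, 0, 0, 0, 0, 0, 0, 0, 0, 0, 0, 0, 0, 0, 0, 0, 0, 0, 0, 0, 0, 0, 0, 0, 0],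
    [0, 0, 0, 0, 0, 0, 0, 0, 0, 0, 0, 0, 0, 0, 0, 0, 0, 0, 0, 0, 0, 0, 0, 0, 0, 0, 0, 0, 0, 0, 0, 0, 0, 0, 0, 0, 0, 0, 0, 0, 0, 0, 0, 0, 0, 0, 0, 0, 0, 1, 0, 0, 0, 0, 1, 0, 0, 0, 0, 0, 0, 0, 0, 0, 0, 0, 0, 0, 0, 0, 0, 0, 0, 0, 0, 0, 0, 0, 0, 0, 0, 0, 0, 0, 0, 0, 0, 0, 0, 0, 0, 0, 0, 0, 0, 0, 0, 0, 0, 0, 0, 0, 0, 0, 0, 0, 0, 0, 0, 0, 0, 0, 0, 0, 0, 0, 0, 0, 0, 0, 0, 0, 0, 0, 1, 0, 0, 0, 0, 1, 0, 0, 0, 0, 0, 1, 0, 0, 0, 0, 1, 0, 0, 0, 0, 1, 0, 0, 0, 0, 0, 1, 1, 0, 0, 0, 0, 1, 0, 0, 0, 0, 1, 0, 0, 0, 0, 0, 1, 1, 1, 0, 0, 0, 0, 0, 0, 0, 0, 0, 0, 0, 0, 0, 0, 0, 0, 0, 0, 0, 0, 0, 0, 0, 0, 0, 0, 0, 0, 0, 0, 0, 0, 0, 0, 0, 0, 0, 0, 0, 0, 0, 0, 0, 0, 0, 0, 0, 0, 0, 0, 0, 0, 0, 0, 0, 0, 0, 0, 0, 0, 0, 0, 0, 0, 0, 0, 0, 0, 0, 0, 0, 0, 0, 0, 0],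
    [0, 0, 0, 0, 0, 0, 0, 0, 0, 0, 0, 0, 0, 0, 0, 0, 0, 0, 0, 0, 0, 0, 0, 0, 0, 0, 0, 0, 0, 0, 0, 0, 0, 0, 0, 0, 0, 0, 0, 0, 0, 0, 0, 0, 0, 0, 0, 0, 0, 0, 0, 0, 0, 0, 0, 0, 0, 0, 0, 0, 1, 0, 0, 0, 0, 1, 0, 0, 0, 0, 0, 0, 0, 0, 0, 0, 0, 0, 0, 0, 0, 0, 0, 0, 0, 0, 0, 0, 0, 0, 0, 0, 0, 0, 0, 0, 0, 0, 0, 0, 0, 0, 0, 0, 0, 0, 0, 0, 0, 0, 0, 0, 0, 0, 0, 0, 0, 0, 0, 0, 0, 0, 0, 0, 0, 1, 0, 0, 0, 0, 1, 0, 0, 0, 0, 1, 0, 0, 0, 0, 0, 1, 0, 0, 0, 0, 1, 0, 0, 0, 0, 1, 1, 0, 0, 0, 0, 0, 1, 0, 0, 0, 0, 1, 0, 0, 0, 0, 1, 1, 1, 0, 0, 0, 0, 0, 0, 0, 0, 0, 0, 0, 0, 0, 0, 0, 0, 0, 0, 0, 0, 0, 0, 0, 0, 0, 0, 0, 0, 0, 0, 0, 0, 0, 0, 0, 0, 0, 0, 0, 0, 0, 0, 0, 0, 0, 0, 0, 0, 0, 0, 0, 0, 0, 0, 0, 0, 0, 0, 0, 0, 0, 0, 0, 0, 0, 0, 0, 0, 0, 0, 0, 0, 0, 0, 0],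
    [0, 0, 0, 0, 0, 0, 0, 0, 0, 0, 0, 0, 0, 0, 0, 0, 0, 0, 0, 0, 0, 0, 0, 0, 0, 0, 0, 0, 0, 0, 0, 0, 0, 0, 0, 0, 0, 0, 0, 0, 0, 0, 0, 0, 0, 0, 0, 0, 0, 0, 0, 0, 0, 1, 1, 0, 0, 0, 0, 0, 0, 0, 0, 0, 0, 0, 0, 0, 0, 0, 0, 0, 0, 0, 0, 0, 0, 0, 0, 0, 0, 0, 0, 0, 0, 0, 0, 0, 0, 0, 0, 0, 0, 0, 0, 0, 0, 0, 0, 0, 0, 0, 0, 0, 0, 0, 0, 0, 0, 0, 0, 0, 0, 0, 0, 0, 0, 0, 0, 0, 0, 0, 0, 0, 0, 0, 0, 0, 1, 1, 0, 0, 0, 0, 0, 1, 0, 0, 0, 0, 0, 0, 0, 0, 1, 1, 0, 0, 0, 0, 0, 1, 1, 0, 0, 0, 0, 0, 0, 0, 0, 1, 1, 0, 0, 0, 0, 0, 1, 1, 1, 0, 0, 0, 0, 0, 0, 0, 0, 0, 0, 0, 0, 0, 0, 0, 0, 0, 0, 0, 0, 0, 0, 0, 0, 0, 0, 0, 0, 0, 0, 0, 0, 0, 0, 0, 0, 0, 0, 0, 0, 0, 0, 0, 0, 0, 0, 0, 0, 0, 0, 0, 0, 0, 0, 0, 0, 0, 0, 0, 0, 0, 0, 0, 0, 0, 0, 0, 0, 0, 0, 0, 0, 0, 0, 0],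
    [0, 0, 0, 0, 0, 0, 0, 0, 0, 0, 0, 0, 0, 0, 0, 0, 0, 0, 0, 0, 0, 0, 0, 0, 0, 0, 0, 0, 0, 0, 0, 0, 0, 0, 0, 0, 0, 0, 0, 0, 0, 0, 0, 0, 0, 0, 0, 0, 0, 0, 0, 0, 0, 0, 0, 0, 0, 0, 0, 0, 0, 0, 0, 1, 0, 1, 0, 0, 0, 0, 0, 0, 0, 0, 0, 0, 0, 0, 0, 0, 0, 0, 0, 0, 0, 0, 0, 0, 0, 0, 0, 0, 0, 0, 0, 0, 0, 0, 0, 0, 0, 0, 0, 0, 0, 0, 0, 0, 0, 0, 0, 0, 0, 0, 0, 0, 0, 0, 0, 0, 0, 0, 0, 0, 0, 0, 0, 0, 1, 0, 1, 0, 0, 0, 0, 1, 0, 0, 0, 0, 0, 0, 0, 0, 1, 0, 1, 0, 0, 0, 0, 1, 1, 0, 0, 0, 0, 0, 0, 0, 0, 1, 0, 1, 0, 0, 0, 0, 1, 1, 1, 0, 0, 0, 0, 0, 0, 0, 0, 0, 0, 0, 0, 0, 0, 0, 0, 0, 0, 0, 0, 0, 0, 0, 0, 0, 0, 0, 0, 0, 0, 0, 0, 0, 0, 0, 0, 0, 0, 0, 0, 0, 0, 0, 0, 0, 0, 0, 0, 0, 0, 0, 0, 0, 0, 0, 0, 0, 0, 0, 0, 0, 0, 0, 0, 0, 0, 0, 0, 0, 0, 0, 0, 0, 0, 0],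
    [0, 0, 0, 0, 0, 0, 0, 0, 0, 0, 0, 0, 0, 0, 0, 0, 0, 0, 0, 0, 0, 0, 0, 0, 0, 0, 0, 0, 0, 0, 0, 0, 0, 0, 0, 0, 0, 0, 0, 0, 0, 0, 0, 0, 0, 0, 0, 0, 0, 0, 0, 0, 0, 0, 0, 0, 0, 1, 0, 0, 0, 0, 0, 0, 0, 1, 0, 0, 1, 0, 0, 0, 0, 0, 0, 0, 1, 1, 0, 0, 0, 0, 0, 0, 0, 0, 0, 0, 0, 0, 0, 0, 0, 0, 0, 0, 0, 0, 0, 0, 0, 0, 0, 0, 0, 0, 0, 0, 0, 0, 0, 0, 0, 0, 0, 0, 0, 0, 0, 0, 0, 0, 0, 0, 0, 0, 0, 0, 0, 0, 0, 0, 0, 0, 0, 0, 0, 0, 1, 0, 0, 0, 0, 0, 0, 0, 1, 1, 0, 0, 0, 0, 1, 0, 0, 1, 0, 0, 0, 0, 0, 0, 0, 1, 1, 0, 0, 0, 0, 1, 1, 0, 0, 0, 0, 0, 0, 0, 0, 0, 0, 0, 0, 0, 0, 0, 0, 0, 0, 0, 0, 0, 0, 0, 0, 0, 0, 0, 0, 0, 0, 0, 0, 0, 0, 0, 0, 0, 0, 0, 0, 0, 0, 0, 0, 0, 0, 0, 0, 0, 0, 0, 0, 0, 0, 0, 0, 0, 0, 0, 0, 0, 0, 0, 0, 0, 0, 0, 0, 0, 0, 0, 0, 0, 0, 0],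
    [0, 0, 0, 0, 0, 0, 0, 0, 0, 0, 0, 0, 0, 0, 0, 0, 0, 0, 0, 0, 0, 0, 0, 0, 0, 0, 0, 0, 0, 0, 0, 0, 0, 0, 0, 0, 0, 0, 0, 0, 0, 0, 0, 0, 0, 0, 0, 0, 0, 0, 0, 0, 0, 0, 0, 0, 0, 0, 0, 0, 0, 0, 0, 0, 1, 1, 0, 0, 0, 0, 0, 0, 0, 0, 0, 1, 1, 1, 0, 0, 0, 0, 0, 0, 0, 0, 0, 0, 0, 0, 0, 0, 0, 0, 0, 0, 0, 0, 0, 0, 0, 0, 0, 0, 0, 0, 0, 0, 0, 0, 0, 0, 0, 0, 0, 0, 0, 0, 0, 0, 0, 0, 0, 0, 0, 0, 0, 0, 0, 0, 0, 0, 0, 0, 0, 0, 0, 0, 0, 0, 0, 0, 0, 0, 0, 1, 1, 1, 0, 0, 0, 0, 1, 0, 0, 0, 0, 0, 0, 0, 0, 0, 1, 1, 1, 0, 0, 0, 0, 1, 1, 0, 0, 0, 0, 0, 0, 0, 0, 0, 0, 0, 0, 0, 0, 0, 0, 0, 0, 0, 0, 0, 0, 0, 0, 0, 0, 0, 0, 0, 0, 0, 0, 0, 0, 0, 0, 0, 0, 0, 0, 0, 0, 0, 0, 0, 0, 0, 0, 0, 0, 0, 0, 0, 0, 0, 0, 0, 0, 0, 0, 0, 0, 0, 0, 0, 0, 0, 0, 0, 0, 0, 0, 0, 0, 0],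
    [0, 0, 0, 0, 0, 0, 0, 0, 0, 0, 0, 0, 0, 0, 0, 0, 0, 0, 0, 0, 0, 0, 0, 0, 0, 0, 0, 0, 0, 0, 0, 0, 0, 0, 0, 0, 0, 0, 0, 0, 0, 0, 0, 0, 0, 0, 0, 0, 0, 0, 0, 0, 0, 0, 0, 0, 0, 0, 0, 0, 0, 0, 0, 1, 0, 0, 0, 0, 0, 0, 0, 0, 0, 0, 1, 0, 0, 0, 0, 0, 0, 0, 0, 0, 0, 0, 0, 1, 1, 1, 0, 0, 0, 0, 0, 0, 0, 0, 0, 0, 0, 0, 0, 0, 0, 0, 0, 0, 0, 0, 0, 0, 0, 0, 0, 0, 0, 0, 0, 0, 0, 0, 0, 0, 0, 0, 0, 0, 0, 1, 1, 1, 0, 0, 0, 0, 0, 0, 0, 0, 0, 0, 0, 0, 1, 0, 0, 0, 1, 0, 0, 1, 0, 0, 0, 0, 0, 0, 0, 0, 0, 1, 0, 0, 0, 1, 0, 0, 1, 0, 0, 0, 0, 0, 0, 0, 0, 0, 0, 0, 0, 0, 0, 0, 0, 0, 0, 0, 0, 0, 0, 0, 0, 0, 0, 0, 0, 0, 0, 0, 0, 0, 0, 0, 0, 0, 0, 0, 0, 0, 0, 0, 0, 0, 0, 0, 0, 0, 0, 0, 0, 0, 0, 0, 0, 0, 0, 0, 0, 0, 0, 0, 0, 0, 0, 0, 0, 0, 0, 0, 0, 0, 0, 0, 0, 0],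
    [0, 0, 0, 0, 0, 0, 0, 0, 0, 0, 0, 0, 0, 0, 0, 0, 0, 0, 0, 0, 0, 0, 0, 0, 0, 0, 0, 0, 0, 0, 0, 0, 0, 0, 0, 0, 0, 0, 0, 0, 0, 0, 0, 0, 0, 0, 0, 0, 0, 0, 0, 1, 0, 0, 0, 0, 0, 0, 0, 0, 0, 0, 0, 0, 0, 0, 0, 0, 0, 0, 0, 0, 0, 0, 0, 0, 0, 0, 0, 0, 0, 0, 0, 0, 0, 0, 0, 0, 0, 0, 0, 0, 0, 0, 0, 1, 0, 1, 0, 0, 0, 0, 0, 0, 0, 0, 0, 0, 0, 0, 0, 0, 0, 0, 0, 0, 0, 0, 0, 0, 0, 0, 0, 0, 0, 0, 1, 0, 0, 0, 0, 0, 0, 1, 0, 1, 0, 0, 0, 0, 0, 0, 1, 0, 0, 0, 0, 0, 0, 1, 0, 1, 1, 0, 0, 0, 0, 0, 0, 1, 0, 0, 0, 0, 0, 0, 1, 0, 1, 1, 1, 0, 0, 0, 0, 0, 0, 0, 0, 0, 0, 0, 0, 0, 0, 0, 0, 0, 0, 0, 0, 0, 0, 0, 0, 0, 0, 0, 0, 0, 0, 0, 0, 0, 0, 0, 0, 0, 0, 0, 0, 0, 0, 0, 0, 0, 0, 0, 0, 0, 0, 0, 0, 0, 0, 0, 0, 0, 0, 0, 0, 0, 0, 0, 0, 0, 0, 0, 0, 0, 0, 0, 0, 0, 0, 0]]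

/-- part of the exponents -/
def twoVecs12 : List (List ℤ) :=
  [[0, 0, 0, 0, 0, 0, 0, 0, 0, 0, 0, 0, 0, 0, 0, 0, 0, 0, 0, 0, 0, 0, 0, 0, 0, 0, 0, 0, 0, 0, 0, 0, 0, 0, 0, 0, 0, 0, 0, 0, 0, 0, 0, 0, 0, 0, 0, 0, 0, 0, 1, 0, 0, 0, 0, 0, 0, 0, 0, 1, 1, 0, 0, 0, 0, 0, 0, 0, 0, 0, 1, 0, 0, 0, 0, 0, 1, 1, 0, 0, 0, 0, 0, 0, 0, 0, 0, 0, 0, 0, 0, 0, 0, 0, 0, 0, 0, 0, 0, 0, 0, 0, 0, 0, 0, 0, 0, 0, 0, 0, 0, 0, 0, 0, 0, 0, 0, 0, 0, 0, 0, 0, 0, 0, 0, 0, 0, 0, 0, 0, 0, 0, 0, 0, 0, 0, 0, 0, 0, 0, 1, 0, 0, 0, 0, 0, 1, 1, 0, 0, 0, 0, 1, 0, 0, 0, 0, 1, 0, 0, 0, 0, 0, 1, 1, 0, 0, 0, 0, 1, 1, 0, 0, 0, 0, 0, 0, 0, 0, 0, 0, 0, 0, 0, 0, 0, 0, 0, 0, 0, 0, 0, 0, 0, 0, 0, 0, 0, 0, 0, 0, 0, 0, 0, 0, 0, 0, 0, 0, 0, 0, 0, 0, 0, 0, 0, 0, 0, 0, 0, 0, 0, 0, 0, 0, 0, 0, 0, 0, 0, 0, 0, 0, 0, 0, 0, 0, 0, 0, 0, 0, 0,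 0, 0, 0, 0],
    [0, 0, 0, 0, 0, 0, 0, 0, 0, 0, 0, 0, 0, 0, 0, 0, 0, 0, 0, 0, 0, 0, 0, 0, 0, 0, 0, 0, 0, 0, 0, 0, 0, 0, 0, 0, 0, 0, 0, 0, 0, 0, 0, 0, 0, 0, 0, 0, 0, 0, 0, 0, 0, 0, 0, 0, 0, 0, 0, 0, 0, 0, 1, 0, 0, 0, 0, 0, 0, 0, 0, 0, 0, 0, 0, 0, 0, 0, 0, 0, 0, 0, 0, 0, 0, 0, 0, 0, 0, 0, 0, 0, 0, 0, 0, 0, 0, 0, 0, 0, 0, 0, 0, 0, 0, 0, 0, 0, 0, 0, 1, 0, 1, 0, 0, 0, 0, 0, 0, 0, 0, 0, 0, 0, 0, 1, 0, 1, 0, 0, 0, 0, 0, 0, 0, 0, 0, 0, 0, 0, 0, 0, 0, 1, 0, 0, 0, 0, 0, 0, 1, 0, 1, 0, 0, 0, 0, 0, 1, 0, 0, 0, 0, 0, 0, 0, 0, 1, 0, 1, 1, 0, 0, 0, 0, 0, 0, 0, 0, 0, 0, 0, 0, 0, 0, 0, 0, 0, 0, 0, 0, 0, 0, 0, 0, 0, 0, 0, 0, 0, 0, 0, 0, 0, 0, 0, 0, 0, 0, 0, 0, 0, 0, 0, 0, 0, 0, 0, 0, 0, 0, 0, 0, 0, 0, 0, 0, 0, 0, 0, 0, 0, 0, 0, 0, 0, 0, 0, 0, 0, 0, 0, 0, 0, 0, 0],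
    [0, 0, 0, 0, 0, 0, 0, 0, 0, 0, 0, 0, 0, 0, 0, 0, 0, 0, 0, 0, 0, 0, 0, 0, 0, 0, 0, 0, 0, 0, 0, 0, 0, 0, 0, 0, 0, 0, 0, 0, 0, 0, 0, 0, 0, 0, 0, 0, 0, 0, 0, 0, 0, 0, 0, 0, 0, 0, 0, 0, 0, 0, 0, 0, 0, 0, 0, 0, 0, 0, 0, 0, 0, 0, 0, 0, 0, 0, 0, 0, 0, 0, 0, 1, 0, 0, 0, 0, 0, 0, 0, 0, 0, 0, 0, 0, 0, 0, 0, 0, 0, 0, 0, 0, 0, 0, 0, 0, 0, 0, 0, 0, 0, 0, 0, 0, 0, 0, 0, 0, 0, 0, 1, 0, 0, 1, 0, 0, 0, 0, 0, 0, 0, 0, 0, 0, 0, 0, 1, 0, 1, 0, 0, 0, 0, 0, 0, 0, 0, 0, 0, 0, 0, 0, 0, 1, 0, 1, 0, 0, 0, 0, 0, 0, 0, 0, 0, 0, 0, 0, 0, 0, 0, 0, 0, 0, 0, 0, 0, 0, 0, 0, 0, 0, 0, 0, 0, 0, 0, 0, 0, 0, 0, 0, 0, 0, 0, 0, 0, 0, 0, 0, 0, 0, 0, 0, 0, 0, 0, 0, 0, 0, 0, 0, 0, 0, 0, 0, 0, 0, 0, 0, 0, 0, 0, 0, 0, 0, 0, 0, 0, 0, 0, 0, 0, 0, 0, 0, 0, 0, 0, 0, 0, 0, 0, 0],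
    [0, 0, 0, 0, 0, 0, 0, 0, 0, 0, 0, 0, 0, 0, 0, 0, 0, 0, 0, 0, 0, 0, 0, 0, 0, 0, 0, 0, 0, 0, 0, 0, 0, 0, 0, 0, 0, 0, 0, 0, 0, 0, 0, 0, 0, 0, 0, 0, 0, 0, 0, 0, 0, 0, 0, 0, 0, 0, 1, 0, 0, 0, 0, 0, 0, 0, 0, 0, 0, 0, 0, 0, 0, 0, 0, 0, 0, 0, 0, 0, 0, 0, 0, 0, 0, 0, 0, 0, 0, 0, 0, 0, 0, 1, 1, 0, 0, 0, 0, 0, 0, 0, 0, 0, 0, 0, 0, 1, 0, 0, 0, 0, 0, 0, 0, 0, 0, 0, 1, 1, 0, 0, 0, 1, 0, 0, 0, 0, 0, 0, 0, 0, 0, 1, 1, 1, 0, 0, 0, 0, 0, 0, 0, 0, 0, 0, 0, 0, 0, 0, 1, 0, 1, 0, 0, 0, 0, 0, 0, 0, 0, 0, 0, 0, 0, 0, 1, 1, 1, 1, 0, 0, 0, 0, 0, 0, 0, 0, 0, 0, 0, 0, 0, 0, 0, 0, 0, 0, 0, 0, 0, 0, 0, 0, 0, 0, 0, 0, 0, 0, 0, 0, 0, 0, 0, 0, 0, 0, 0, 0, 0, 0, 0, 0, 0, 0, 0, 0, 0, 0, 0, 0, 0, 0, 0, 0, 0, 0, 0, 0, 0, 0, 0, 0, 0, 0, 0, 0, 0, 0, 0, 0, 0, 0, 0, 0],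
    [0, 0, 0, 0, 0, 0, 0, 0, 0, 0, 0, 0, 0, 0, 0, 0, 0, 0, 0, 0, 0, 0, 0, 0, 0, 0, 0, 0, 0, 0, 0, 0, 0, 0, 0, 0, 0, 0, 0, 0, 0, 0, 0, 0, 0, 0, 0, 0, 0, 0, 0, 0, 1, 0, 0, 0, 0, 0, 0, 0, 0, 0, 0, 0, 0, 0, 0, 0, 0, 0, 0, 0, 0, 0, 0, 0, 0, 0, 0, 0, 0, 0, 0, 0, 0, 0, 0, 0, 0, 0, 0, 0, 0, 0, 0, 0, 0, 0, 0, 0, 0, 0, 0, 0, 0, 0, 0, 0, 0, 1, 0, 0, 0, 0, 1, 0, 0, 0, 0, 0, 0, 0, 0, 0, 0, 0, 0, 1, 0, 0, 0, 0, 0, 0, 1, 0, 0, 0, 0, 0, 0, 0, 0, 1, 0, 0, 0, 0, 0, 0, 1, 1, 0, 0, 0, 0, 0, 1, 0, 0, 1, 0, 1, 0, 0, 0, 0, 1, 1, 1, 0, 0, 0, 0, 0, 0, 0, 0, 0, 0, 0, 0, 0, 0, 0, 0, 0, 0, 0, 0, 0, 0, 0, 0, 0, 0, 0, 0, 0, 0, 0, 0, 0, 0, 0, 0, 0, 0, 0, 0, 0, 0, 0, 0, 0, 0, 0, 0, 0, 0, 0, 0, 0, 0, 0, 0, 0, 0, 0, 0, 0, 0, 0, 0, 0, 0, 0, 0, 0, 0, 0, 0, 0, 0, 0, 0],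
    [0, 0, 0, 0, 0, 0, 0, 0, 0, 0, 0, 0, 0, 0, 0, 0, 0, 0, 0, 0, 0, 0, 0, 0, 0, 0, 0, 0, 0, 0, 0, 0, 0, 0, 0, 0, 0, 0, 0, 0, 0, 0, 0, 0, 0, 0, 0, 0, 0, 0, 0, 0, 0, 0, 0, 0, 0, 0, 0, 0, 0, 0, 0, 0, 0, 0, 0, 0, 0, 0, 0, 0, 0, 0, 0, 0, 0, 0, 0, 0, 0, 0, 0, 0, 1, 0, 0, 0, 0, 0, 0, 0, 0, 0, 0, 1, 0, 1, 0, 0, 0, 0, 0, 0, 0, 0, 0, 0, 0, 0, 0, 0, 0, 0, 0, 0, 0, 0, 0, 0, 0, 1, 0, 0, 0, 0, 0, 0, 0, 0, 0, 0, 0, 0, 0, 1, 0, 1, 0, 0, 0, 0, 0, 0, 0, 0, 0, 0, 0, 0, 0, 1, 1, 0, 1, 0, 0, 0, 0, 0, 0, 0, 0, 0, 0, 0, 0, 0, 1, 0, 0, 0, 0, 0, 0, 0, 0, 0, 0, 0, 0, 0, 0, 0, 0, 0, 0, 0, 0, 0, 0, 0, 0, 0, 0, 0, 0, 0, 0, 0, 0, 0, 0, 0, 0, 0, 0, 0, 0, 0, 0, 0, 0, 0, 0, 0, 0, 0, 0, 0, 0, 0, 0, 0, 0, 0, 0, 0, 0, 0, 0, 0, 0, 0, 0, 0, 0, 0, 0, 0, 0, 0, 0, 0, 0, 0],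
    [0, 0, 0, 0, 0, 0, 0, 0, 0, 0, 0, 0, 0, 0, 0, 0, 0, 0, 0, 0, 0, 0, 0, 0, 0, 0, 0, 0, 0, 0, 0, 0, 0, 0, 0, 0, 0, 0, 0, 0, 0, 0, 0, 0, 0, 1, 0, 0, 0, 0, 0, 0, 0, 0, 1, 0, 0, 0, 0, 0, 0, 0, 0, 0, 0, 0, 0, 0, 0, 0, 0, 0, 0, 0, 0, 0, 0, 0, 1, 0, 0, 0, 0, 0, 0, 0, 0, 1, 0, 0, 1, 0, 0, 0, 0, 0, 0, 0, 0, 0, 0, 0, 0, 0, 0, 0, 0, 0, 0, 0, 0, 0, 0, 0, 0, 0, 0, 0, 0, 0, 1, 0, 0, 0, 0, 0, 0, 0, 0, 1, 0, 0, 0, 0, 0, 0, 1, 0, 0, 0, 0, 0, 0, 0, 0, 1, 0, 0, 0, 0, 0, 0, 0, 1, 0, 0, 0, 0, 0, 0, 0, 0, 1, 0, 0, 0, 0, 0, 0, 0, 0, 0, 0, 0, 0, 0, 0, 0, 0, 0, 0, 0, 0, 0, 0, 0, 0, 0, 0, 0, 0, 0, 0, 0, 0, 0, 0, 0, 0, 0, 0, 0, 0, 0, 0, 0, 0, 0, 0, 0, 0, 0, 0, 0, 0, 0, 0, 0, 0, 0, 0, 0, 0, 0, 0, 0, 0, 0, 0, 0, 0, 0, 0, 0, 0, 0, 0, 0, 0, 0, 0, 0, 0, 0, 0, 0],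
    [0, 0, 0, 0, 0, 0, 0, 0, 0, 0, 0, 0, 0, 0, 0, 0, 0, 0, 0, 0, 0, 0, 0, 0, 0, 0, 0, 0, 0, 0, 0, 0, 0, 0, 0, 0, 0, 0, 0, 0, 0, 0, 0, 0, 0, 0, 0, 0, 0, 0, 0, 0, 0, 0, 0, 0, 0, 0, 0, 0, 0, 0, 0, 0, 0, 0, 0, 0, 0, 0, 0, 0, 0, 0, 0, 0, 0, 0, 0, 0, 0, 1, 0, 0, 0, 0, 0, 0, 0, 0, 0, 0, 0, 1, 0, 0, 0, 0, 0, 0, 0, 0, 0, 1, 0, 0, 0, 1, 0, 0, 0, 0, 0, 0, 0, 0, 0, 1, 0, 0, 0, 0, 1, 1, 0, 0, 0, 0, 0, 0, 0, 0, 1, 1, 0, 0, 0, 0, 0, 0, 0, 0, 0, 0, 0, 0, 0, 0, 0, 0, 1, 1, 1, 0, 0, 0, 0, 0, 0, 0, 0, 0, 0, 0, 0, 0, 0, 1, 0, 1, 1, 0, 0, 0, 0, 0, 0, 0, 0, 0, 0, 0, 0, 0, 0, 0, 0, 0, 0, 0, 0, 0, 0, 0, 0, 0, 0, 0, 0, 0, 0, 0, 0, 0, 0, 0, 0, 0, 0, 0, 0, 0, 0, 0, 0, 0, 0, 0, 0, 0, 0, 0, 0, 0, 0, 0, 0, 0, 0, 0, 0, 0, 0, 0, 0, 0, 0, 0, 0, 0, 0, 0, 0, 0, 0, 0],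
    [0, 0, 0, 0, 0, 0, 0, 0, 0, 0, 0, 0, 0, 0, 0, 0, 0, 0, 0, 0, 0, 0, 0, 0, 0, 0, 0, 0, 0, 0, 0, 0, 0, 0, 0, 0, 0, 0, 0, 0, 0, 0, 0, 0, 0, 0, 0, 0, 0, 0, 0, 0, 0, 0, 0, 0, 0, 0, 0, 0, 0, 0, 0, 0, 0, 0, 0, 0, 0, 0, 0, 0, 0, 0, 0, 0, 0, 0, 0, 0, 0, 0, 0, 0, 0, 0, 0, 0, 0, 0, 0, 0, 0, 0, 0, 0, 1, 0, 0, 0, 0, 0, 0, 0, 0, 1, 0, 0, 0, 0, 1, 0, 0, 0, 0, 0, 0, 0, 0, 0, 1, 0, 0, 0, 0, 1, 0, 0, 0, 0, 0, 0, 0, 0, 1, 0, 1, 0, 0, 0, 0, 1, 0, 0, 0, 0, 0, 0, 0, 0, 0, 0, 0, 1, 0, 0, 0, 0, 1, 0, 0, 0, 0, 0, 0, 0, 0, 0, 0, 0, 0, 0, 0, 0, 0, 0, 0, 0, 0, 0, 0, 0, 0, 0, 0, 0, 0, 0, 0, 0, 0, 0, 0, 0, 0, 0, 0, 0, 0, 0, 0, 0, 0, 0, 0, 0, 0, 0, 0, 0, 0, 0, 0, 0, 0, 0, 0, 0, 0, 0, 0, 0, 0, 0, 0, 0, 0, 0, 0, 0, 0, 0, 0, 0, 0, 0, 0, 0, 0, 0, 0, 0, 0, 0, 0, 0],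
    [0, 0, 0, 0, 0, 0, 0, 0, 0, 0, 0, 0, 0, 0, 0, 0, 0, 0, 0, 0, 0, 0, 0, 0, 0, 0, 0, 0, 0, 0, 0, 0, 0, 0, 0, 0, 0, 0, 0, 0, 0, 0, 0, 0, 0, 0, 0, 0, 0, 0, 0, 0, 0, 0, 0, 0, 0, 0, 0, 0, 0, 1, 0, 0, 0, 0, 0, 0, 0, 1, 0, 0, 1, 0, 0, 0, 0, 0, 0, 0, 0, 0, 0, 0, 0, 0, 0, 0, 0, 0, 0, 0, 0, 0, 0, 0, 0, 0, 0, 0, 0, 0, 0, 0, 0, 1, 0, 0, 0, 0, 0, 1, 0, 0, 0, 0, 1, 0, 0, 0, 1, 0, 0, 0, 0, 0, 1, 0, 0, 0, 0, 0, 0, 0, 1, 0, 0, 0, 0, 0, 0, 0, 1, 0, 0, 0, 0, 0, 0, 0, 0, 1, 0, 1, 0, 0, 0, 0, 0, 1, 0, 0, 0, 0, 1, 0, 0, 0, 0, 0, 0, 0, 0, 0, 0, 0, 0, 0, 0, 0, 0, 0, 0, 0, 0, 0, 0, 0, 0, 0, 0, 0, 0, 0, 0, 0, 0, 0, 0, 0, 0, 0, 0, 0, 0, 0, 0, 0, 0, 0, 0, 0, 0, 0, 0, 0, 0, 0, 0, 0, 0, 0, 0, 0, 0, 0, 0, 0, 0, 0, 0, 0, 0, 0, 0, 0, 0, 0, 0, 0, 0, 0, 0, 0, 0, 0]]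

/-- part of the exponents -/
def twoVecs13 : List (List ℤ) :=
  [[0, 0, 0, 0, 0, 0, 0, 0, 0, 0, 0, 0, 0, 0, 0, 0, 0, 0, 0, 0, 0, 0, 0, 0, 0, 0, 0, 0, 0, 0, 0, 0, 0, 0, 0, 0, 0, 0, 0, 0, 0, 0, 0, 0, 0, 0, 0, 0, 0, 0, 0, 0, 0, 0, 0, 0, 0, 0, 0, 0, 0, 1, 0, 0, 0, 0, 0, 1, 0, 0, 0, 0, 1, 0, 0, 0, 0, 0, 0, 0, 0, 0, 0, 0, 0, 0, 0, 0, 0, 0, 0, 0, 0, 0, 0, 1, 0, 1, 0, 0, 0, 0, 1, 0, 0, 0, 0, 0, 0, 1, 0, 1, 0, 0, 0, 0, 1, 0, 0, 0, 0, 0, 0, 0, 0, 0, 0, 0, 0, 0, 0, 1, 0, 1, 0, 1, 0, 1, 0, 0, 0, 0, 0, 0, 0, 0, 0, 0, 0, 1, 0, 1, 0, 0, 1, 0, 0, 0, 0, 0, 0, 0, 0, 0, 0, 0, 1, 0, 1, 0, 0, 0, 0, 0, 0, 0, 0, 0, 0, 0, 0, 0, 0, 0, 0, 0, 0, 0, 0, 0, 0, 0, 0, 0, 0, 0, 0, 0, 0, 0, 0, 0, 0, 0, 0, 0, 0, 0, 0, 0, 0, 0, 0, 0, 0, 0, 0, 0, 0, 0, 0, 0, 0, 0, 0, 0, 0, 0, 0, 0, 0, 0, 0, 0, 0, 0, 0, 0, 0, 0, 0, 0,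 0, 0, 0, 0],
    [0, 0, 0, 0, 0, 0, 0, 0, 0, 0, 0, 0, 0, 0, 0, 0, 0, 0, 0, 0, 0, 0, 0, 0, 0, 0, 0, 0, 0, 0, 0, 0, 0, 0, 0, 0, 0, 0, 0, 0, 0, 0, 0, 0, 0, 0, 0, 0, 0, 0, 0, 0, 0, 0, 0, 0, 0, 0, 0, 0, 0, 0, 0, 0, 0, 0, 0, 0, 0, 0, 0, 0, 0, 0, 0, 0, 0, 0, 0, 0, 0, 0, 0, 0, 1, 0, 0, 0, 0, 0, 0, 0, 0, 0, 0, 0, 0, 0, 0, 0, 0, 0, 0, 0, 0, 1, 0, 0, 0, 0, 0, 1, 0, 0, 0, 0, 0, 0, 0, 0, 1, 0, 0, 1, 0, 0, 0, 0, 0, 0, 0, 0, 0, 0, 0, 0, 1, 0, 0, 1, 0, 0, 0, 0, 0, 0, 0, 0, 0, 0, 0, 0, 0, 0, 0, 0, 1, 0, 0, 0, 0, 0, 0, 0, 0, 0, 0, 0, 1, 0, 1, 0, 0, 0, 0, 0, 0, 0, 0, 0, 0, 0, 0, 0, 0, 0, 0, 0, 0, 0, 0, 0, 0, 0, 0, 0, 0, 0, 0, 0, 0, 0, 0, 0, 0, 0, 0, 0, 0, 0, 0, 0, 0, 0, 0, 0, 0, 0, 0, 0, 0, 0, 0, 0, 0, 0, 0, 0, 0, 0, 0, 0, 0, 0, 0, 0, 0, 0, 0, 0, 0, 0, 0, 0, 0, 0],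
    [0, 0, 0, 0, 0, 0, 0, 0, 0, 0, 0, 0, 0, 0, 0, 0, 0, 0, 0, 0, 0, 0, 0, 0, 0, 0, 0, 0, 0, 0, 0, 0, 0, 0, 0, 0, 0, 0, 0, 1, 0, 0, 0, 0, 0, 0, 0, 0, 0, 0, 0, 0, 0, 0, 0, 0, 0, 0, 0, 0, 0, 0, 0, 0, 0, 0, 0, 0, 0, 0, 0, 0, 0, 0, 0, 0, 0, 0, 0, 1, 0, 1, 0, 0, 0, 0, 0, 0, 0, 0, 0, 0, 0, 0, 0, 0, 0, 0, 0, 0, 0, 0, 0, 1, 0, 0, 0, 0, 0, 0, 0, 0, 0, 0, 0, 0, 0, 1, 0, 1, 0, 1, 1, 0, 0, 0, 0, 0, 0, 0, 0, 0, 0, 1, 1, 1, 0, 0, 1, 0, 0, 0, 0, 0, 0, 0, 0, 0, 1, 1, 0, 1, 1, 0, 0, 1, 0, 0, 0, 0, 0, 0, 0, 0, 0, 1, 1, 0, 1, 1, 0, 0, 0, 0, 0, 0, 0, 0, 0, 0, 0, 0, 0, 0, 0, 0, 0, 0, 0, 0, 0, 0, 0, 0, 0, 0, 0, 0, 0, 0, 0, 0, 0, 0, 0, 0, 0, 0, 0, 0, 0, 0, 0, 0, 0, 0, 0, 0, 0, 0, 0, 0, 0, 0, 0, 0, 0, 0, 0, 0, 0, 0, 0, 0, 0, 0, 0, 0, 0, 0, 0, 0, 0, 0, 0, 0],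
    [0, 0, 0, 0, 0, 0, 0, 0, 0, 0, 0, 0, 0, 0, 0, 0, 0, 0, 0, 0, 0, 0, 0, 0, 0, 0, 0, 0, 0, 0, 0, 0, 0, 0, 0, 0, 0, 0, 0, 0, 0, 0, 0, 0, 0, 1, 0, 0, 0, 1, 0, 0, 0, 0, 0, 0, 0, 0, 0, 0, 0, 0, 0, 0, 0, 0, 0, 0, 0, 0, 0, 0, 0, 0, 0, 0, 0, 0, 0, 0, 0, 0, 1, 0, 0, 0, 0, 1, 0, 0, 0, 0, 0, 0, 0, 0, 0, 0, 0, 0, 0, 0, 0, 0, 0, 0, 0, 0, 0, 0, 0, 0, 0, 0, 0, 0, 0, 0, 0, 0, 1, 0, 0, 0, 1, 0, 0, 0, 0, 0, 0, 0, 1, 0, 0, 0, 1, 0, 0, 0, 1, 0, 0, 0, 0, 0, 0, 0, 1, 0, 0, 0, 0, 1, 0, 0, 0, 1, 0, 0, 0, 0, 0, 0, 0, 1, 0, 0, 0, 0, 0, 0, 0, 0, 0, 0, 0, 0, 0, 0, 0, 0, 0, 0, 0, 0, 0, 0, 0, 0, 0, 0, 0, 0, 0, 0, 0, 0, 0, 0, 0, 0, 0, 0, 0, 0, 0, 0, 0, 0, 0, 0, 0, 0, 0, 0, 0, 0, 0, 0, 0, 0, 0, 0, 0, 0, 0, 0, 0, 0, 0, 0, 0, 0, 0, 0, 0, 0, 0, 0, 0, 0, 0, 0, 0, 0],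
    [0, 0, 0, 0, 0, 0, 0, 0, 0, 0, 0, 0, 0, 0, 0, 0, 0, 0, 0, 0, 0, 0, 0, 0, 0, 0, 0, 0, 0, 0, 0, 0, 0, 0, 0, 0, 0, 0, 0, 0, 0, 0, 0, 0, 0, 0, 1, 0, 0, 0, 0, 0, 0, 0, 0, 0, 0, 0, 0, 0, 0, 0, 0, 0, 0, 0, 0, 0, 0, 0, 0, 0, 0, 0, 0, 0, 0, 0, 0, 1, 0, 0, 0, 0, 0, 0, 0, 0, 0, 0, 0, 0, 0, 0, 0, 0, 0, 0, 0, 0, 0, 0, 0, 1, 1, 0, 0, 0, 0, 0, 0, 0, 0, 0, 0, 0, 0, 0, 0, 0, 1, 1, 0, 0, 0, 0, 0, 0, 0, 1, 0, 0, 1, 0, 0, 0, 1, 1, 0, 0, 0, 0, 0, 0, 0, 1, 0, 0, 1, 0, 0, 0, 0, 1, 1, 0, 0, 0, 0, 0, 0, 0, 1, 0, 0, 1, 0, 0, 0, 1, 1, 0, 0, 0, 0, 0, 0, 0, 0, 0, 0, 0, 0, 0, 0, 0, 0, 0, 0, 0, 0, 0, 0, 0, 0, 0, 0, 0, 0, 0, 0, 0, 0, 0, 0, 0, 0, 0, 0, 0, 0, 0, 0, 0, 0, 0, 0, 0, 0, 0, 0, 0, 0, 0, 0, 0, 0, 0, 0, 0, 0, 0, 0, 0, 0, 0, 0, 0, 0, 0, 0, 0, 0, 0, 0, 0],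
    [0, 0, 0, 0, 0, 0, 0, 0, 0, 0, 0, 0, 0, 0, 0, 0, 0, 0, 0, 0, 0, 0, 0, 0, 0, 0, 0, 0, 0, 0, 0, 0, 0, 0, 0, 0, 0, 0, 0, 0, 0, 0, 0, 1, 0, 0, 0, 0, 0, 0, 0, 0, 0, 0, 0, 0, 0, 0, 0, 0, 0, 0, 0, 0, 0, 0, 0, 0, 0, 0, 0, 0, 0, 0, 0, 0, 0, 0, 0, 0, 0, 0, 0, 0, 1, 1, 0, 0, 0, 0, 0, 0, 0, 1, 0, 0, 0, 0, 1, 0, 0, 0, 0, 1, 0, 0, 0, 0, 0, 0, 0, 0, 0, 0, 0, 0, 0, 1, 1, 0, 0, 0, 1, 0, 0, 0, 1, 1, 0, 0, 0, 0, 1, 1, 1, 0, 0, 0, 1, 0, 0, 0, 0, 0, 0, 0, 0, 0, 1, 1, 0, 1, 0, 0, 0, 1, 0, 0, 0, 0, 0, 0, 0, 0, 0, 0, 0, 0, 1, 1, 1, 0, 0, 0, 0, 0, 0, 0, 0, 0, 0, 0, 0, 0, 0, 0, 0, 0, 0, 0, 0, 0, 0, 0, 0, 0, 0, 0, 0, 0, 0, 0, 0, 0, 0, 0, 0, 0, 0, 0, 0, 0, 0, 0, 0, 0, 0, 0, 0, 0, 0, 0, 0, 0, 0, 0, 0, 0, 0, 0, 0, 0, 0, 0, 0, 0, 0, 0, 0, 0, 0, 0, 0, 0, 0, 0],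
    [0, 0, 0, 0, 0, 0, 0, 0, 0, 0, 0, 0, 0, 0, 0, 0, 0, 0, 0, 0, 0, 0, 0, 0, 0, 0, 0, 0, 0, 0, 0, 0, 0, 0, 0, 0, 0, 0, 0, 0, 0, 0, 1, 0, 0, 0, 1, 0, 0, 0, 0, 1, 0, 0, 0, 0, 0, 0, 0, 0, 0, 0, 0, 0, 0, 0, 0, 0, 0, 0, 0, 0, 0, 0, 0, 0, 0, 0, 0, 0, 0, 0, 0, 0, 0, 0, 0, 0, 0, 0, 0, 0, 0, 0, 0, 0, 0, 0, 0, 0, 1, 0, 0, 0, 0, 0, 0, 0, 0, 0, 0, 0, 0, 0, 0, 0, 0, 0, 0, 0, 0, 1, 0, 0, 1, 0, 0, 0, 0, 0, 0, 0, 0, 1, 0, 1, 0, 1, 0, 0, 1, 0, 0, 0, 0, 0, 0, 0, 0, 1, 0, 1, 1, 0, 1, 0, 0, 1, 0, 0, 0, 0, 0, 0, 0, 0, 1, 0, 1, 0, 0, 0, 0, 0, 0, 0, 0, 0, 0, 0, 0, 0, 0, 0, 0, 0, 0, 0, 0, 0, 0, 0, 0, 0, 0, 0, 0, 0, 0, 0, 0, 0, 0, 0, 0, 0, 0, 0, 0, 0, 0, 0, 0, 0, 0, 0, 0, 0, 0, 0, 0, 0, 0, 0, 0, 0, 0, 0, 0, 0, 0, 0, 0, 0, 0, 0, 0, 0, 0, 0, 0, 0, 0, 0, 0, 0],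
    [0, 0, 0, 0, 0, 0, 0, 0, 0, 0, 0, 0, 0, 0, 0, 0, 0, 0, 0, 0, 0, 0, 0, 0, 0, 0, 0, 0, 0, 0, 0, 0, 0, 0, 0, 0, 0, 0, 0, 0, 0, 0, 0, 0, 0, 0, 0, 0, 0, 0, 1, 0, 0, 0, 0, 1, 0, 0, 0, 0, 0, 0, 0, 0, 1, 0, 0, 0, 0, 0, 0, 0, 0, 0, 0, 0, 0, 0, 0, 0, 0, 0, 0, 1, 0, 0, 0, 0, 1, 1, 0, 0, 0, 0, 0, 0, 0, 0, 0, 0, 0, 0, 0, 0, 0, 0, 0, 0, 0, 0, 0, 0, 0, 0, 0, 0, 0, 0, 0, 0, 1, 0, 0, 0, 0, 1, 0, 0, 0, 1, 1, 0, 1, 0, 0, 0, 1, 0, 0, 0, 0, 1, 0, 0, 0, 1, 1, 0, 0, 0, 0, 0, 1, 1, 0, 0, 0, 0, 1, 0, 0, 0, 1, 1, 0, 0, 0, 0, 0, 1, 1, 0, 0, 0, 0, 0, 0, 0, 0, 0, 0, 0, 0, 0, 0, 0, 0, 0, 0, 0, 0, 0, 0, 0, 0, 0, 0, 0, 0, 0, 0, 0, 0, 0, 0, 0, 0, 0, 0, 0, 0, 0, 0, 0, 0, 0, 0, 0, 0, 0, 0, 0, 0, 0, 0, 0, 0, 0, 0, 0, 0, 0, 0, 0, 0, 0, 0, 0, 0, 0, 0, 0, 0, 0, 0, 0],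
    [0, 0, 0, 0, 0, 0, 0, 0, 0, 0, 0, 0, 0, 0, 0, 0, 0, 0, 0, 0, 0, 0, 0, 0, 0, 0, 0, 0, 0, 0, 0, 0, 0, 0, 0, 0, 0, 0, 0, 0, 0, 0, 0, 0, 0, 0, 0, 0, 1, 0, 0, 0, 0, 0, 0, 0, 1, 0, 1, 0, 0, 0, 0, 0, 0, 0, 0, 1, 0, 1, 0, 0, 0, 0, 0, 0, 0, 0, 0, 0, 0, 0, 0, 0, 0, 0, 0, 0, 0, 0, 0, 0, 0, 1, 1, 0, 0, 0, 0, 0, 0, 0, 1, 0, 0, 0, 0, 0, 1, 0, 0, 0, 0, 0, 0, 1, 1, 0, 0, 1, 0, 0, 0, 1, 0, 0, 0, 0, 0, 0, 1, 0, 0, 0, 1, 1, 0, 1, 0, 0, 0, 0, 0, 0, 0, 0, 1, 1, 0, 1, 0, 0, 1, 0, 1, 0, 0, 0, 0, 0, 0, 0, 0, 0, 1, 0, 0, 0, 1, 1, 1, 0, 0, 0, 0, 0, 0, 0, 0, 0, 0, 0, 0, 0, 0, 0, 0, 0, 0, 0, 0, 0, 0, 0, 0, 0, 0, 0, 0, 0, 0, 0, 0, 0, 0, 0, 0, 0, 0, 0, 0, 0, 0, 0, 0, 0, 0, 0, 0, 0, 0, 0, 0, 0, 0, 0, 0, 0, 0, 0, 0, 0, 0, 0, 0, 0, 0, 0, 0, 0, 0, 0, 0, 0, 0, 0],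
    [0, 0, 0, 0, 0, 0, 0, 0, 0, 0, 0, 0, 0, 0, 0, 0, 0, 0, 0, 0, 0, 0, 0, 0, 0, 0, 0, 0, 0, 0, 0, 0, 0, 0, 0, 0, 0, 0, 0, 0, 0, 1, 0, 0, 0, 0, 0, 1, 0, 0, 1, 0, 0, 0, 0, 0, 0, 0, 0, 0, 0, 0, 0, 0, 1, 0, 0, 0, 0, 0, 0, 0, 0, 0, 0, 0, 0, 0, 0, 0, 0, 0, 1, 1, 0, 0, 0, 1, 1, 1, 0, 0, 0, 0, 0, 0, 0, 0, 0, 0, 0, 0, 0, 0, 0, 0, 0, 0, 0, 0, 0, 0, 0, 0, 0, 0, 0, 0, 0, 0, 0, 0, 1, 0, 1, 1, 0, 0, 0, 0, 1, 0, 0, 0, 0, 1, 0, 0, 1, 0, 0, 0, 0, 0, 0, 1, 0, 1, 1, 0, 0, 1, 1, 0, 0, 1, 0, 0, 0, 0, 0, 0, 1, 0, 1, 1, 0, 0, 1, 1, 1, 0, 0, 0, 0, 0, 0, 0, 0, 0, 0, 0, 0, 0, 0, 0, 0, 0, 0, 0, 0, 0, 0, 0, 0, 0, 0, 0, 0, 0, 0, 0, 0, 0, 0, 0, 0, 0, 0, 0, 0, 0, 0, 0, 0, 0, 0, 0, 0, 0, 0, 0, 0, 0, 0, 0, 0, 0, 0, 0, 0, 0, 0, 0, 0, 0, 0, 0, 0, 0, 0, 0, 0, 0, 0, 0]]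

/-- part of the exponents -/
def twoVecs14 : List (List ℤ) :=
  [[0, 0, 0, 0, 0, 0, 0, 0, 0, 0, 0, 0, 0, 0, 0, 0, 0, 0, 0, 0, 0, 0, 0, 0, 0, 0, 0, 0, 0, 0, 0, 0, 0, 0, 0, 0, 0, 0, 0, 0, 0, 0, 1, 1, 0, 0, 0, 0, 0, 0, 0, 0, 0, 0, 0, 0, 1, 0, 0, 0, 0, 1, 1, 0, 0, 0, 0, 0, 0, 0, 0, 0, 0, 0, 0, 0, 0, 0, 0, 0, 0, 0, 0, 0, 0, 0, 0, 0, 0, 0, 0, 0, 0, 0, 0, 0, 0, 0, 1, 0, 0, 1, 0, 0, 0, 0, 0, 0, 0, 0, 0, 0, 0, 0, 0, 1, 0, 0, 1, 0, 0, 1, 0, 0, 0, 1, 0, 0, 0, 0, 0, 0, 0, 1, 1, 1, 0, 1, 0, 0, 0, 1, 0, 1, 0, 0, 0, 0, 0, 0, 1, 1, 1, 0, 1, 0, 0, 0, 1, 0, 1, 0, 0, 1, 0, 0, 1, 1, 1, 1, 1, 0, 0, 0, 0, 0, 0, 0, 0, 0, 0, 0, 0, 0, 0, 0, 0, 0, 0, 0, 0, 0, 0, 0, 0, 0, 0, 0, 0, 0, 0, 0, 0, 0, 0, 0, 0, 0, 0, 0, 0, 0, 0, 0, 0, 0, 0, 0, 0, 0, 0, 0, 0, 0, 0, 0, 0, 0, 0, 0, 0, 0, 0, 0, 0, 0, 0, 0, 0, 0, 0, 0,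 0, 0, 0, 0],
    [0, 0, 0, 0, 0, 0, 0, 0, 0, 0, 0, 0, 0, 0, 0, 0, 0, 0, 0, 0, 0, 0, 0, 0, 0, 0, 0, 0, 0, 0, 0, 0, 0, 0, 0, 0, 0, 0, 0, 0, 0, 0, 0, 0, 1, 0, 0, 0, 0, 0, 0, 0, 0, 0, 0, 0, 0, 0, 0, 0, 0, 0, 0, 0, 0, 0, 0, 0, 0, 0, 0, 0, 0, 0, 0, 0, 0, 0, 0, 0, 0, 0, 0, 0, 0, 0, 0, 0, 0, 0, 0, 0, 0, 0, 0, 0, 0, 0, 0, 0, 0, 0, 0, 0, 0, 0, 0, 0, 0, 0, 0, 0, 0, 0, 0, 0, 0, 0, 0, 0, 0, 0, 0, 0, 0, 0, 0, 0, 0, 0, 0, 0, 0, 0, 0, 1, 0, 0, 0, 0, 0, 0, 0, 0, 0, 0, 0, 0, 0, 0, 0, 1, 1, 0, 0, 0, 0, 0, 0, 0, 0, 0, 0, 0, 0, 0, 0, 0, 0, 0, 0, 0, 0, 0, 0, 0, 0, 0, 0, 0, 0, 0, 0, 0, 0, 0, 0, 0, 0, 0, 0, 0, 0, 0, 0, 0, 0, 0, 0, 0, 0, 0, 0, 0, 0, 0, 0, 0, 0, 0, 0, 0, 0, 0, 0, 0, 0, 0, 0, 0, 0, 0, 0, 0, 0, 0, 0, 0, 0, 0, 0, 0, 0, 0, 0, 0, 0, 0, 0, 0, 0, 0, 0, 0, 0, 0],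
    [0, 0, 0, 0, 0, 0, 0, 0, 0, 0, 0, 0, 0, 0, 0, 0, 0, 0, 0, 0, 0, 0, 0, 0, 0, 0, 0, 0, 0, 0, 0, 0, 0, 0, 0, 0, 0, 0, 0, 0, 0, 0, 0, 0, 0, 0, 0, 0, 0, 0, 0, 0, 0, 1, 0, 0, 0, 0, 0, 0, 0, 0, 0, 0, 0, 0, 0, 0, 0, 0, 0, 0, 0, 0, 0, 0, 0, 0, 0, 0, 0, 0, 0, 0, 0, 0, 0, 0, 0, 0, 0, 0, 0, 0, 0, 0, 0, 0, 0, 0, 0, 0, 0, 0, 0, 0, 0, 0, 0, 0, 0, 0, 0, 0, 0, 0, 0, 0, 0, 0, 0, 0, 0, 0, 0, 0, 0, 0, 0, 0, 0, 0, 1, 0, 1, 0, 0, 0, 0, 0, 0, 0, 0, 0, 0, 0, 0, 0, 1, 0, 1, 0, 0, 0, 0, 0, 0, 0, 0, 0, 0, 0, 0, 0, 0, 0, 0, 0, 0, 0, 0, 0, 0, 0, 0, 0, 0, 0, 0, 0, 0, 0, 0, 0, 0, 0, 0, 0, 0, 0, 0, 0, 0, 0, 0, 0, 0, 0, 0, 0, 0, 0, 0, 0, 0, 0, 0, 0, 0, 0, 0, 0, 0, 0, 0, 0, 0, 0, 0, 0, 0, 0, 0, 0, 0, 0, 0, 0, 0, 0, 0, 0, 0, 0, 0, 0, 0, 0, 0, 0, 0, 0, 0, 0, 0, 0],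
    [0, 0, 0, 0, 0, 0, 0, 0, 0, 0, 0, 0, 0, 0, 0, 0, 0, 0, 0, 0, 0, 0, 0, 0, 0, 0, 0, 0, 0, 0, 0, 0, 0, 0, 0, 0, 0, 0, 0, 0, 0, 0, 0, 0, 0, 0, 0, 0, 0, 0, 0, 0, 0, 0, 1, 0, 0, 0, 0, 0, 0, 0, 0, 0, 0, 0, 0, 0, 0, 0, 0, 0, 0, 0, 0, 0, 0, 0, 0, 0, 0, 0, 0, 0, 0, 0, 0, 0, 0, 0, 1, 0, 0, 0, 0, 0, 0, 0, 0, 0, 0, 0, 0, 0, 0, 0, 0, 0, 0, 0, 0, 0, 0, 0, 0, 0, 0, 1, 0, 1, 0, 0, 0, 0, 0, 0, 0, 0, 0, 0, 0, 0, 0, 0, 0, 0, 0, 0, 0, 0, 0, 0, 0, 0, 0, 0, 0, 0, 0, 0, 0, 0, 0, 0, 0, 0, 0, 0, 0, 0, 0, 0, 0, 0, 0, 0, 0, 0, 0, 0, 0, 0, 0, 0, 0, 0, 0, 0, 0, 0, 0, 0, 0, 0, 0, 0, 0, 0, 0, 0, 0, 0, 0, 0, 0, 0, 0, 0, 0, 0, 0, 0, 0, 0, 0, 0, 0, 0, 0, 0, 0, 0, 0, 0, 0, 0, 0, 0, 0, 0, 0, 0, 0, 0, 0, 0, 0, 0, 0, 0, 0, 0, 0, 0, 0, 0, 0, 0, 0, 0, 0, 0, 0, 0, 0, 0],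
    [0, 0, 0, 0, 0, 0, 0, 0, 0, 0, 0, 0, 0, 0, 0, 0, 0, 0, 0, 0, 0, 0, 0, 0, 0, 0, 0, 0, 0, 0, 0, 0, 0, 0, 0, 0, 0, 0, 0, 0, 0, 0, 0, 0, 0, 0, 0, 0, 0, 0, 0, 0, 0, 0, 0, 0, 0, 0, 0, 0, 0, 0, 0, 1, 0, 0, 0, 0, 0, 0, 0, 0, 0, 0, 0, 0, 0, 0, 0, 0, 0, 0, 0, 0, 0, 0, 0, 0, 0, 0, 0, 0, 0, 0, 0, 0, 0, 0, 0, 0, 0, 0, 0, 0, 0, 0, 0, 0, 0, 0, 0, 0, 0, 0, 0, 0, 0, 0, 0, 0, 0, 0, 0, 0, 0, 0, 0, 0, 0, 1, 1, 1, 0, 1, 0, 0, 0, 0, 0, 0, 0, 0, 0, 0, 0, 1, 1, 1, 0, 1, 0, 1, 0, 0, 0, 0, 0, 0, 0, 0, 0, 0, 0, 0, 0, 0, 0, 0, 0, 0, 0, 0, 0, 0, 0, 0, 0, 0, 0, 0, 0, 0, 0, 0, 0, 0, 0, 0, 0, 0, 0, 0, 0, 0, 0, 0, 0, 0, 0, 0, 0, 0, 0, 0, 0, 0, 0, 0, 0, 0, 0, 0, 0, 0, 0, 0, 0, 0, 0, 0, 0, 0, 0, 0, 0, 0, 0, 0, 0, 0, 0, 0, 0, 0, 0, 0, 0, 0, 0, 0, 0, 0, 0, 0, 0, 0],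
    [0, 0, 1, 0, 0, 1, 0, 0, 0, 0, 0, 0, 0, 0, 0, 0, 0, 0, 0, 0, 0, 0, 0, 0, 0, 0, 0, 0, 0, 0, 1, 0, 0, 0, 0, 1, 0, 0, 0, 0, 0, 0, 0, 0, 0, 0, 0, 0, 0, 0, 0, 0, 0, 0, 0, 0, 0, 0, 0, 0, 0, 0, 0, 0, 0, 0, 0, 0, 0, 0, 0, 0, 0, 0, 0, 0, 0, 0, 0, 0, 1, 0, 0, 0, 0, 1, 0, 0, 0, 0, 1, 0, 0, 0, 0, 0, 0, 0, 0, 0, 0, 0, 0, 0, 0, 0, 1, 0, 0, 0, 0, 0, 0, 0, 0, 0, 0, 0, 0, 1, 0, 0, 0, 0, 0, 0, 0, 0, 0, 0, 0, 0, 0, 0, 0, 0, 0, 0, 0, 0, 0, 0, 0, 1, 0, 0, 0, 0, 0, 0, 0, 0, 1, 0, 1, 0, 0, 0, 0, 0, 1, 0, 0, 0, 0, 0, 0, 1, 0, 1, 0, 0, 0, 0, 0, 0, 0, 0, 0, 0, 0, 0, 0, 0, 0, 0, 0, 0, 0, 0, 0, 0, 0, 0, 0, 0, 0, 0, 0, 0, 0, 0, 0, 0, 0, 0, 0, 0, 0, 0, 0, 0, 0, 0, 0, 0, 0, 0, 0, 0, 0, 0, 0, 0, 0, 0, 0, 0, 0, 0, 0, 0, 0, 0, 0, 0, 0, 0, 0, 0, 0, 0, 0, 0, 0, 0],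
    [0, 0, 0, 0, 0, 0, 0, 1, 0, 0, 0, 0, 0, 0, 0, 0, 0, 1, 0, 0, 0, 0, 1, 0, 0, 0, 0, 0, 0, 1, 0, 0, 0, 1, 0, 0, 0, 0, 0, 0, 0, 0, 0, 0, 0, 0, 0, 0, 0, 0, 0, 0, 0, 0, 0, 0, 0, 0, 0, 0, 0, 0, 0, 0, 0, 0, 0, 0, 0, 0, 0, 0, 0, 0, 0, 0, 0, 0, 0, 0, 0, 0, 0, 1, 0, 0, 0, 0, 0, 0, 0, 0, 0, 0, 0, 0, 0, 0, 0, 0, 0, 0, 0, 0, 0, 0, 1, 0, 1, 0, 0, 1, 1, 0, 0, 0, 0, 0, 0, 0, 0, 0, 1, 0, 0, 0, 0, 1, 0, 0, 0, 0, 1, 0, 0, 0, 0, 0, 0, 0, 0, 0, 0, 1, 0, 0, 0, 0, 1, 0, 0, 1, 0, 0, 0, 0, 1, 0, 0, 0, 0, 0, 0, 0, 0, 1, 0, 1, 1, 0, 1, 0, 0, 0, 0, 0, 0, 0, 0, 0, 0, 0, 0, 0, 0, 0, 0, 0, 0, 0, 0, 0, 0, 0, 0, 0, 0, 0, 0, 0, 0, 0, 0, 0, 0, 0, 0, 0, 0, 0, 0, 0, 0, 0, 0, 0, 0, 0, 0, 0, 0, 0, 0, 0, 0, 0, 0, 0, 0, 0, 0, 0, 0, 0, 0, 0, 0, 0, 0, 0, 0, 0, 0, 0, 0, 0],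
    [0, 0, 1, 0, 0, 0, 0, 1, 0, 1, 0, 0, 0, 0, 0, 0, 0, 0, 0, 0, 1, 0, 1, 0, 1, 0, 0, 1, 0, 1, 0, 1, 0, 0, 1, 1, 0, 0, 0, 0, 0, 0, 0, 0, 0, 0, 0, 0, 0, 0, 0, 0, 0, 0, 0, 0, 0, 0, 0, 0, 0, 0, 0, 0, 0, 0, 0, 0, 0, 0, 0, 0, 0, 0, 0, 0, 0, 0, 0, 0, 0, 0, 0, 0, 0, 0, 0, 0, 0, 0, 0, 0, 0, 0, 0, 0, 0, 0, 0, 0, 0, 0, 0, 0, 0, 0, 0, 0, 0, 0, 0, 0, 0, 0, 0, 0, 0, 0, 0, 0, 0, 0, 0, 0, 0, 1, 0, 0, 0, 0, 0, 0, 0, 0, 0, 1, 0, 0, 0, 0, 0, 0, 0, 0, 0, 0, 0, 0, 0, 0, 0, 0, 0, 0, 1, 0, 1, 0, 0, 1, 1, 0, 0, 0, 0, 0, 0, 0, 0, 0, 1, 0, 0, 0, 0, 0, 0, 0, 0, 0, 0, 0, 0, 0, 0, 0, 0, 0, 0, 0, 0, 0, 0, 0, 0, 0, 0, 0, 0, 0, 0, 0, 0, 0, 0, 0, 0, 0, 0, 0, 0, 0, 0, 0, 0, 0, 0, 0, 0, 0, 0, 0, 0, 0, 0, 0, 0, 0, 0, 0, 0, 0, 0, 0, 0, 0, 0, 0, 0, 0, 0, 0, 0, 0, 0, 0],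
    [0, 0, 0, 0, 0, 0, 0, 0, 0, 0, 0, 0, 0, 0, 0, 0, 0, 0, 0, 0, 0, 0, 0, 0, 0, 0, 0, 0, 0, 0, 0, 0, 0, 0, 0, 0, 0, 1, 1, 0, 0, 0, 0, 1, 1, 0, 0, 1, 1, 0, 0, 0, 1, 1, 1, 0, 0, 1, 0, 0, 0, 0, 0, 1, 1, 0, 0, 0, 0, 1, 0, 0, 0, 1, 1, 1, 1, 0, 0, 0, 0, 1, 0, 0, 0, 1, 0, 1, 0, 1, 0, 0, 0, 0, 0, 0, 0, 0, 0, 0, 1, 0, 0, 0, 1, 0, 0, 1, 1, 0, 0, 0, 0, 0, 0, 0, 1, 1, 1, 1, 0, 0, 0, 0, 0, 0, 0, 0, 1, 1, 1, 1, 1, 1, 1, 0, 0, 0, 1, 0, 0, 0, 0, 0, 0, 0, 1, 1, 0, 0, 1, 0, 0, 0, 0, 0, 1, 0, 0, 0, 0, 0, 1, 1, 1, 1, 0, 1, 0, 1, 0, 0, 0, 0, 0, 0, 0, 0, 0, 0, 0, 0, 0, 0, 0, 0, 0, 0, 0, 1, 1, 0, 1, 0, 0, 0, 0, 0, 0, 0, 0, 0, 0, 0, 0, 0, 0, 0, 0, 0, 0, 0, 0, 0, 0, 0, 0, 0, 0, 0, 0, 0, 0, 0, 0, 0, 0, 0, 0, 0, 0, 0, 0, 0, 0, 0, 0, 0, 0, 0, 0, 0, 0, 0, 0, 0],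
    [0, 0, 0, 0, 0, 0, 0, 0, 0, 0, 0, 0, 0, 0, 0, 0, 0, 0, 0, 0, 0, 0, 0, 0, 0, 0, 0, 0, 0, 0, 0, 0, 0, 0, 0, 0, 0, 0, 1, 1, 0, 0, 0, 1, 1, 0, 1, 0, 1, 0, 0, 0, 0, 1, 1, 0, 0, 1, 1, 0, 0, 0, 1, 0, 0, 1, 0, 0, 0, 0, 0, 0, 0, 0, 0, 0, 1, 1, 0, 0, 0, 1, 0, 0, 0, 1, 0, 0, 1, 0, 0, 0, 0, 0, 1, 0, 0, 0, 1, 1, 1, 1, 0, 0, 1, 0, 0, 0, 0, 0, 0, 0, 1, 1, 1, 0, 0, 0, 0, 1, 0, 0, 0, 1, 0, 0, 0, 0, 1, 1, 1, 1, 1, 0, 1, 1, 0, 0, 0, 0, 0, 0, 0, 1, 0, 0, 0, 0, 1, 1, 0, 1, 1, 0, 0, 0, 0, 0, 0, 0, 0, 0, 0, 1, 0, 1, 1, 1, 0, 0, 1, 0, 0, 0, 0, 0, 0, 0, 0, 0, 0, 0, 0, 0, 0, 0, 0, 0, 0, 0, 1, 1, 1, 0, 0, 0, 0, 0, 0, 0, 0, 0, 0, 0, 0, 0, 0, 0, 0, 0, 0, 0, 0, 0, 0, 0, 0, 0, 0, 0, 0, 0, 0, 0, 0, 0, 0, 0, 0, 0, 0, 0, 0, 0, 0, 0, 0, 0, 0, 0, 0, 0, 0, 0, 0, 0]]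

/-- part of the exponents -/
def twoVecs15 : List (List ℤ) :=
  [[0, 0, 0, 0, 0, 0, 0, 0, 0, 0, 0, 0, 0, 0, 0, 0, 0, 0, 0, 0, 0, 0, 0, 0, 0, 0, 0, 0, 0, 0, 0, 0, 0, 0, 0, 0, 0, 0, 0, 0, 0, 0, 0, 0, 0, 0, 0, 1, 1, 0, 0, 0, 1, 0, 0, 0, 1, 0, 0, 0, 0, 0, 1, 0, 0, 0, 0, 0, 1, 0, 0, 0, 0, 0, 0, 0, 1, 0, 0, 0, 0, 0, 0, 0, 0, 0, 0, 0, 0, 0, 0, 0, 0, 0, 1, 0, 0, 0, 1, 0, 0, 1, 0, 0, 0, 0, 0, 0, 1, 0, 0, 0, 0, 0, 0, 0, 1, 0, 0, 1, 0, 0, 0, 0, 0, 0, 0, 0, 0, 0, 1, 1, 0, 1, 1, 1, 0, 0, 0, 1, 0, 0, 0, 0, 0, 0, 0, 0, 0, 0, 0, 1, 1, 0, 0, 0, 1, 0, 0, 0, 0, 0, 0, 0, 1, 0, 0, 1, 0, 1, 1, 0, 0, 0, 0, 0, 0, 0, 0, 0, 0, 0, 0, 0, 0, 0, 0, 0, 0, 1, 0, 1, 0, 0, 0, 0, 0, 0, 0, 0, 0, 0, 0, 0, 0, 0, 0, 0, 0, 0, 0, 0, 0, 0, 0, 0, 0, 0, 0, 0, 0, 0, 0, 0, 0, 0, 0, 0, 0, 0, 0, 0, 0, 0, 0, 0, 0, 0, 0, 0, 0, 0,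 0, 0, 0, 0],
    [0, 0, 0, 0, 0, 0, 0, 0, 0, 0, 0, 0, 0, 0, 0, 0, 0, 0, 0, 0, 0, 0, 0, 0, 0, 0, 0, 0, 0, 0, 0, 0, 0, 0, 0, 0, 0, 0, 0, 0, 0, 0, 0, 0, 0, 0, 0, 1, 1, 0, 0, 0, 1, 0, 0, 0, 0, 1, 0, 0, 0, 0, 0, 0, 0, 0, 0, 1, 0, 0, 0, 0, 0, 1, 0, 0, 1, 0, 0, 0, 0, 0, 0, 0, 0, 0, 0, 0, 0, 0, 0, 0, 0, 0, 0, 0, 0, 0, 1, 0, 0, 0, 1, 0, 0, 0, 0, 0, 0, 0, 0, 0, 1, 0, 0, 0, 1, 0, 0, 0, 0, 0, 1, 0, 0, 0, 0, 0, 0, 0, 1, 1, 0, 0, 0, 1, 0, 0, 1, 0, 0, 0, 0, 1, 0, 0, 0, 0, 0, 1, 1, 0, 1, 0, 0, 1, 0, 0, 0, 0, 0, 0, 0, 0, 1, 0, 1, 0, 1, 0, 1, 0, 0, 0, 0, 0, 0, 0, 0, 0, 0, 0, 0, 0, 0, 0, 0, 0, 0, 0, 0, 1, 0, 0, 0, 0, 0, 0, 0, 0, 0, 0, 0, 0, 0, 0, 0, 0, 0, 0, 0, 0, 0, 0, 0, 0, 0, 0, 0, 0, 0, 0, 0, 0, 0, 0, 0, 0, 0, 0, 0, 0, 0, 0, 0, 0, 0, 0, 0, 0, 0, 0, 0, 0, 0, 0],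
    [0, 0, 0, 0, 0, 0, 0, 0, 0, 0, 0, 0, 0, 0, 0, 0, 0, 0, 0, 0, 0, 0, 0, 0, 0, 0, 0, 0, 0, 0, 0, 0, 0, 0, 0, 0, 0, 0, 1, 1, 0, 0, 0, 1, 0, 0, 0, 1, 1, 0, 0, 0, 1, 0, 0, 0, 0, 1, 0, 0, 0, 0, 0, 0, 0, 0, 0, 0, 1, 0, 0, 0, 0, 0, 0, 0, 0, 0, 0, 0, 0, 1, 0, 0, 0, 1, 0, 1, 0, 0, 0, 0, 0, 0, 0, 0, 0, 0, 0, 0, 1, 0, 0, 0, 1, 0, 1, 0, 1, 0, 0, 0, 1, 0, 0, 0, 0, 1, 1, 0, 0, 0, 1, 0, 0, 0, 0, 1, 0, 0, 1, 1, 0, 1, 0, 0, 0, 0, 0, 0, 0, 0, 0, 0, 0, 0, 1, 1, 1, 0, 0, 1, 0, 0, 0, 0, 0, 0, 0, 0, 0, 0, 1, 1, 1, 1, 0, 0, 0, 0, 0, 0, 0, 0, 0, 0, 0, 0, 0, 0, 0, 0, 0, 0, 0, 0, 0, 0, 0, 0, 0, 0, 0, 1, 0, 0, 0, 0, 0, 0, 0, 0, 0, 0, 0, 0, 0, 0, 0, 0, 0, 0, 0, 0, 0, 0, 0, 0, 0, 0, 0, 0, 0, 0, 0, 0, 0, 0, 0, 0, 0, 0, 0, 0, 0, 0, 0, 0, 0, 0, 0, 0, 0, 0, 0, 0],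
    [0, 1, 1, 0, 1, 0, 0, 0, 1, 0, 1, 1, 1, 0, 1, 0, 1, 0, 0, 1, 1, 0, 0, 0, 0, 0, 1, 1, 1, 1, 0, 0, 0, 0, 0, 1, 0, 0, 0, 0, 0, 0, 0, 0, 0, 0, 0, 0, 0, 0, 0, 0, 0, 0, 0, 0, 0, 0, 0, 0, 0, 0, 0, 0, 0, 0, 0, 0, 0, 0, 0, 0, 0, 0, 0, 0, 0, 0, 0, 0, 0, 0, 0, 0, 0, 0, 0, 0, 0, 0, 0, 0, 0, 0, 0, 0, 0, 0, 0, 0, 0, 0, 0, 0, 0, 0, 0, 0, 0, 0, 0, 0, 0, 0, 0, 0, 0, 0, 0, 0, 0, 0, 0, 0, 0, 0, 0, 0, 0, 0, 0, 0, 0, 0, 0, 0, 0, 0, 0, 0, 0, 0, 0, 0, 0, 0, 0, 0, 0, 0, 0, 0, 0, 0, 0, 0, 0, 0, 0, 0, 0, 0, 0, 0, 0, 0, 0, 0, 0, 0, 0, 0, 0, 0, 0, 0, 0, 0, 0, 0, 0, 0, 0, 0, 0, 0, 0, 0, 0, 0, 0, 0, 0, 0, 0, 0, 1, 0, 0, 0, 0, 0, 0, 0, 0, 0, 0, 0, 0, 0, 0, 0, 0, 0, 0, 0, 0, 0, 0, 0, 0, 0, 0, 0, 0, 0, 0, 0, 0, 0, 0, 0, 0, 0, 0, 0, 0, 0, 0, 0, 0, 0, 0, 0, 0, 0],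
    [0, 1, 0, 0, 1, 0, 0, 0, 0, 1, 1, 1, 1, 1, 0, 0, 0, 0, 0, 0, 0, 0, 0, 0, 1, 0, 0, 1, 1, 0, 1, 0, 1, 0, 1, 1, 0, 0, 0, 0, 0, 0, 0, 0, 0, 0, 0, 0, 0, 0, 0, 0, 0, 0, 0, 0, 0, 0, 0, 0, 0, 0, 0, 0, 0, 0, 0, 0, 0, 0, 0, 0, 0, 0, 0, 0, 0, 0, 0, 0, 0, 0, 0, 0, 0, 0, 0, 0, 0, 0, 0, 0, 0, 0, 0, 0, 0, 0, 0, 0, 0, 0, 0, 0, 0, 0, 0, 0, 0, 0, 0, 0, 0, 0, 0, 0, 0, 0, 0, 0, 0, 0, 0, 0, 0, 0, 0, 0, 0, 0, 0, 0, 0, 0, 0, 0, 0, 0, 0, 0, 0, 0, 0, 0, 0, 0, 0, 0, 0, 0, 0, 0, 0, 0, 0, 0, 0, 0, 0, 0, 0, 0, 0, 0, 0, 0, 0, 0, 0, 0, 0, 0, 0, 0, 0, 0, 0, 0, 0, 0, 0, 0, 0, 0, 0, 0, 0, 0, 0, 0, 0, 0, 0, 0, 0, 0, 1, 0, 0, 0, 0, 0, 0, 0, 0, 0, 0, 0, 0, 0, 0, 0, 0, 0, 0, 0, 0, 0, 0, 0, 0, 0, 0, 0, 0, 0, 0, 0, 0, 0, 0, 0, 0, 0, 0, 0, 0, 0, 0, 0, 0, 0, 0, 0, 0, 0],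
    [0, 0, 0, 0, 0, 0, 0, 0, 0, 0, 0, 0, 0, 0, 0, 0, 0, 0, 0, 0, 0, 0, 0, 0, 0, 0, 0, 0, 0, 0, 0, 0, 0, 0, 0, 0, 1, 0, 1, 0, 0, 0, 0, 0, 0, 0, 0, 1, 0, 0, 0, 0, 0, 0, 0, 0, 0, 0, 0, 0, 0, 0, 0, 0, 0, 0, 0, 0, 0, 0, 0, 0, 0, 0, 0, 0, 0, 0, 1, 1, 0, 0, 1, 0, 0, 1, 0, 1, 1, 1, 1, 1, 1, 0, 0, 0, 0, 0, 0, 0, 0, 0, 0, 0, 0, 1, 1, 1, 0, 1, 0, 0, 1, 0, 0, 0, 0, 0, 1, 1, 0, 0, 1, 0, 0, 0, 0, 0, 0, 1, 1, 1, 1, 0, 0, 0, 1, 1, 0, 0, 1, 0, 0, 0, 0, 0, 0, 0, 1, 1, 0, 1, 0, 0, 0, 0, 0, 1, 0, 0, 0, 0, 0, 0, 0, 1, 1, 1, 1, 0, 1, 0, 0, 0, 0, 0, 0, 0, 0, 0, 0, 0, 0, 0, 0, 0, 0, 0, 0, 0, 0, 0, 0, 0, 0, 0, 0, 0, 1, 1, 1, 0, 0, 0, 0, 0, 0, 0, 0, 0, 0, 0, 0, 0, 0, 0, 0, 0, 0, 0, 0, 0, 0, 0, 0, 0, 0, 0, 0, 0, 0, 0, 0, 0, 0, 0, 0, 0, 0, 0, 0, 0, 0, 0, 0, 0],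
    [0, 0, 0, 0, 0, 0, 0, 0, 0, 0, 0, 0, 0, 0, 0, 0, 0, 0, 0, 0, 0, 0, 0, 0, 0, 0, 0, 0, 0, 0, 0, 0, 0, 0, 0, 0, 0, 0, 0, 0, 1, 0, 0, 0, 1, 0, 0, 0, 0, 0, 0, 0, 0, 1, 1, 0, 0, 0, 0, 0, 0, 0, 0, 1, 1, 1, 0, 0, 0, 0, 0, 0, 0, 0, 0, 0, 0, 0, 0, 1, 0, 0, 0, 0, 0, 1, 0, 0, 0, 0, 0, 0, 1, 0, 0, 0, 0, 0, 0, 0, 0, 0, 0, 0, 0, 0, 1, 0, 0, 0, 0, 0, 1, 0, 0, 0, 0, 0, 1, 1, 0, 0, 0, 0, 0, 0, 0, 0, 1, 1, 1, 0, 0, 1, 1, 1, 0, 1, 0, 0, 0, 0, 0, 1, 0, 0, 0, 0, 0, 0, 0, 0, 1, 0, 0, 0, 0, 0, 0, 0, 1, 0, 0, 0, 0, 0, 0, 0, 1, 0, 0, 0, 0, 0, 0, 0, 0, 0, 0, 0, 0, 0, 0, 0, 0, 0, 0, 0, 0, 0, 0, 0, 0, 0, 0, 0, 0, 0, 1, 0, 0, 0, 0, 0, 1, 1, 1, 0, 0, 0, 0, 0, 0, 0, 0, 0, 0, 0, 0, 0, 0, 0, 0, 0, 0, 0, 0, 0, 0, 0, 0, 0, 0, 0, 0, 0, 0, 0, 0, 0, 0, 0, 0, 0, 0, 0],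
    [0, 0, 0, 0, 0, 0, 0, 0, 0, 0, 0, 0, 0, 0, 0, 0, 0, 0, 0, 0, 0, 0, 0, 0, 0, 0, 0, 0, 0, 0, 0, 0, 0, 0, 0, 0, 0, 0, 0, 0, 0, 1, 0, 0, 1, 0, 0, 0, 0, 0, 0, 0, 0, 1, 1, 0, 0, 0, 0, 0, 0, 0, 0, 1, 1, 1, 0, 0, 0, 0, 0, 0, 0, 0, 0, 0, 0, 0, 0, 0, 0, 1, 0, 0, 0, 1, 0, 0, 0, 0, 0, 0, 0, 0, 1, 0, 0, 0, 1, 0, 0, 0, 0, 0, 1, 0, 0, 0, 1, 0, 0, 0, 0, 0, 0, 0, 0, 0, 0, 1, 0, 0, 0, 0, 0, 0, 0, 1, 1, 1, 1, 0, 0, 1, 0, 0, 0, 0, 0, 1, 0, 0, 0, 0, 0, 0, 0, 0, 0, 0, 1, 1, 0, 0, 0, 0, 0, 0, 0, 0, 1, 0, 0, 0, 0, 0, 0, 1, 0, 0, 0, 0, 0, 0, 0, 0, 0, 0, 0, 0, 0, 0, 0, 0, 0, 0, 0, 0, 0, 0, 0, 0, 0, 0, 0, 0, 0, 0, 0, 1, 0, 0, 0, 0, 1, 1, 1, 0, 0, 0, 0, 0, 0, 0, 0, 0, 0, 0, 0, 0, 0, 0, 0, 0, 0, 0, 0, 0, 0, 0, 0, 0, 0, 0, 0, 0, 0, 0, 0, 0, 0, 0, 0, 0, 0, 0],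
    [0, 0, 0, 0, 0, 0, 0, 0, 0, 0, 0, 0, 0, 0, 0, 0, 0, 0, 0, 0, 0, 0, 0, 0, 0, 0, 0, 0, 0, 0, 0, 0, 0, 0, 0, 0, 0, 0, 0, 0, 0, 0, 0, 0, 1, 1, 0, 1, 0, 0, 0, 0, 0, 1, 1, 0, 0, 0, 0, 0, 0, 0, 0, 1, 1, 1, 0, 0, 0, 0, 0, 0, 0, 0, 0, 0, 0, 0, 0, 0, 0, 0, 0, 0, 0, 0, 0, 0, 0, 0, 0, 0, 0, 0, 0, 0, 0, 0, 0, 0, 0, 0, 0, 0, 1, 0, 0, 0, 0, 0, 0, 0, 0, 0, 0, 0, 0, 0, 0, 0, 1, 1, 0, 0, 1, 0, 0, 1, 1, 1, 1, 0, 0, 1, 1, 1, 1, 1, 0, 0, 0, 0, 0, 0, 0, 0, 0, 0, 0, 1, 1, 1, 0, 0, 0, 1, 0, 1, 0, 0, 1, 0, 0, 0, 0, 0, 1, 0, 0, 1, 1, 0, 0, 0, 0, 0, 0, 0, 0, 0, 0, 0, 0, 0, 0, 0, 0, 0, 0, 0, 0, 0, 0, 0, 0, 0, 0, 0, 0, 1, 1, 0, 0, 0, 1, 1, 1, 0, 0, 0, 0, 0, 0, 0, 0, 0, 0, 0, 0, 0, 0, 0, 0, 0, 0, 0, 0, 0, 0, 0, 0, 0, 0, 0, 0, 0, 0, 0, 0, 0, 0, 0, 0, 0, 0, 0],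
    [0, 0, 0, 0, 0, 0, 0, 0, 0, 0, 0, 0, 0, 0, 0, 0, 0, 0, 0, 0, 0, 0, 0, 0, 0, 0, 0, 0, 0, 0, 0, 0, 0, 0, 0, 0, 0, 0, 0, 0, 0, 0, 0, 0, 1, 0, 0, 0, 0, 0, 1, 0, 0, 1, 1, 0, 0, 0, 0, 0, 0, 0, 0, 1, 1, 1, 0, 0, 0, 0, 0, 0, 0, 0, 0, 0, 0, 0, 0, 0, 0, 0, 0, 0, 0, 0, 0, 0, 0, 0, 0, 0, 0, 0, 0, 0, 0, 0, 0, 0, 0, 0, 0, 0, 0, 0, 0, 0, 0, 0, 0, 0, 0, 0, 0, 0, 0, 0, 0, 1, 0, 0, 0, 1, 0, 0, 0, 1, 1, 1, 1, 0, 0, 0, 0, 1, 0, 0, 0, 1, 0, 0, 0, 1, 0, 0, 0, 0, 0, 0, 1, 1, 1, 0, 0, 0, 0, 0, 0, 0, 1, 0, 0, 0, 0, 0, 0, 0, 0, 1, 0, 0, 0, 0, 0, 0, 0, 0, 0, 0, 0, 0, 0, 0, 0, 0, 0, 0, 0, 0, 0, 0, 0, 0, 0, 0, 0, 0, 0, 0, 1, 0, 0, 0, 0, 1, 1, 0, 0, 0, 0, 0, 0, 0, 0, 0, 0, 0, 0, 0, 0, 0, 0, 0, 0, 0, 0, 0, 0, 0, 0, 0, 0, 0, 0, 0, 0, 0, 0, 0, 0, 0, 0, 0, 0, 0]]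

/-- part of the exponents -/
def twoVecs16 : List (List ℤ) :=
  [[0, 0, 0, 0, 0, 0, 0, 0, 0, 0, 0, 0, 0, 0, 0, 0, 0, 0, 0, 0, 0, 0, 0, 0, 0, 0, 0, 0, 0, 0, 0, 0, 0, 0, 0, 0, 1, 1, 1, 0, 1, 0, 0, 1, 1, 1, 0, 0, 0, 0, 0, 0, 1, 1, 0, 1, 1, 1, 0, 1, 0, 0, 1, 1, 1, 1, 1, 0, 0, 0, 0, 0, 0, 1, 0, 0, 0, 1, 0, 0, 1, 0, 1, 0, 0, 1, 0, 1, 0, 0, 1, 1, 1, 0, 0, 0, 0, 0, 0, 0, 0, 0, 0, 0, 0, 1, 1, 0, 0, 0, 0, 0, 0, 0, 1, 1, 1, 1, 0, 0, 1, 1, 1, 0, 1, 0, 0, 1, 1, 0, 1, 0, 0, 0, 0, 0, 0, 0, 0, 0, 1, 0, 0, 0, 0, 1, 0, 0, 1, 1, 0, 0, 1, 0, 0, 1, 0, 0, 0, 0, 1, 0, 0, 1, 1, 0, 1, 0, 0, 1, 0, 0, 0, 0, 0, 0, 0, 0, 0, 0, 0, 0, 0, 0, 0, 0, 0, 0, 0, 0, 0, 0, 0, 0, 0, 0, 0, 0, 0, 0, 0, 0, 0, 0, 1, 1, 1, 0, 0, 0, 0, 0, 0, 0, 0, 0, 0, 0, 0, 0, 0, 0, 0, 0, 0, 0, 0, 0, 0, 0, 0, 0, 0, 0, 0, 0, 0, 0, 0, 0, 0, 0,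 0, 0, 0, 0],
    [0, 0, 0, 0, 0, 0, 0, 0, 0, 0, 0, 0, 0, 0, 0, 0, 0, 0, 0, 0, 0, 0, 0, 0, 0, 0, 0, 0, 0, 0, 0, 0, 0, 0, 0, 0, 1, 1, 1, 0, 1, 0, 0, 1, 1, 0, 1, 1, 0, 1, 0, 0, 0, 1, 0, 1, 1, 1, 0, 0, 0, 0, 0, 1, 1, 1, 0, 1, 1, 0, 0, 0, 0, 0, 0, 0, 1, 1, 0, 1, 1, 0, 0, 0, 0, 0, 0, 1, 1, 1, 1, 1, 0, 0, 0, 1, 0, 0, 1, 0, 0, 1, 0, 0, 1, 1, 1, 0, 0, 1, 0, 0, 1, 0, 0, 1, 1, 1, 0, 0, 0, 0, 0, 0, 0, 0, 0, 1, 1, 0, 1, 0, 1, 0, 0, 0, 0, 0, 0, 0, 1, 0, 0, 1, 0, 0, 1, 1, 1, 0, 1, 1, 1, 0, 0, 0, 0, 1, 0, 0, 1, 0, 0, 1, 1, 1, 1, 1, 1, 1, 0, 0, 0, 0, 0, 0, 0, 0, 0, 0, 0, 0, 0, 0, 0, 0, 0, 0, 0, 0, 0, 0, 0, 0, 0, 0, 0, 0, 0, 0, 0, 0, 0, 1, 1, 1, 1, 0, 0, 0, 0, 0, 0, 0, 0, 0, 0, 0, 0, 0, 0, 0, 0, 0, 0, 0, 0, 0, 0, 0, 0, 0, 0, 0, 0, 0, 0, 0, 0, 0, 0, 0, 0, 0, 0, 0],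
    [0, 0, 0, 0, 0, 0, 0, 0, 0, 0, 0, 0, 0, 0, 0, 0, 0, 0, 0, 0, 0, 0, 0, 0, 0, 0, 0, 0, 0, 0, 0, 0, 0, 0, 0, 0, 0, 1, 0, 0, 0, 0, 0, 1, 1, 0, 0, 0, 0, 0, 0, 0, 0, 1, 1, 0, 1, 0, 0, 0, 0, 0, 1, 1, 1, 1, 0, 0, 0, 0, 0, 0, 0, 0, 0, 0, 0, 0, 0, 0, 0, 0, 0, 0, 0, 0, 0, 0, 0, 0, 0, 0, 0, 0, 0, 1, 0, 0, 1, 0, 0, 0, 0, 0, 0, 0, 1, 0, 0, 0, 0, 0, 0, 0, 0, 1, 0, 0, 0, 0, 0, 0, 0, 0, 0, 0, 0, 1, 1, 1, 0, 0, 0, 1, 1, 0, 0, 0, 0, 0, 0, 0, 0, 1, 0, 0, 1, 0, 0, 0, 1, 0, 0, 0, 0, 0, 0, 0, 0, 0, 1, 0, 0, 0, 0, 0, 1, 1, 0, 1, 1, 0, 0, 0, 0, 0, 0, 0, 0, 0, 0, 0, 0, 0, 0, 0, 0, 0, 0, 0, 0, 0, 0, 0, 0, 0, 0, 0, 0, 0, 0, 0, 0, 0, 1, 1, 1, 0, 0, 0, 0, 0, 0, 0, 0, 0, 0, 0, 0, 0, 0, 0, 0, 0, 0, 0, 0, 0, 0, 0, 0, 0, 0, 0, 0, 0, 0, 0, 0, 0, 0, 0, 0, 0, 0, 0],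
    [0, 0, 0, 1, 0, 1, 0, 0, 0, 0, 1, 0, 1, 0, 1, 1, 0, 0, 0, 0, 0, 0, 0, 0, 0, 0, 0, 0, 1, 0, 1, 0, 1, 1, 0, 1, 0, 0, 0, 0, 0, 0, 0, 0, 0, 0, 0, 0, 0, 0, 0, 0, 0, 0, 0, 0, 0, 0, 0, 0, 0, 0, 0, 0, 0, 0, 0, 0, 0, 0, 0, 0, 0, 0, 0, 0, 0, 0, 0, 0, 0, 0, 0, 0, 0, 0, 0, 0, 0, 0, 0, 0, 0, 0, 0, 0, 0, 0, 0, 0, 0, 0, 0, 0, 0, 0, 0, 0, 0, 0, 0, 0, 0, 0, 0, 0, 0, 0, 0, 0, 0, 0, 0, 0, 0, 0, 0, 0, 0, 0, 0, 0, 0, 0, 0, 0, 0, 0, 0, 0, 0, 0, 0, 0, 0, 0, 0, 0, 0, 0, 0, 0, 0, 0, 0, 0, 0, 0, 0, 0, 0, 0, 0, 0, 0, 0, 0, 0, 0, 0, 0, 0, 0, 0, 0, 0, 0, 0, 0, 0, 0, 0, 0, 0, 0, 0, 0, 0, 0, 0, 0, 0, 0, 0, 0, 0, 0, 0, 0, 0, 0, 0, 0, 0, 0, 0, 0, 0, 0, 0, 0, 0, 0, 0, 0, 0, 0, 0, 0, 0, 0, 0, 0, 0, 0, 0, 0, 0, 0, 0, 0, 0, 0, 0, 0, 0, 0, 0, 0, 0, 0, 0, 0, 0, 0, 0],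
    [0, 0, 0, 1, 0, 0, 0, 0, 0, 0, 1, 0, 1, 0, 0, 1, 0, 1, 0, 0, 0, 0, 0, 0, 0, 0, 0, 0, 1, 0, 0, 0, 1, 0, 0, 0, 0, 0, 0, 0, 0, 0, 0, 0, 0, 0, 0, 0, 0, 0, 0, 0, 0, 0, 0, 0, 0, 0, 0, 0, 0, 0, 0, 0, 0, 0, 0, 0, 0, 0, 0, 0, 0, 0, 0, 0, 0, 0, 0, 0, 0, 0, 0, 0, 0, 0, 0, 0, 0, 0, 0, 0, 0, 0, 0, 0, 0, 0, 0, 0, 0, 0, 0, 0, 0, 0, 0, 0, 0, 0, 0, 0, 0, 0, 0, 0, 0, 0, 0, 0, 0, 0, 0, 0, 0, 0, 0, 0, 0, 0, 0, 0, 0, 0, 0, 0, 0, 0, 0, 0, 0, 0, 0, 0, 0, 0, 0, 0, 0, 0, 0, 0, 0, 0, 0, 0, 0, 0, 0, 0, 0, 0, 0, 0, 0, 0, 0, 0, 0, 0, 0, 0, 0, 0, 0, 0, 0, 0, 0, 0, 0, 0, 0, 0, 0, 0, 0, 0, 0, 0, 0, 0, 0, 0, 0, 0, 0, 0, 0, 0, 0, 0, 0, 0, 0, 0, 0, 0, 0, 0, 0, 0, 0, 0, 0, 0, 0, 0, 0, 0, 0, 0, 0, 0, 0, 0, 0, 0, 0, 0, 0, 0, 0, 0, 0, 0, 0, 0, 0, 0, 0, 0, 0, 0, 0, 0],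
    [0, 0, 0, 1, 0, 0, 1, 0, 1, 0, 0, 0, 1, 1, 0, 0, 0, 1, 1, 0, 0, 1, 0, 0, 0, 0, 0, 0, 1, 0, 0, 1, 1, 0, 0, 0, 0, 0, 0, 0, 0, 0, 0, 0, 0, 0, 0, 0, 0, 0, 0, 0, 0, 0, 0, 0, 0, 0, 0, 0, 0, 0, 0, 0, 0, 0, 0, 0, 0, 0, 0, 0, 0, 0, 0, 0, 0, 0, 0, 0, 0, 0, 0, 0, 0, 0, 0, 0, 0, 0, 0, 0, 0, 0, 0, 0, 0, 0, 0, 0, 0, 0, 0, 0, 0, 0, 0, 0, 0, 0, 0, 0, 0, 0, 0, 0, 0, 0, 0, 0, 0, 0, 0, 0, 0, 0, 0, 0, 0, 0, 0, 0, 0, 0, 0, 0, 0, 0, 0, 0, 0, 0, 0, 0, 0, 0, 0, 0, 0, 0, 0, 0, 0, 0, 0, 0, 0, 0, 0, 0, 0, 0, 0, 0, 0, 0, 0, 0, 0, 0, 0, 0, 0, 0, 0, 0, 0, 0, 0, 0, 0, 0, 0, 0, 0, 0, 0, 0, 0, 0, 0, 0, 0, 0, 0, 0, 0, 0, 0, 0, 0, 0, 0, 0, 0, 0, 0, 0, 0, 0, 0, 0, 0, 0, 0, 0, 0, 0, 0, 0, 0, 0, 0, 0, 0, 0, 0, 0, 0, 0, 0, 0, 0, 0, 0, 0, 0, 0, 0, 0, 0, 0, 0, 0, 0, 0],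
    [0, 0, 0, 0, 0, 0, 0, 0, 0, 0, 0, 0, 0, 0, 0, 0, 0, 0, 0, 0, 0, 0, 0, 0, 0, 0, 0, 0, 0, 0, 0, 0, 0, 0, 0, 0, 0, 0, 1, 0, 1, 1, 0, 1, 0, 1, 0, 0, 0, 0, 1, 0, 1, 0, 1, 0, 0, 0, 0, 0, 0, 0, 1, 0, 1, 1, 0, 0, 0, 0, 0, 0, 0, 1, 0, 0, 0, 0, 0, 0, 1, 0, 0, 0, 0, 0, 0, 1, 0, 1, 1, 0, 0, 0, 0, 0, 0, 0, 0, 0, 0, 0, 0, 0, 0, 0, 0, 0, 0, 0, 0, 0, 0, 0, 1, 1, 0, 0, 0, 1, 1, 0, 1, 0, 0, 1, 0, 0, 0, 0, 1, 0, 0, 0, 1, 0, 0, 0, 0, 0, 0, 1, 0, 1, 0, 0, 1, 1, 1, 0, 0, 1, 1, 0, 0, 0, 0, 0, 1, 0, 1, 0, 1, 1, 1, 0, 0, 0, 1, 0, 0, 0, 0, 0, 0, 0, 0, 0, 0, 0, 0, 0, 0, 0, 0, 0, 0, 0, 0, 0, 0, 0, 0, 0, 0, 0, 0, 0, 0, 0, 0, 0, 0, 0, 0, 0, 0, 0, 0, 0, 0, 0, 1, 0, 0, 1, 0, 0, 1, 1, 1, 0, 0, 0, 0, 0, 0, 0, 0, 0, 0, 0, 0, 0, 0, 0, 0, 0, 0, 0, 0, 0, 0, 0, 0, 0],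
    [0, 0, 0, 0, 0, 0, 0, 0, 0, 0, 0, 0, 0, 0, 0, 0, 0, 0, 0, 0, 0, 0, 0, 0, 0, 0, 0, 0, 0, 0, 0, 0, 0, 0, 0, 0, 0, 0, 1, 0, 1, 1, 0, 1, 0, 0, 0, 1, 0, 0, 1, 0, 1, 0, 0, 0, 0, 0, 0, 0, 1, 0, 0, 0, 1, 0, 0, 0, 0, 0, 0, 1, 0, 0, 0, 0, 1, 1, 0, 0, 0, 0, 0, 1, 0, 1, 0, 1, 0, 1, 1, 0, 0, 0, 0, 0, 0, 0, 0, 0, 0, 0, 0, 0, 0, 0, 0, 0, 0, 0, 0, 0, 0, 0, 1, 1, 0, 0, 0, 1, 0, 0, 1, 0, 0, 0, 0, 1, 0, 0, 0, 1, 1, 0, 1, 1, 0, 0, 0, 0, 0, 0, 0, 1, 0, 1, 0, 1, 0, 0, 0, 0, 0, 0, 0, 0, 0, 0, 0, 0, 1, 0, 0, 0, 1, 1, 0, 0, 0, 1, 1, 0, 0, 0, 0, 0, 0, 0, 0, 0, 0, 0, 0, 0, 0, 0, 0, 0, 0, 0, 0, 0, 0, 0, 0, 0, 0, 0, 0, 0, 0, 0, 0, 0, 0, 0, 0, 0, 0, 0, 0, 0, 1, 0, 0, 0, 0, 0, 1, 1, 1, 0, 0, 0, 0, 0, 0, 0, 0, 0, 0, 0, 0, 0, 0, 0, 0, 0, 0, 0, 0, 0, 0, 0, 0, 0],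
    [0, 0, 0, 0, 0, 0, 0, 0, 0, 0, 0, 0, 0, 0, 0, 0, 0, 0, 0, 0, 0, 0, 0, 0, 0, 0, 0, 0, 0, 0, 0, 0, 0, 0, 0, 0, 0, 0, 1, 1, 0, 0, 1, 1, 1, 0, 0, 1, 1, 0, 1, 1, 0, 0, 0, 0, 0, 0, 1, 0, 1, 0, 1, 0, 1, 0, 0, 0, 0, 1, 0, 1, 0, 0, 0, 0, 1, 1, 0, 0, 0, 1, 0, 1, 1, 0, 0, 1, 0, 1, 1, 0, 0, 0, 0, 0, 0, 0, 0, 0, 0, 0, 0, 1, 1, 0, 0, 0, 0, 0, 0, 0, 0, 0, 1, 1, 1, 1, 1, 1, 0, 0, 1, 0, 0, 0, 1, 1, 0, 0, 0, 0, 1, 0, 1, 0, 0, 0, 0, 0, 0, 1, 0, 1, 0, 0, 1, 0, 0, 0, 1, 1, 0, 0, 0, 0, 0, 0, 1, 0, 1, 0, 0, 1, 0, 1, 0, 1, 0, 1, 1, 0, 0, 0, 0, 0, 0, 0, 0, 0, 0, 0, 0, 0, 0, 0, 0, 0, 0, 0, 0, 0, 0, 0, 0, 0, 0, 0, 0, 0, 0, 0, 0, 0, 0, 0, 0, 0, 0, 0, 0, 0, 0, 1, 0, 0, 0, 1, 1, 0, 1, 0, 0, 0, 0, 0, 0, 0, 0, 0, 0, 0, 0, 0, 0, 0, 0, 0, 0, 0, 0, 0, 0, 0, 0, 0],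
    [0, 0, 0, 0, 0, 0, 0, 0, 0, 0, 0, 0, 0, 0, 0, 0, 0, 0, 0, 0, 0, 0, 0, 0, 0, 0, 0, 0, 0, 0, 0, 0, 0, 0, 0, 0, 0, 0, 1, 0, 0, 1, 1, 0, 0, 0, 0, 1, 0, 0, 1, 0, 0, 0, 0, 0, 0, 0, 0, 0, 1, 0, 0, 0, 1, 0, 0, 0, 0, 0, 0, 1, 0, 0, 0, 0, 1, 1, 0, 0, 0, 0, 0, 1, 0, 0, 0, 1, 0, 1, 1, 0, 0, 0, 0, 0, 0, 0, 0, 0, 0, 0, 0, 0, 0, 0, 0, 0, 0, 0, 0, 0, 0, 0, 0, 1, 0, 1, 0, 1, 0, 0, 1, 0, 0, 0, 0, 0, 0, 0, 0, 1, 0, 0, 0, 1, 0, 0, 0, 0, 0, 0, 0, 0, 0, 1, 0, 1, 0, 0, 0, 1, 0, 0, 0, 0, 0, 0, 0, 0, 0, 0, 1, 0, 1, 0, 0, 0, 1, 0, 0, 0, 0, 0, 0, 0, 0, 0, 0, 0, 0, 0, 0, 0, 0, 0, 0, 0, 0, 0, 0, 0, 0, 0, 0, 0, 0, 0, 0, 0, 0, 0, 0, 0, 0, 0, 0, 0, 0, 0, 0, 0, 0, 0, 0, 0, 1, 0, 1, 1, 1, 0, 0, 0, 0, 0, 0, 0, 0, 0, 0, 0, 0, 0, 0, 0, 0, 0, 0, 0, 0, 0, 0, 0, 0, 0]]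

/-- part of the exponents -/
def twoVecs17 : List (List ℤ) :=
  [[0, 0, 0, 0, 0, 0, 0, 0, 0, 0, 0, 0, 0, 0, 0, 0, 0, 0, 0, 0, 0, 0, 0, 0, 0, 0, 0, 0, 0, 0, 0, 0, 0, 0, 0, 0, 0, 0, 0, 0, 0, 0, 0, 0, 0, 1, 0, 0, 0, 0, 0, 0, 0, 0, 0, 0, 0, 0, 0, 0, 0, 0, 0, 0, 0, 1, 0, 0, 0, 0, 0, 0, 0, 0, 0, 0, 0, 0, 1, 0, 1, 0, 1, 1, 0, 1, 0, 0, 1, 0, 1, 0, 0, 0, 0, 0, 0, 0, 0, 0, 0, 0, 0, 0, 0, 1, 0, 1, 0, 1, 1, 0, 1, 0, 0, 1, 0, 1, 0, 1, 1, 0, 1, 0, 1, 1, 0, 1, 0, 0, 0, 0, 0, 0, 0, 0, 1, 0, 1, 0, 0, 1, 0, 1, 0, 0, 0, 0, 0, 0, 1, 0, 0, 0, 0, 0, 0, 1, 0, 0, 0, 0, 0, 0, 0, 0, 0, 1, 0, 1, 0, 0, 0, 0, 0, 0, 0, 0, 0, 0, 0, 0, 0, 0, 0, 0, 0, 0, 0, 0, 0, 0, 0, 0, 0, 0, 0, 0, 0, 0, 0, 0, 0, 0, 0, 0, 0, 0, 0, 0, 0, 0, 0, 0, 0, 0, 0, 0, 1, 1, 1, 0, 0, 0, 0, 0, 0, 0, 0, 0, 0, 0, 0, 0, 0, 0, 0, 0, 0, 0, 0, 0,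 0, 0, 0, 0],
    [0, 0, 0, 0, 0, 0, 0, 0, 0, 0, 0, 0, 0, 0, 0, 0, 0, 0, 0, 0, 0, 0, 0, 0, 0, 0, 0, 0, 0, 0, 0, 0, 0, 0, 0, 0, 0, 0, 0, 0, 0, 0, 0, 0, 0, 0, 0, 0, 0, 0, 1, 0, 1, 0, 0, 0, 0, 0, 0, 0, 0, 0, 0, 0, 0, 1, 0, 0, 0, 0, 0, 0, 0, 1, 0, 0, 0, 0, 0, 0, 1, 1, 0, 1, 1, 0, 0, 0, 1, 0, 1, 0, 0, 0, 0, 0, 0, 0, 0, 0, 0, 0, 0, 0, 0, 0, 0, 1, 1, 0, 0, 0, 0, 0, 0, 1, 0, 1, 0, 1, 0, 0, 1, 1, 0, 0, 0, 0, 0, 0, 0, 1, 0, 0, 0, 1, 0, 0, 1, 0, 0, 1, 0, 1, 0, 0, 0, 0, 0, 0, 1, 1, 0, 0, 0, 0, 1, 0, 1, 0, 1, 0, 0, 0, 0, 0, 0, 1, 1, 1, 1, 0, 0, 0, 0, 0, 0, 0, 0, 0, 0, 0, 0, 0, 0, 0, 0, 0, 0, 0, 0, 0, 0, 0, 0, 0, 0, 0, 0, 0, 0, 0, 0, 0, 0, 0, 0, 0, 0, 0, 0, 0, 0, 0, 1, 0, 0, 0, 1, 1, 1, 0, 0, 0, 0, 0, 0, 0, 0, 0, 0, 0, 0, 0, 0, 0, 0, 0, 0, 0, 0, 0, 0, 0, 0, 0],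
    [0, 0, 0, 0, 0, 0, 0, 0, 0, 0, 0, 0, 0, 0, 0, 0, 0, 0, 0, 0, 0, 0, 0, 0, 0, 0, 0, 0, 0, 0, 0, 0, 0, 0, 0, 0, 0, 0, 1, 0, 0, 1, 0, 1, 0, 0, 0, 0, 0, 0, 0, 0, 0, 0, 0, 0, 0, 0, 0, 1, 0, 0, 1, 0, 0, 0, 0, 0, 0, 0, 0, 0, 0, 0, 0, 0, 0, 0, 0, 0, 0, 0, 0, 1, 0, 1, 0, 0, 0, 0, 0, 0, 0, 0, 0, 0, 0, 0, 0, 0, 0, 0, 0, 0, 0, 0, 0, 0, 0, 0, 0, 0, 0, 0, 0, 1, 0, 1, 0, 1, 0, 0, 0, 0, 0, 1, 0, 0, 0, 0, 0, 0, 1, 0, 0, 1, 0, 0, 0, 0, 0, 0, 0, 0, 0, 0, 1, 0, 1, 0, 0, 0, 1, 0, 0, 0, 0, 0, 0, 0, 0, 0, 0, 1, 0, 1, 0, 0, 0, 0, 0, 0, 0, 0, 0, 0, 0, 0, 0, 0, 0, 0, 0, 0, 0, 0, 0, 0, 0, 0, 0, 0, 0, 0, 0, 0, 0, 0, 0, 0, 0, 0, 0, 0, 0, 0, 0, 0, 0, 0, 0, 0, 0, 0, 1, 0, 0, 0, 0, 1, 1, 0, 0, 0, 0, 0, 0, 0, 0, 0, 0, 0, 0, 0, 0, 0, 0, 0, 0, 0, 0, 0, 0, 0, 0, 0],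
    [0, 0, 0, 0, 0, 0, 0, 0, 0, 0, 0, 0, 0, 0, 0, 0, 0, 0, 0, 0, 0, 0, 0, 0, 0, 0, 0, 0, 0, 0, 0, 0, 0, 0, 0, 0, 0, 0, 0, 0, 0, 0, 0, 0, 0, 0, 0, 0, 0, 0, 0, 0, 0, 0, 0, 0, 0, 0, 0, 0, 0, 0, 0, 0, 0, 1, 0, 0, 0, 0, 0, 0, 0, 0, 0, 0, 0, 0, 0, 0, 1, 1, 0, 1, 1, 0, 0, 0, 1, 0, 1, 0, 0, 0, 0, 0, 1, 0, 1, 0, 0, 0, 0, 0, 0, 0, 0, 0, 0, 0, 1, 1, 0, 0, 0, 0, 0, 0, 0, 0, 0, 0, 0, 0, 0, 1, 1, 1, 0, 0, 0, 0, 0, 0, 1, 1, 0, 0, 0, 1, 0, 0, 0, 0, 0, 0, 0, 0, 0, 0, 0, 1, 0, 0, 0, 0, 1, 0, 1, 1, 0, 0, 0, 0, 0, 0, 0, 0, 1, 1, 0, 0, 0, 0, 0, 0, 0, 0, 0, 0, 0, 0, 0, 0, 0, 0, 0, 0, 0, 0, 0, 0, 0, 0, 0, 0, 0, 0, 0, 0, 0, 0, 0, 0, 0, 0, 0, 0, 0, 0, 0, 0, 0, 0, 0, 0, 0, 0, 1, 0, 1, 0, 0, 0, 0, 0, 0, 0, 0, 0, 0, 0, 0, 0, 0, 0, 0, 0, 0, 0, 0, 0, 0, 0, 0, 0],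
    [0, 1, 0, 1, 0, 0, 0, 0, 1, 0, 0, 0, 1, 0, 0, 0, 0, 1, 1, 1, 0, 0, 0, 1, 0, 0, 0, 0, 1, 0, 0, 0, 1, 0, 1, 0, 0, 0, 0, 0, 0, 0, 0, 0, 0, 0, 0, 0, 0, 0, 0, 0, 0, 0, 0, 0, 0, 0, 0, 0, 0, 0, 0, 0, 0, 0, 0, 0, 0, 0, 0, 0, 0, 0, 0, 0, 0, 0, 0, 0, 0, 0, 0, 0, 0, 0, 0, 0, 0, 0, 0, 0, 0, 0, 0, 0, 0, 0, 0, 0, 0, 0, 0, 0, 0, 0, 0, 0, 0, 0, 0, 0, 0, 0, 0, 0, 0, 0, 0, 0, 0, 0, 0, 0, 0, 0, 0, 0, 0, 0, 0, 0, 0, 0, 0, 0, 0, 0, 0, 0, 0, 0, 0, 0, 0, 0, 0, 0, 0, 0, 0, 0, 0, 0, 0, 0, 0, 0, 0, 0, 0, 0, 0, 0, 0, 0, 0, 0, 0, 0, 0, 0, 0, 0, 0, 0, 0, 0, 0, 0, 0, 0, 0, 0, 0, 0, 0, 0, 0, 0, 0, 0, 0, 0, 0, 0, 0, 0, 0, 0, 0, 0, 0, 0, 0, 0, 0, 0, 0, 0, 0, 0, 0, 0, 0, 0, 0, 0, 0, 0, 0, 0, 0, 0, 0, 0, 0, 0, 0, 0, 0, 0, 0, 0, 0, 0, 0, 0, 0, 0, 0, 0, 0, 0, 0, 0],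
    [0, 0, 0, 0, 0, 0, 0, 0, 0, 0, 0, 0, 0, 0, 0, 0, 0, 0, 0, 0, 0, 0, 0, 0, 0, 0, 0, 0, 0, 0, 0, 0, 0, 0, 0, 0, 0, 0, 1, 1, 1, 0, 1, 0, 0, 0, 0, 1, 1, 1, 0, 0, 0, 0, 1, 0, 0, 0, 1, 1, 0, 1, 0, 1, 1, 1, 0, 0, 0, 1, 1, 0, 0, 0, 0, 0, 1, 0, 0, 0, 1, 0, 0, 0, 0, 0, 0, 1, 0, 0, 0, 0, 0, 0, 0, 0, 0, 0, 0, 0, 1, 0, 1, 1, 0, 1, 0, 1, 1, 0, 0, 0, 0, 0, 1, 0, 0, 1, 1, 1, 0, 0, 0, 1, 0, 0, 1, 0, 1, 0, 0, 1, 0, 1, 0, 1, 1, 0, 1, 0, 0, 0, 0, 0, 0, 1, 1, 1, 0, 0, 0, 0, 1, 0, 0, 0, 1, 0, 0, 0, 0, 0, 1, 1, 1, 0, 1, 0, 1, 0, 1, 0, 0, 0, 0, 0, 0, 0, 0, 0, 0, 0, 0, 0, 0, 0, 0, 0, 0, 0, 0, 0, 0, 0, 0, 0, 0, 0, 0, 0, 0, 0, 0, 0, 0, 0, 0, 0, 0, 0, 0, 0, 0, 0, 0, 0, 0, 0, 0, 0, 0, 0, 0, 0, 1, 0, 0, 1, 0, 0, 1, 1, 1, 0, 0, 0, 0, 0, 0, 0, 0, 0, 0, 0, 0, 0],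
    [0, 0, 0, 0, 0, 0, 0, 0, 0, 0, 0, 0, 0, 0, 0, 0, 0, 0, 0, 0, 0, 0, 0, 0, 0, 0, 0, 0, 0, 0, 0, 0, 0, 0, 0, 0, 0, 1, 1, 0, 0, 0, 0, 1, 1, 0, 0, 0, 0, 0, 0, 0, 0, 1, 1, 0, 0, 0, 0, 0, 0, 0, 0, 0, 0, 1, 0, 0, 0, 0, 0, 0, 0, 0, 0, 0, 1, 1, 0, 0, 0, 0, 0, 0, 0, 0, 0, 0, 0, 0, 0, 0, 0, 0, 0, 0, 0, 0, 0, 1, 1, 1, 1, 1, 1, 0, 0, 1, 0, 0, 0, 0, 0, 1, 1, 1, 1, 0, 1, 1, 0, 0, 0, 0, 0, 0, 0, 1, 0, 0, 0, 0, 0, 0, 1, 0, 0, 0, 1, 0, 0, 0, 0, 1, 1, 1, 0, 0, 1, 1, 1, 1, 1, 0, 0, 0, 0, 0, 0, 0, 1, 1, 1, 0, 0, 0, 1, 1, 1, 1, 0, 0, 0, 0, 0, 0, 0, 0, 0, 0, 0, 0, 0, 0, 0, 0, 0, 0, 0, 0, 0, 0, 0, 0, 0, 0, 0, 0, 0, 0, 0, 0, 0, 0, 0, 0, 0, 0, 0, 0, 0, 0, 0, 0, 0, 0, 0, 0, 0, 0, 0, 0, 0, 0, 0, 0, 0, 0, 0, 1, 1, 1, 0, 0, 0, 0, 0, 0, 0, 0, 0, 0, 0, 0, 0, 0],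
    [0, 0, 0, 0, 0, 0, 0, 0, 0, 0, 0, 0, 0, 0, 0, 0, 0, 0, 0, 0, 0, 0, 0, 0, 0, 0, 0, 0, 0, 0, 0, 0, 0, 0, 0, 0, 1, 0, 1, 1, 1, 0, 1, 0, 1, 0, 0, 0, 0, 0, 0, 1, 0, 1, 0, 1, 0, 1, 1, 1, 0, 1, 0, 0, 0, 1, 0, 0, 1, 1, 1, 0, 0, 0, 0, 0, 1, 0, 0, 0, 1, 0, 0, 0, 0, 0, 0, 1, 1, 1, 0, 1, 0, 1, 1, 0, 0, 0, 0, 1, 0, 1, 0, 1, 0, 1, 0, 1, 0, 0, 0, 0, 0, 1, 1, 0, 1, 1, 1, 0, 1, 0, 0, 0, 0, 0, 1, 0, 0, 0, 0, 0, 0, 1, 0, 1, 1, 0, 0, 1, 0, 0, 0, 0, 1, 1, 0, 0, 1, 1, 1, 0, 0, 1, 0, 0, 1, 0, 0, 0, 0, 1, 1, 0, 1, 1, 1, 1, 0, 1, 0, 0, 0, 0, 0, 0, 0, 0, 0, 0, 0, 0, 0, 0, 0, 0, 0, 0, 0, 0, 0, 0, 0, 0, 0, 0, 0, 0, 0, 0, 0, 0, 0, 0, 0, 0, 0, 0, 0, 0, 0, 0, 0, 0, 0, 0, 0, 0, 0, 0, 0, 0, 0, 0, 0, 0, 0, 0, 0, 0, 1, 1, 1, 0, 0, 0, 0, 0, 0, 0, 0, 0, 0, 0, 0, 0],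
    [0, 0, 0, 0, 0, 0, 0, 0, 0, 0, 0, 0, 0, 0, 0, 0, 0, 0, 0, 0, 0, 0, 0, 0, 0, 0, 0, 0, 0, 0, 0, 0, 0, 0, 0, 0, 0, 0, 1, 0, 0, 0, 0, 0, 1, 0, 1, 1, 0, 0, 0, 0, 1, 1, 1, 0, 0, 1, 0, 0, 0, 0, 0, 0, 0, 0, 0, 0, 0, 0, 0, 0, 0, 0, 0, 0, 1, 0, 0, 0, 0, 0, 0, 0, 0, 0, 0, 1, 0, 1, 0, 0, 0, 1, 0, 0, 0, 0, 1, 1, 1, 1, 1, 1, 1, 0, 0, 1, 0, 0, 0, 0, 0, 1, 1, 1, 1, 1, 1, 1, 0, 0, 1, 0, 0, 0, 0, 0, 0, 1, 1, 0, 1, 0, 0, 1, 0, 0, 1, 0, 0, 0, 0, 0, 0, 0, 1, 0, 0, 1, 1, 0, 1, 0, 0, 1, 0, 0, 0, 0, 0, 0, 0, 1, 0, 0, 1, 1, 0, 1, 1, 0, 0, 0, 0, 0, 0, 0, 0, 0, 0, 0, 0, 0, 0, 0, 0, 0, 0, 0, 0, 0, 0, 0, 0, 0, 0, 0, 0, 0, 0, 0, 0, 0, 0, 0, 0, 0, 0, 0, 0, 0, 0, 0, 0, 0, 0, 0, 0, 0, 0, 0, 0, 0, 0, 0, 0, 0, 1, 0, 1, 0, 1, 0, 0, 0, 0, 0, 0, 0, 0, 0, 0, 0, 0, 0],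
    [0, 0, 0, 0, 0, 0, 0, 0, 0, 0, 0, 0, 0, 0, 0, 0, 0, 0, 0, 0, 0, 0, 0, 0, 0, 0, 0, 0, 0, 0, 0, 0, 0, 0, 0, 0, 1, 0, 1, 1, 1, 0, 1, 0, 0, 0, 0, 1, 1, 1, 0, 0, 0, 0, 1, 1, 0, 0, 1, 1, 0, 1, 0, 0, 0, 0, 0, 0, 0, 1, 1, 0, 0, 0, 0, 0, 0, 1, 0, 0, 1, 0, 0, 0, 0, 0, 0, 1, 1, 1, 1, 0, 0, 0, 0, 0, 0, 0, 0, 0, 1, 1, 0, 0, 1, 0, 0, 0, 0, 1, 0, 1, 0, 0, 1, 0, 1, 0, 1, 1, 0, 0, 1, 0, 1, 0, 1, 0, 0, 1, 1, 0, 1, 1, 0, 0, 1, 0, 0, 1, 1, 0, 1, 0, 0, 1, 0, 0, 1, 1, 1, 0, 0, 1, 0, 0, 1, 0, 0, 0, 0, 0, 1, 1, 0, 1, 1, 0, 0, 0, 0, 0, 0, 0, 0, 0, 0, 0, 0, 0, 0, 0, 0, 0, 0, 0, 0, 0, 0, 0, 0, 0, 0, 0, 0, 0, 0, 0, 0, 0, 0, 0, 0, 0, 0, 0, 0, 0, 0, 0, 0, 0, 0, 0, 0, 0, 0, 0, 0, 0, 0, 0, 0, 0, 0, 0, 1, 0, 0, 0, 0, 0, 0, 0, 0, 0, 0, 0, 0, 0, 0, 0, 0, 0, 0, 0]]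

/-- part of the exponents -/
def twoVecs18 : List (List ℤ) :=
  [[0, 0, 0, 0, 0, 0, 0, 0, 0, 0, 0, 0, 0, 0, 0, 0, 0, 0, 0, 0, 0, 0, 0, 0, 0, 0, 0, 0, 0, 0, 0, 0, 0, 0, 0, 0, 0, 0, 1, 0, 0, 0, 0, 0, 1, 0, 0, 0, 0, 0, 0, 0, 0, 1, 1, 0, 1, 0, 0, 0, 0, 0, 1, 1, 1, 1, 0, 0, 0, 0, 0, 0, 0, 0, 1, 1, 1, 1, 0, 0, 0, 0, 0, 0, 0, 0, 0, 0, 0, 0, 0, 0, 0, 0, 0, 0, 0, 0, 1, 1, 1, 0, 0, 1, 1, 0, 0, 0, 0, 0, 0, 0, 1, 1, 1, 0, 0, 1, 1, 1, 0, 0, 0, 0, 0, 0, 0, 0, 0, 0, 0, 0, 0, 0, 0, 0, 0, 0, 1, 0, 0, 0, 0, 0, 1, 1, 1, 1, 0, 0, 0, 0, 1, 0, 0, 1, 0, 0, 0, 0, 0, 1, 1, 1, 1, 0, 0, 1, 0, 1, 0, 0, 0, 0, 0, 0, 0, 0, 0, 0, 0, 0, 0, 0, 0, 0, 0, 0, 0, 0, 0, 0, 0, 0, 0, 0, 0, 0, 0, 0, 0, 0, 0, 0, 0, 0, 0, 0, 0, 0, 0, 0, 0, 0, 0, 0, 0, 0, 0, 0, 0, 0, 0, 0, 0, 0, 0, 0, 1, 1, 0, 1, 0, 0, 0, 0, 0, 0, 0, 0, 0, 0,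 0, 0, 0, 0],
    [1, 0, 0, 0, 0, 0, 0, 0, 0, 0, 1, 0, 0, 0, 1, 0, 0, 0, 0, 0, 0, 1, 0, 0, 0, 1, 0, 1, 0, 0, 0, 0, 0, 0, 0, 0, 0, 0, 0, 0, 0, 0, 0, 0, 1, 0, 0, 0, 0, 0, 0, 0, 0, 0, 0, 0, 0, 0, 0, 0, 0, 0, 0, 1, 0, 1, 1, 0, 0, 0, 1, 0, 1, 0, 1, 0, 1, 0, 1, 0, 0, 0, 1, 0, 1, 0, 1, 0, 1, 0, 0, 1, 0, 0, 0, 1, 0, 1, 0, 0, 0, 0, 1, 1, 1, 0, 0, 0, 0, 0, 0, 0, 0, 0, 0, 0, 0, 0, 0, 0, 1, 0, 0, 0, 0, 0, 0, 0, 1, 0, 1, 0, 0, 0, 0, 0, 1, 0, 0, 0, 0, 0, 0, 0, 0, 0, 0, 1, 1, 0, 0, 1, 1, 0, 0, 0, 0, 1, 0, 1, 0, 1, 0, 1, 1, 1, 1, 0, 1, 0, 1, 0, 0, 0, 0, 0, 0, 0, 0, 0, 0, 0, 0, 0, 0, 0, 0, 0, 0, 0, 0, 0, 0, 0, 0, 0, 0, 0, 0, 0, 0, 0, 0, 0, 0, 0, 0, 0, 0, 0, 0, 0, 0, 0, 0, 0, 0, 0, 0, 0, 0, 0, 0, 0, 0, 0, 0, 0, 0, 0, 0, 0, 0, 0, 0, 0, 0, 0, 0, 0, 0, 0, 0, 0, 0, 0],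
    [0, 1, 1, 0, 0, 0, 0, 0, 0, 1, 0, 1, 0, 0, 0, 0, 1, 0, 0, 0, 0, 0, 1, 0, 1, 0, 1, 1, 0, 0, 0, 1, 0, 0, 1, 0, 0, 0, 0, 0, 0, 0, 0, 0, 0, 0, 1, 0, 0, 0, 0, 1, 0, 0, 0, 0, 1, 0, 0, 0, 0, 1, 0, 0, 0, 0, 0, 1, 0, 0, 0, 0, 0, 1, 0, 0, 0, 0, 0, 1, 0, 0, 0, 0, 1, 0, 0, 0, 0, 0, 0, 0, 1, 0, 1, 0, 0, 1, 1, 0, 1, 0, 0, 1, 0, 0, 1, 0, 1, 0, 0, 1, 1, 0, 1, 1, 0, 0, 0, 1, 0, 1, 0, 1, 0, 0, 0, 0, 0, 1, 0, 0, 1, 1, 1, 1, 0, 0, 0, 0, 0, 0, 0, 1, 0, 0, 1, 0, 1, 0, 0, 1, 0, 0, 1, 0, 0, 0, 0, 0, 1, 0, 1, 0, 0, 0, 1, 0, 0, 0, 1, 0, 0, 0, 0, 0, 0, 0, 0, 0, 0, 0, 0, 0, 0, 0, 0, 0, 0, 0, 0, 0, 0, 0, 0, 0, 0, 0, 0, 0, 0, 0, 0, 0, 0, 0, 0, 0, 0, 0, 0, 0, 0, 0, 0, 0, 0, 0, 0, 0, 0, 0, 0, 0, 0, 0, 0, 0, 0, 0, 0, 0, 0, 0, 0, 0, 0, 0, 0, 1, 0, 0, 0, 1, 1, 1],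
    [0, 0, 0, 1, 0, 0, 0, 0, 0, 0, 0, 0, 1, 0, 0, 0, 0, 1, 0, 1, 0, 0, 0, 0, 0, 0, 0, 0, 0, 0, 0, 0, 0, 0, 0, 0, 0, 0, 0, 0, 0, 0, 0, 0, 0, 0, 0, 0, 0, 0, 0, 0, 0, 0, 0, 0, 0, 0, 0, 0, 0, 0, 0, 0, 0, 0, 0, 1, 1, 1, 0, 0, 0, 1, 0, 1, 1, 0, 1, 1, 0, 1, 1, 1, 0, 1, 0, 1, 1, 0, 0, 0, 0, 0, 1, 0, 0, 0, 1, 0, 1, 1, 1, 0, 1, 0, 0, 0, 0, 0, 0, 0, 1, 0, 1, 1, 1, 0, 0, 1, 0, 1, 0, 0, 1, 0, 0, 1, 0, 1, 1, 1, 0, 1, 1, 1, 0, 1, 0, 0, 1, 0, 0, 0, 0, 1, 1, 1, 1, 0, 1, 1, 1, 0, 1, 0, 0, 1, 0, 0, 0, 0, 0, 0, 1, 0, 1, 0, 1, 0, 0, 0, 0, 0, 0, 0, 0, 0, 0, 0, 0, 0, 0, 0, 0, 0, 0, 0, 0, 0, 0, 0, 0, 0, 0, 0, 0, 0, 0, 0, 0, 0, 0, 0, 0, 0, 0, 0, 0, 0, 0, 0, 0, 0, 0, 0, 0, 0, 0, 0, 0, 0, 0, 0, 0, 0, 0, 0, 0, 0, 0, 0, 0, 0, 0, 0, 0, 0, 0, 0, 0, 0, 0, 0, 1, 1],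
    [0, 0, 0, 0, 1, 0, 0, 0, 0, 1, 0, 0, 0, 0, 0, 0, 0, 0, 0, 0, 0, 0, 0, 0, 1, 0, 0, 1, 0, 1, 0, 1, 0, 0, 0, 0, 0, 0, 0, 0, 0, 0, 0, 0, 0, 0, 1, 0, 0, 0, 0, 1, 0, 0, 0, 0, 1, 0, 0, 0, 0, 1, 0, 0, 0, 0, 0, 1, 0, 0, 0, 0, 1, 0, 0, 0, 0, 0, 0, 1, 0, 1, 0, 0, 0, 0, 0, 0, 0, 0, 0, 0, 0, 0, 1, 0, 0, 1, 0, 0, 1, 0, 1, 0, 0, 0, 0, 0, 0, 0, 0, 1, 0, 0, 1, 1, 0, 0, 0, 0, 0, 1, 0, 0, 0, 0, 0, 0, 0, 1, 0, 1, 0, 1, 0, 1, 0, 1, 0, 1, 0, 0, 1, 0, 0, 0, 1, 1, 0, 1, 1, 0, 0, 0, 1, 0, 0, 0, 0, 0, 0, 0, 1, 0, 0, 0, 0, 1, 0, 1, 1, 0, 0, 0, 0, 0, 0, 0, 0, 0, 0, 0, 0, 0, 0, 0, 0, 0, 0, 0, 0, 0, 0, 0, 0, 0, 0, 0, 0, 0, 0, 0, 0, 0, 0, 0, 0, 0, 0, 0, 0, 0, 0, 0, 0, 0, 0, 0, 0, 0, 0, 0, 0, 0, 0, 0, 0, 0, 0, 0, 0, 0, 0, 0, 0, 0, 0, 1, 0, 0, 0, 1, 1, 1, 1, 0],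
    [0, 0, 0, 0, 0, 0, 1, 1, 0, 0, 0, 0, 0, 1, 0, 0, 0, 0, 1, 0, 0, 0, 1, 0, 1, 1, 0, 0, 0, 0, 0, 1, 0, 1, 1, 1, 0, 0, 0, 0, 0, 0, 0, 0, 0, 0, 1, 0, 0, 0, 0, 1, 1, 0, 0, 0, 1, 0, 0, 0, 0, 1, 1, 0, 0, 0, 0, 0, 0, 1, 0, 0, 0, 0, 0, 0, 0, 0, 0, 1, 0, 0, 0, 0, 1, 1, 0, 0, 0, 0, 0, 0, 1, 0, 1, 0, 0, 1, 0, 0, 1, 0, 0, 1, 0, 0, 1, 0, 1, 0, 0, 1, 0, 0, 1, 1, 0, 0, 0, 1, 0, 0, 0, 0, 0, 0, 0, 1, 0, 0, 0, 0, 1, 0, 0, 0, 0, 0, 0, 0, 0, 0, 0, 0, 0, 0, 1, 0, 0, 0, 0, 0, 1, 0, 0, 0, 0, 0, 0, 0, 0, 0, 0, 1, 0, 0, 0, 0, 1, 0, 0, 0, 0, 0, 0, 0, 0, 0, 0, 0, 0, 0, 0, 0, 0, 0, 0, 0, 0, 0, 0, 0, 0, 0, 0, 0, 0, 0, 0, 0, 0, 0, 0, 0, 0, 0, 0, 0, 0, 0, 0, 0, 0, 0, 0, 0, 0, 0, 0, 0, 0, 0, 0, 0, 0, 0, 0, 0, 0, 0, 0, 0, 0, 0, 0, 0, 0, 0, 0, 0, 0, 0, 0, 0, 1, 0],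
    [0, 0, 1, 0, 0, 0, 0, 0, 1, 1, 0, 0, 0, 0, 0, 0, 0, 0, 0, 0, 0, 0, 1, 0, 1, 0, 0, 0, 0, 1, 0, 0, 0, 0, 1, 1, 0, 0, 0, 0, 0, 0, 0, 0, 0, 0, 1, 0, 0, 0, 0, 1, 1, 0, 0, 0, 1, 0, 0, 0, 0, 1, 1, 0, 0, 0, 0, 1, 0, 0, 0, 0, 1, 1, 0, 0, 0, 0, 0, 0, 0, 1, 0, 0, 0, 0, 0, 0, 0, 0, 0, 0, 1, 0, 1, 0, 0, 0, 1, 0, 1, 0, 1, 0, 1, 0, 0, 0, 0, 0, 0, 1, 1, 0, 1, 1, 0, 0, 0, 1, 0, 0, 0, 1, 0, 0, 0, 1, 0, 0, 0, 1, 0, 1, 0, 0, 0, 0, 0, 1, 0, 0, 0, 0, 0, 0, 1, 0, 0, 1, 0, 0, 1, 0, 0, 0, 1, 0, 0, 0, 0, 0, 0, 1, 0, 0, 0, 0, 0, 1, 1, 0, 0, 0, 0, 0, 0, 0, 0, 0, 0, 0, 0, 0, 0, 0, 0, 0, 0, 0, 0, 0, 0, 0, 0, 0, 0, 0, 0, 0, 0, 0, 0, 0, 0, 0, 0, 0, 0, 0, 0, 0, 0, 0, 0, 0, 0, 0, 0, 0, 0, 0, 0, 0, 0, 0, 0, 0, 0, 0, 0, 0, 0, 0, 0, 0, 0, 0, 0, 0, 0, 0, 1, 1, 1, 0],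
    [0, 0, 1, 0, 0, 0, 0, 1, 0, 1, 0, 0, 0, 0, 0, 0, 0, 0, 0, 0, 0, 0, 1, 1, 1, 0, 0, 0, 0, 0, 0, 0, 0, 0, 1, 1, 0, 0, 0, 0, 0, 0, 0, 0, 0, 0, 0, 0, 0, 0, 0, 1, 1, 0, 0, 0, 0, 0, 0, 0, 0, 1, 1, 0, 0, 0, 0, 0, 0, 0, 0, 0, 1, 1, 0, 0, 0, 0, 0, 0, 0, 0, 0, 0, 1, 1, 0, 0, 0, 0, 0, 0, 1, 0, 1, 0, 0, 0, 1, 0, 0, 0, 0, 0, 1, 0, 1, 0, 1, 0, 0, 0, 1, 0, 0, 0, 0, 0, 1, 1, 0, 0, 0, 0, 0, 0, 1, 0, 0, 0, 0, 1, 0, 0, 0, 1, 0, 0, 0, 0, 0, 0, 1, 1, 0, 0, 1, 0, 0, 0, 0, 1, 0, 0, 0, 0, 0, 0, 0, 1, 0, 0, 1, 0, 1, 0, 1, 0, 1, 1, 0, 0, 0, 0, 0, 0, 0, 0, 0, 0, 0, 0, 0, 0, 0, 0, 0, 0, 0, 0, 0, 0, 0, 0, 0, 0, 0, 0, 0, 0, 0, 0, 0, 0, 0, 0, 0, 0, 0, 0, 0, 0, 0, 0, 0, 0, 0, 0, 0, 0, 0, 0, 0, 0, 0, 0, 0, 0, 0, 0, 0, 0, 0, 0, 0, 0, 0, 0, 0, 1, 0, 0, 0, 1, 0, 0]]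

/-- the exponents -/
def twoVecs : List (List ℤ) := twoVecs0 ++ twoVecs1 ++ twoVecs2 ++ twoVecs3 ++ twoVecs4 ++ twoVecs5 ++ twoVecs6 ++ twoVecs7 ++ twoVecs8 ++ twoVecs9 ++ twoVecs10 ++ twoVecs11 ++ twoVecs12 ++ twoVecs13 ++ twoVecs14 ++ twoVecs15 ++ twoVecs16 ++ twoVecs17 ++ twoVecs18

/-- part of the change of lifts -/
def twoGauge0 : List (List (ℕ × ℤ)) :=
  [[],
    [],
    [],
    [(4, 1)],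
    [],
    [(12, 1)],
    [(16, 1), (23, 1)],
    [(23, 1)],
    [],
    [(40, 1), (109, 1), (122, 1)]]

/-- part of the change of lifts -/
def twoGauge1 : List (List (ℕ × ℤ)) :=
  [[(47, 1), (59, 1)],
    [(59, 1), (122, 1)],
    [(38, 1), (109, 1)],
    [(79, 1)],
    [(93, 1), (109, 1), (122, 1)],
    [(109, 1)],
    [(122, 1), (137, 1)],
    [(137, 1)],
    [],
    []]

/-- part of the change of lifts -/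
def twoGauge2 : List (List (ℕ × ℤ)) :=
  [[],
    [],
    [],
    [],
    [],
    []]

/-- the change of lifts -/
def twoGauge : List (List (ℕ × ℤ)) := twoGauge0 ++ twoGauge1 ++ twoGauge2

/-- part of the combinations -/
def twoCombs0 : List (List (ℕ × ℤ)) :=
  [[(0, 1), (3, 1), (4, 1), (7, 1), (9, 1), (11, 1), (14, 1), (16, 1), (17, 1), (25, 1), (27, 1), (28, 1), (29, 1), (31, 1), (35, 1), (37, 1), (38, 1), (46, 1), (47, 1), (49, 1), (51, 1), (52, 1), (57, 1), (58, 1), (60, 1), (64, 1), (68, 1), (69, 1), (70, 1), (73, 1), (74, 1), (77, 1), (80, 1), (81, 1), (83, 1), (84, 1), (86, 1), (87, 1), (88, 1), (89, 1), (90, 1), (97, 1), (99, 1), (103, 1), (104, 1), (105, 1), (107, 1), (109, 1), (110, 1), (111, 1), (112, 1), (117, 1), (122, 1), (125, 1), (126, 1), (133, 1), (141, 1), (144,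 1), (145, 1), (146, 1), (147, 1), (163, 1), (165, 1), (181, 1)],
    [(2, 1), (3, 1), (4, 1), (5, 1), (6, 1), (7, 1), (9, 1), (11, 1), (13, 1), (14, 1), (16, 1), (20, 1), (21, 1), (23, 1), (25, 1), (29, 1), (33, 1), (34, 1), (38, 1), (43, 1), (52, 1), (62, 1), (65, 1), (66, 1), (67, 1), (75, 1), (80, 1), (82, 1), (86, 1), (88, 1), (90, 1), (94, 1), (97, 1), (98, 1), (103, 1), (104, 1), (105, 1), (109, 1), (145, 1), (153, 1), (154, 1), (163, 1), (164, 1), (165, 1), (174, 1)],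
    [(1, 1), (2, 1), (3, 1), (5, 1), (7, 1), (8, 1), (10, 1), (13, 1), (14, 1), (16, 1), (20, 1), (21, 1), (23, 1), (24, 1), (28, 1), (29, 1), (30, 1), (33, 1), (34, 1), (36, 1), (37, 1), (38, 1), (43, 1), (48, 1), (52, 1), (62, 1), (65, 1), (66, 1), (75, 1), (80, 1), (82, 1), (88, 1), (90, 1), (94, 1), (97, 1), (98, 1), (103, 1), (104, 1), (105, 1), (109, 1), (111, 1), (145, 1), (147, 1), (153, 1), (154, 1), (163, 1), (164, 1)],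
    [(1, 1), (3, 1), (4, 1), (5, 1), (6, 1), (7, 1), (10, 1), (11, 1), (12, 1), (13, 1), (16, 1), (18, 1), (21, 1), (22, 1), (24, 1), (25, 1), (26, 1), (36, 1), (37, 1), (38, 1), (43, 1), (52, 1), (54, 1), (55, 1), (58, 1), (64, 1), (65, 1), (66, 1), (67, 1), (68, 1), (69, 1), (72, 1), (74, 1), (75, 1), (82, 1), (86, 1), (87, 1), (89, 1), (90, 1), (94, 1), (98, 1), (111, 1), (122, 1), (146, 1), (165, 1)],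
    [],
    [(1, 1), (2, 1), (3, 1), (5, 1), (7, 1), (8, 1), (10, 1), (11, 1), (24, 1), (25, 1), (28, 1), (30, 1), (36, 1), (37, 1), (48, 1), (66, 1), (90, 1), (111, 1), (147, 1), (153, 1), (154, 1), (163, 1), (164, 1)],
    [(4, 1), (6, 1), (10, 1), (12, 1), (36, 1), (57, 1), (68, 1), (86, 1), (90, 1)],
    [(3, 1), (7, 1), (8, 1), (9, 1), (12, 1), (14, 1), (18, 1), (20, 1), (22, 1), (23, 1), (24, 1), (26, 1), (29, 1), (33, 1), (34, 1), (36, 1), (37, 1), (54, 1), (55, 1), (58, 1), (62, 1), (64, 1), (66, 1), (69, 1), (72, 1), (74, 1), (80, 1), (87, 1), (88, 1), (89, 1), (90, 1), (97, 1), (103, 1), (104, 1), (105, 1), (109, 1), (111, 1), (122, 1), (145, 1), (146, 1), (153, 1), (154, 1), (163, 1), (164, 1)],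
    [(1, 1), (7, 1), (8, 1), (9, 1), (12, 1), (14, 1), (18, 1), (20, 1), (22, 1), (23, 1), (24, 1), (26, 1), (29, 1), (33, 1), (34, 1), (36, 1), (37, 1), (54, 1), (55, 1), (58, 1), (62, 1), (64, 1), (66, 1), (69, 1), (72, 1), (74, 1), (80, 1), (87, 1), (88, 1), (89, 1), (90, 1), (97, 1), (103, 1), (104, 1), (105, 1), (109, 1), (111, 1), (122, 1), (145, 1), (146, 1), (153, 1), (154, 1), (163, 1), (164, 1)],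
    [(1, 1), (3, 1), (7, 1), (8, 1), (9, 1), (12, 1), (14, 1), (18, 1), (20, 1), (22, 1), (23, 1), (24, 1), (26, 1), (29, 1), (33, 1), (34, 1), (36, 1), (37, 1), (54, 1), (55, 1), (58, 1), (62, 1), (64, 1), (66, 1), (69, 1), (72, 1), (74, 1), (80, 1), (87, 1), (88, 1), (89, 1), (90, 1), (97, 1), (103, 1), (104, 1), (105, 1), (109, 1), (111, 1), (122, 1), (145, 1), (146, 1), (153, 1), (154, 1), (163, 1), (164, 1)],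
    [(0, 1), (1, 1), (2, 1), (3, 1), (5, 1), (10, 1), (11, 1), (13, 1), (16, 1), (18, 1), (21, 1), (22, 1), (24, 1), (25, 1), (26, 1), (37, 1), (38, 1), (43, 1), (52, 1), (54, 1), (55, 1), (57, 1), (58, 1), (64, 1), (65, 1), (67, 1), (68, 1), (69, 1), (72, 1), (74, 1), (75, 1), (82, 1), (86, 1), (87, 1), (89, 1), (90, 1), (94, 1), (98, 1), (111, 1), (122, 1), (146, 1), (164, 1), (165, 1)],
    [(1, 1), (3, 1), (4, 1), (7, 1), (9, 1), (10, 1), (11, 1), (12, 1), (16, 1), (18, 1), (19, 1), (21, 1), (22, 1), (23, 1), (24, 1), (26, 1), (32, 1), (37, 1), (38, 1), (39, 1), (40, 1), (41, 1), (45, 1), (47, 1), (48, 1), (49, 1), (50, 1), (51, 1), (55, 1), (57, 1), (59, 1), (61, 1), (63, 1), (65, 1), (66, 1), (69, 1), (71, 1), (72, 1), (74, 1), (76, 1), (78, 1), (79, 1), (80, 1), (81, 1), (82,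 1), (83, 1), (84, 1), (85, 1), (89, 1), (90, 1), (92, 1), (94, 1), (95, 1), (96, 1), (99, 1), (101, 1), (102, 1), (103, 1), (106, 1), (107, 1), (108, 1), (109, 1), (110, 1), (112, 1), (113, 1), (114, 1), (117, 1), (118, 1), (119, 1), (122, 1), (124, 1), (126, 1), (127, 1), (130, 1), (131, 1), (133, 1), (135, 1), (136, 1), (140, 1), (142, 1), (143, 1), (144, 1), (174, 1), (182, 1), (183, 1), (187, 1)],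
    [],
    [(4, 1), (5, 1), (9, 1), (57, 1), (68, 1), (90, 1), (111, 1)],
    [(1, 1), (2, 1), (5, 1), (6, 1), (9, 1), (10, 1), (13, 1), (14, 1), (16, 1), (20, 1), (21, 1), (23, 1), (24, 1), (28, 1), (29, 1), (30, 1), (33, 1), (34, 1), (36, 1), (38, 1), (43, 1), (48, 1), (52, 1), (62, 1), (65, 1), (67, 1), (75, 1), (80, 1), (82, 1), (88, 1), (94, 1), (97, 1), (98, 1), (103, 1), (104, 1), (105, 1), (109, 1), (145, 1), (147, 1), (163, 1), (164, 1)],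
    [(0, 1), (2, 1), (3, 1), (6, 1), (7, 1), (8, 1), (9, 1), (10, 1), (11, 1), (13, 1), (14, 1), (16, 1), (20, 1), (21, 1), (23, 1), (25, 1), (29, 1), (33, 1), (34, 1), (38, 1), (43, 1), (52, 1), (62, 1), (65, 1), (66, 1), (67, 1), (75, 1), (80, 1), (82, 1), (88, 1), (90, 1), (94, 1), (97, 1), (98, 1), (103, 1), (104, 1), (105, 1), (109, 1), (111, 1), (145, 1), (153, 1), (154, 1), (163, 1), (164, 1)],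
    [],
    [(3, 1), (6, 1), (7, 1), (8, 1), (9, 1), (10, 1), (11, 1), (13, 1), (14, 1), (16, 1), (20, 1), (21, 1), (23, 1), (25, 1), (29, 1), (33, 1), (34, 1), (38, 1), (43, 1), (52, 1), (62, 1), (65, 1), (66, 1), (67, 1), (75, 1), (80, 1), (82, 1), (88, 1), (90, 1), (94, 1), (97, 1), (98, 1), (103, 1), (104, 1), (105, 1), (109, 1), (111, 1), (145, 1), (153, 1), (154, 1), (163, 1), (164, 1)],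
    [(4, 1), (6, 1), (10, 1), (11, 1), (36, 1), (37, 1), (57, 1), (68, 1), (90, 1)],
    [(2, 1), (3, 1), (6, 1), (7, 1), (9, 1), (10, 1), (11, 1), (13, 1), (14, 1), (16, 1), (20, 1), (21, 1), (23, 1), (25, 1), (29, 1), (33, 1), (34, 1), (38, 1), (43, 1), (52, 1), (62, 1), (65, 1), (66, 1), (67, 1), (75, 1), (80, 1), (82, 1), (88, 1), (90, 1), (94, 1), (97, 1), (98, 1), (103, 1), (104, 1), (105, 1), (109, 1), (111, 1), (145, 1), (153, 1), (154, 1), (163, 1), (164, 1)],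
    [(2, 1), (3, 1), (6, 1), (7, 1), (8, 1), (9, 1), (10, 1), (11, 1), (13, 1), (14, 1), (16, 1), (20, 1), (21, 1), (23, 1), (25, 1), (29, 1), (33, 1), (34, 1), (38, 1), (43, 1), (52, 1), (62, 1), (65, 1), (66, 1), (67, 1), (75, 1), (80, 1), (82, 1), (88, 1), (90, 1), (94, 1), (97, 1), (98, 1), (103, 1), (104, 1), (105, 1), (109, 1), (111, 1), (145, 1), (153, 1), (154, 1), (163, 1), (164, 1)],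
    [(4, 1), (6, 1), (36, 1)],
    [(36, 1)],
    [],
    [(5, 1), (6, 1), (36, 1)],
    [(6, 1), (7, 1), (36, 1)],
    [(4, 1), (6, 1), (11, 1), (12, 1), (36, 1), (37, 1), (57, 1), (68, 1)],
    [(6, 1), (36, 1)],
    [(4, 1), (6, 1), (36, 1), (57, 1)],
    [(6, 1), (12, 1), (67, 1)]]

/-- part of the combinations -/
def twoCombs1 : List (List (ℕ × ℤ)) :=
  [[(37, 1)],
    [(9, 1), (11, 1), (37, 1)],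
    [(7, 1), (12, 1), (66, 1)],
    [(10, 1), (11, 1), (37, 1)],
    [(11, 1), (12, 1), (37, 1)],
    [(11, 1), (37, 1)],
    [(13, 1), (14, 1), (15, 1), (16, 1), (17, 1), (18, 1), (19, 1), (22, 1), (25, 1), (26, 1), (27, 1), (28, 1), (29, 1), (31, 1), (39, 1), (40, 1), (41, 1), (44, 1), (45, 1), (46, 1), (47, 1), (50, 1), (51, 1), (53, 1), (54, 1), (56, 1), (58, 1), (59, 1), (60, 1), (61, 1), (71, 1), (73, 1), (76, 1), (78, 1), (80, 1), (81, 1), (82, 1), (83, 1), (87, 1), (88, 1), (89, 1), (91, 1), (94, 1), (96, 1), (98, 1), (99, 1), (101, 1), (102, 1), (103, 1), (104, 1), (105, 1), (107, 1), (109, 1), (112, 1), (116, 1), (117, 1), (120, 1), (122, 1), (124, 1), (125, 1), (131, 1), (133, 1), (137, 1), (160, 1), (162, 1)],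
    [(15, 1), (20, 1), (24, 1), (25, 1), (27, 1), (28, 1), (29, 1), (30, 1), (31, 1), (32, 1), (33, 1), (38, 1), (39, 1), (40, 1), (41, 1), (42, 1), (43, 1), (46, 1), (48, 1), (50, 1), (52, 1), (53, 1), (56, 1), (61, 1), (62, 1), (65, 1), (69, 1), (76, 1), (82, 1), (85, 1), (88, 1), (89, 1), (96, 1), (97, 1), (101, 1), (106, 1), (108, 1), (113, 1), (115, 1), (117, 1), (118, 1), (125, 1), (127, 1), (129, 1), (130, 1), (131, 1), (132, 1), (134, 1), (138, 1), (144, 1), (148, 1), (149, 1), (150, 1)],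
    [],
    [(14, 1), (16, 1), (21, 1), (26, 1), (27, 1), (29, 1), (31, 1), (35, 1), (38, 1), (40, 1), (50, 1), (54, 1), (63, 1), (64, 1), (65, 1), (74, 1), (82, 1), (87, 1), (94, 1), (98, 1), (103, 1), (105, 1), (127, 1), (132, 1)],
    [],
    [(13, 1), (15, 1), (16, 1), (17, 1), (21, 1), (24, 1), (25, 1), (30, 1), (32, 1), (34, 1), (38, 1), (39, 1), (40, 1), (41, 1), (42, 1), (43, 1), (44, 1), (45, 1), (46, 1), (47, 1), (48, 1), (50, 1), (59, 1), (60, 1), (65, 1), (76, 1), (80, 1), (81, 1), (83, 1), (84, 1), (87, 1), (88, 1), (91, 1), (92, 1), (94, 1), (95, 1), (96, 1), (98, 1), (100, 1), (103, 1), (104, 1), (107, 1), (108, 1), (109, 1), (110, 1), (112, 1), (113, 1), (114, 1), (115, 1), (116, 1), (117, 1), (118, 1), (124, 1), (126, 1), (129, 1), (130, 1), (133, 1), (137, 1), (139,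 1), (142, 1), (155, 1), (156, 1), (158, 1), (160, 1), (162, 1)],
    [(14, 1), (16, 1), (20, 1), (21, 1), (23, 1), (31, 1), (34, 1), (44, 1), (46, 1), (47, 1), (50, 1), (54, 1), (58, 1), (61, 1), (62, 1), (64, 1), (65, 1), (71, 1), (72, 1), (74, 1), (80, 1), (81, 1), (82, 1), (83, 1), (87, 1), (88, 1), (91, 1), (92, 1), (94, 1), (96, 1), (98, 1), (99, 1), (101, 1), (102, 1), (103, 1), (107, 1), (108, 1), (119, 1), (129, 1), (130, 1), (134, 1), (136, 1)],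
    [(14, 1), (15, 1), (16, 1), (20, 1), (21, 1), (23, 1), (29, 1), (30, 1), (31, 1), (33, 1), (35, 1), (38, 1), (42, 1), (44, 1), (46, 1), (47, 1), (52, 1), (54, 1), (61, 1), (62, 1), (64, 1), (65, 1), (71, 1), (80, 1), (83, 1), (87, 1), (88, 1), (91, 1), (92, 1), (94, 1), (96, 1), (98, 1), (99, 1), (101, 1), (102, 1), (103, 1), (105, 1), (107, 1), (108, 1), (109, 1), (125, 1), (129, 1), (130, 1), (135, 1)],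
    [(22, 1), (29, 1), (38, 1), (54, 1), (55, 1), (141, 1)],
    [(13, 1), (15, 1), (17, 1), (20, 1), (21, 1), (22, 1), (25, 1), (29, 1), (30, 1), (31, 1), (35, 1), (39, 1), (40, 1), (41, 1), (42, 1), (43, 1), (45, 1), (46, 1), (47, 1), (48, 1), (50, 1), (51, 1), (53, 1), (56, 1), (62, 1), (63, 1), (64, 1), (65, 1), (72, 1), (73, 1), (76, 1), (78, 1), (80, 1), (82, 1), (83, 1), (84, 1), (87, 1), (88, 1), (91, 1), (92, 1), (94, 1), (95, 1), (96, 1), (98, 1), (103, 1), (104, 1), (107, 1), (108, 1), (109, 1), (110, 1), (115, 1), (116, 1), (118, 1), (120, 1), (122, 1), (124, 1), (126, 1), (129, 1), (130, 1), (137, 1), (155, 1), (156, 1), (158, 1), (160, 1), (162, 1)],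
    [(16, 1), (23, 1), (29, 1), (38, 1), (64, 1), (65, 1), (81, 1), (94, 1), (95, 1), (134, 1)],
    [],
    [(20, 1), (21, 1), (22, 1), (24, 1), (25, 1), (27, 1), (28, 1), (29, 1), (34, 1), (35, 1), (38, 1), (40, 1), (43, 1), (44, 1), (47, 1), (48, 1), (51, 1), (53, 1), (56, 1), (61, 1), (62, 1), (71, 1), (72, 1), (74, 1), (77, 1), (81, 1), (83, 1), (87, 1), (89, 1), (91, 1), (92, 1), (93, 1), (95, 1), (96, 1), (98, 1), (99, 1), (101, 1), (102, 1), (107, 1), (109, 1), (119, 1), (123, 1), (125, 1), (129, 1), (134, 1), (135, 1), (136, 1), (138, 1), (140, 1)],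
    [(16, 1), (22, 1), (29, 1), (31, 1), (32, 1), (33, 1), (35, 1), (38, 1), (48, 1), (54, 1), (55, 1), (63, 1), (64, 1), (72, 1), (82, 1), (94, 1), (100, 1), (112, 1), (114, 1), (142, 1)],
    [(19, 1), (20, 1), (24, 1), (32, 1), (33, 1), (34, 1), (44, 1), (48, 1), (50, 1), (51, 1), (53, 1), (56, 1), (73, 1), (82, 1), (83, 1), (85, 1), (100, 1), (113, 1), (115, 1), (120, 1), (144, 1)],
    [(14, 1), (27, 1), (32, 1), (34, 1), (35, 1), (44, 1), (46, 1), (47, 1), (50, 1), (58, 1), (61, 1), (74, 1), (87, 1), (92, 1), (107, 1), (108, 1), (119, 1), (129, 1), (130, 1)],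
    [(14, 1), (15, 1), (18, 1), (20, 1), (21, 1), (22, 1), (25, 1), (26, 1), (29, 1), (31, 1), (35, 1), (38, 1), (43, 1), (54, 1), (55, 1), (62, 1), (63, 1), (80, 1), (83, 1), (84, 1), (88, 1), (96, 1), (98, 1), (103, 1), (124, 1)],
    [(16, 1), (31, 1), (32, 1), (34, 1), (63, 1), (64, 1), (82, 1), (94, 1), (142, 1)],
    [(16, 1), (31, 1), (32, 1), (34, 1), (63, 1), (64, 1), (94, 1), (100, 1), (114, 1), (142, 1)],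
    [(16, 1), (20, 1), (24, 1), (38, 1), (44, 1), (58, 1), (59, 1), (60, 1), (72, 1), (73, 1), (78, 1), (81, 1), (94, 1), (113, 1), (117, 1), (120, 1), (122, 1), (137, 1)],
    [(20, 1), (21, 1), (22, 1), (24, 1), (25, 1), (27, 1), (28, 1), (29, 1), (30, 1), (33, 1), (38, 1), (42, 1), (43, 1), (46, 1), (47, 1), (48, 1), (52, 1), (53, 1), (55, 1), (56, 1), (58, 1), (62, 1), (63, 1), (71, 1), (72, 1), (74, 1), (77, 1), (83, 1), (85, 1), (87, 1), (88, 1), (91, 1), (92, 1), (93, 1), (95, 1), (96, 1), (99, 1), (101, 1), (102, 1), (105, 1), (107, 1), (109, 1), (119, 1), (130, 1), (131, 1), (134, 1), (135, 1), (136, 1), (140, 1)],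
    [(19, 1), (20, 1), (24, 1), (29, 1), (33, 1), (34, 1), (38, 1), (39, 1), (48, 1), (51, 1), (53, 1), (54, 1), (55, 1), (56, 1), (58, 1), (76, 1), (113, 1), (116, 1)],
    [(14, 1), (15, 1), (20, 1), (27, 1), (28, 1), (29, 1), (31, 1), (32, 1), (35, 1), (38, 1), (40, 1), (48, 1), (50, 1), (54, 1), (58, 1), (62, 1), (63, 1), (71, 1), (74, 1), (80, 1), (82, 1), (83, 1), (87, 1), (88, 1), (91, 1), (95, 1), (96, 1), (99, 1), (101, 1), (102, 1), (103, 1), (105, 1), (106, 1), (123, 1)],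
    []]

/-- part of the combinations -/
def twoCombs2 : List (List (ℕ × ℤ)) :=
  [[(20, 1), (22, 1), (24, 1), (32, 1), (33, 1), (34, 1), (35, 1), (44, 1), (48, 1), (50, 1), (53, 1), (56, 1), (62, 1), (82, 1), (83, 1), (85, 1), (100, 1), (113, 1), (115, 1), (144, 1)],
    [(14, 1), (21, 1), (26, 1), (28, 1), (46, 1), (47, 1), (74, 1), (77, 1), (81, 1), (87, 1), (92, 1), (95, 1), (107, 1), (125, 1), (130, 1), (131, 1)],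
    [(14, 1), (29, 1), (33, 1), (34, 1), (38, 1), (48, 1), (54, 1), (93, 1)],
    [(20, 1), (32, 1), (44, 1), (50, 1), (54, 1), (55, 1), (62, 1), (82, 1), (83, 1), (85, 1), (144, 1)],
    [(19, 1), (22, 1), (29, 1), (32, 1), (35, 1), (38, 1), (44, 1), (50, 1), (51, 1), (54, 1), (55, 1), (62, 1), (78, 1), (82, 1), (83, 1), (85, 1), (100, 1), (115, 1), (117, 1), (144, 1)],
    [(29, 1), (32, 1), (38, 1), (44, 1), (50, 1), (54, 1), (55, 1), (82, 1), (83, 1), (85, 1), (100, 1), (115, 1), (144, 1)],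
    [(17, 1), (19, 1), (62, 1), (79, 1)],
    [(21, 1), (22, 1), (26, 1), (27, 1), (28, 1), (30, 1), (32, 1), (35, 1), (42, 1), (44, 1), (46, 1), (49, 1), (50, 1), (51, 1), (55, 1), (58, 1), (81, 1), (89, 1), (108, 1), (125, 1), (129, 1), (130, 1), (131, 1)],
    [(20, 1), (22, 1), (24, 1), (32, 1), (33, 1), (34, 1), (35, 1), (39, 1), (44, 1), (48, 1), (50, 1), (53, 1), (56, 1), (62, 1), (76, 1), (82, 1), (83, 1), (85, 1), (100, 1), (113, 1), (115, 1), (144, 1)],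
    [(14, 1), (22, 1), (26, 1), (33, 1), (34, 1), (54, 1), (55, 1), (58, 1), (74, 1), (87, 1), (95, 1), (108, 1)],
    [(38, 1), (72, 1), (73, 1)],
    [(39, 1)],
    [(44, 1), (46, 1), (77, 1)],
    [(41, 1)],
    [(16, 1), (19, 1), (22, 1), (32, 1), (35, 1), (44, 1), (50, 1), (54, 1), (59, 1), (60, 1), (83, 1), (85, 1), (100, 1), (110, 1), (115, 1), (117, 1), (144, 1)],
    [(16, 1), (29, 1), (38, 1), (78, 1), (82, 1)],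
    [(62, 1), (79, 1)],
    [(19, 1), (62, 1), (79, 1)],
    [(13, 1), (17, 1), (19, 1), (23, 1), (25, 1), (26, 1), (29, 1), (30, 1), (35, 1), (39, 1), (40, 1), (41, 1), (42, 1), (43, 1), (45, 1), (46, 1), (47, 1), (48, 1), (50, 1), (51, 1), (53, 1), (54, 1), (55, 1), (56, 1), (63, 1), (72, 1), (73, 1), (76, 1), (78, 1), (80, 1), (81, 1), (82, 1), (84, 1), (87, 1), (88, 1), (92, 1), (94, 1), (95, 1), (97, 1), (104, 1), (107, 1), (108, 1), (109, 1), (116, 1), (117, 1), (120, 1), (122, 1), (124, 1), (129, 1), (130, 1), (137, 1), (143, 1), (155, 1), (156, 1), (158, 1), (160, 1), (162, 1)],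
    [],
    [(20, 1), (22, 1), (23, 1), (29, 1), (31, 1), (32, 1), (34, 1), (35, 1), (38, 1), (55, 1), (62, 1), (63, 1), (64, 1), (80, 1), (82, 1), (88, 1), (97, 1), (100, 1), (104, 1), (114, 1), (142, 1), (143, 1)],
    [(14, 1), (15, 1), (16, 1), (26, 1), (34, 1), (35, 1), (40, 1), (48, 1), (50, 1), (54, 1), (58, 1), (63, 1), (71, 1), (74, 1), (83, 1), (87, 1), (91, 1), (94, 1), (95, 1), (96, 1), (97, 1), (99, 1), (101, 1), (102, 1), (105, 1), (127, 1)],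
    [(13, 1), (17, 1), (19, 1), (20, 1), (22, 1), (25, 1), (26, 1), (30, 1), (31, 1), (32, 1), (33, 1), (38, 1), (39, 1), (40, 1), (41, 1), (42, 1), (43, 1), (45, 1), (46, 1), (47, 1), (50, 1), (51, 1), (53, 1), (56, 1), (62, 1), (65, 1), (72, 1), (73, 1), (76, 1), (78, 1), (81, 1), (84, 1), (87, 1), (92, 1), (94, 1), (95, 1), (100, 1), (104, 1), (107, 1), (108, 1), (109, 1), (112, 1), (114, 1), (116, 1), (117, 1), (120, 1), (122, 1), (124, 1), (126, 1), (129, 1), (130, 1), (133, 1), (137, 1), (142, 1), (155, 1), (156, 1), (158, 1), (160, 1), (162, 1)],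
    [(24, 1), (29, 1), (58, 1), (72, 1), (122, 1)],
    [(14, 1), (18, 1), (26, 1), (30, 1), (32, 1), (34, 1), (35, 1), (42, 1), (44, 1), (46, 1), (47, 1), (58, 1), (61, 1), (74, 1), (87, 1), (92, 1), (95, 1), (107, 1), (108, 1), (125, 1), (129, 1), (130, 1)],
    [(14, 1), (20, 1), (21, 1), (23, 1), (29, 1), (31, 1), (34, 1), (38, 1), (62, 1), (65, 1), (80, 1), (88, 1), (97, 1), (98, 1), (103, 1), (105, 1), (109, 1)],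
    [(15, 1), (21, 1), (22, 1), (23, 1), (26, 1), (32, 1), (34, 1), (54, 1), (55, 1), (63, 1), (64, 1), (70, 1), (82, 1), (83, 1), (91, 1), (96, 1), (97, 1), (98, 1), (100, 1), (103, 1), (114, 1), (142, 1), (143, 1)],
    [(15, 1), (19, 1), (21, 1), (22, 1), (26, 1), (29, 1), (31, 1), (38, 1), (54, 1), (55, 1), (64, 1), (65, 1), (80, 1), (82, 1), (83, 1), (88, 1), (91, 1), (96, 1), (98, 1), (103, 1), (110, 1), (115, 1), (117, 1), (118, 1)],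
    [(20, 1), (29, 1), (38, 1), (59, 1)],
    [(44, 1), (60, 1)]]

/-- part of the combinations -/
def twoCombs3 : List (List (ℕ × ℤ)) :=
  [[(16, 1), (20, 1), (23, 1), (29, 1), (31, 1), (32, 1), (34, 1), (38, 1), (62, 1), (63, 1), (64, 1), (80, 1), (88, 1), (94, 1), (97, 1), (100, 1), (114, 1), (142, 1), (143, 1)],
    [(26, 1), (27, 1), (29, 1), (33, 1), (38, 1), (48, 1), (50, 1), (95, 1), (107, 1)],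
    [(13, 1), (15, 1), (20, 1), (21, 1), (22, 1), (26, 1), (29, 1), (31, 1), (32, 1), (34, 1), (38, 1), (50, 1), (55, 1), (62, 1), (71, 1), (80, 1), (82, 1), (83, 1), (88, 1), (91, 1), (96, 1), (98, 1), (99, 1), (101, 1), (102, 1), (103, 1)],
    [],
    [(15, 1), (20, 1), (21, 1), (22, 1), (28, 1), (32, 1), (50, 1), (52, 1), (55, 1), (62, 1), (71, 1), (80, 1), (82, 1), (83, 1), (88, 1), (91, 1), (96, 1), (98, 1), (99, 1), (101, 1), (102, 1), (106, 1)],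
    [(14, 1), (18, 1), (22, 1), (26, 1), (29, 1), (30, 1), (32, 1), (33, 1), (38, 1), (42, 1), (44, 1), (45, 1), (46, 1), (47, 1), (48, 1), (54, 1), (55, 1), (58, 1), (61, 1), (74, 1), (87, 1), (92, 1), (107, 1), (108, 1), (129, 1), (130, 1)],
    [(22, 1), (25, 1), (28, 1), (30, 1), (32, 1), (42, 1), (43, 1), (44, 1), (46, 1), (53, 1), (54, 1), (55, 1), (58, 1), (61, 1), (63, 1), (69, 1), (89, 1), (92, 1), (93, 1), (95, 1), (98, 1), (103, 1), (107, 1), (108, 1), (121, 1), (125, 1), (128, 1), (129, 1), (130, 1), (131, 1)],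
    [(45, 1)],
    [(26, 1), (29, 1), (35, 1), (38, 1), (48, 1), (74, 1), (95, 1)],
    [(26, 1), (27, 1), (29, 1), (33, 1), (38, 1), (48, 1), (50, 1), (82, 1), (102, 1)],
    [(20, 1), (21, 1), (22, 1), (26, 1), (29, 1), (31, 1), (32, 1), (34, 1), (38, 1), (50, 1), (55, 1), (62, 1), (71, 1), (80, 1), (82, 1), (83, 1), (88, 1), (91, 1), (96, 1), (98, 1), (99, 1), (101, 1), (102, 1), (103, 1)],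
    [(15, 1), (26, 1), (33, 1), (48, 1), (50, 1), (52, 1), (71, 1), (82, 1), (83, 1), (91, 1), (96, 1), (99, 1), (101, 1), (102, 1)],
    [(49, 1)],
    [(15, 1), (20, 1), (21, 1), (22, 1), (23, 1), (26, 1), (29, 1), (31, 1), (32, 1), (34, 1), (38, 1), (50, 1), (55, 1), (62, 1), (71, 1), (80, 1), (82, 1), (83, 1), (88, 1), (91, 1), (96, 1), (98, 1), (99, 1), (101, 1), (102, 1), (103, 1)],
    [(15, 1), (20, 1), (21, 1), (22, 1), (26, 1), (29, 1), (31, 1), (32, 1), (34, 1), (38, 1), (50, 1), (55, 1), (62, 1), (71, 1), (80, 1), (82, 1), (83, 1), (88, 1), (91, 1), (96, 1), (98, 1), (99, 1), (101, 1), (102, 1), (103, 1)],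
    [(21, 1), (22, 1), (28, 1), (29, 1), (30, 1), (32, 1), (33, 1), (35, 1), (38, 1), (42, 1), (44, 1), (46, 1), (48, 1), (55, 1), (58, 1), (61, 1), (81, 1), (89, 1), (92, 1), (95, 1), (107, 1), (108, 1), (125, 1), (129, 1), (130, 1), (131, 1)],
    [(13, 1), (21, 1), (22, 1), (31, 1), (32, 1), (33, 1), (34, 1), (48, 1), (52, 1), (55, 1), (75, 1), (98, 1), (103, 1)],
    [(22, 1), (33, 1), (34, 1), (35, 1), (40, 1), (48, 1), (54, 1), (55, 1), (58, 1), (105, 1)],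
    [(14, 1), (21, 1), (22, 1), (26, 1), (28, 1), (35, 1), (48, 1), (55, 1), (74, 1), (87, 1), (95, 1), (98, 1)],
    [],
    [(21, 1), (24, 1), (25, 1), (29, 1), (32, 1), (33, 1), (35, 1), (38, 1), (43, 1), (48, 1), (54, 1), (56, 1), (63, 1), (69, 1), (93, 1), (98, 1), (103, 1), (121, 1)],
    [(18, 1), (29, 1), (33, 1), (34, 1), (35, 1), (38, 1), (89, 1), (95, 1)],
    [(21, 1), (22, 1), (25, 1), (32, 1), (34, 1), (55, 1), (69, 1), (98, 1), (103, 1)],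
    [(21, 1), (22, 1), (27, 1), (31, 1), (32, 1), (33, 1), (34, 1), (48, 1), (52, 1), (55, 1), (71, 1), (98, 1), (99, 1), (103, 1)],
    [(15, 1), (20, 1), (21, 1), (22, 1), (29, 1), (31, 1), (32, 1), (33, 1), (34, 1), (38, 1), (48, 1), (55, 1), (62, 1), (80, 1), (88, 1), (96, 1), (98, 1), (103, 1)],
    [(20, 1), (29, 1), (38, 1), (62, 1), (88, 1)],
    [(51, 1), (61, 1)],
    [(20, 1), (21, 1), (22, 1), (23, 1), (29, 1), (31, 1), (32, 1), (33, 1), (34, 1), (38, 1), (48, 1), (55, 1), (62, 1), (80, 1), (88, 1), (97, 1), (98, 1), (103, 1)],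
    [(52, 1)],
    [(21, 1), (22, 1), (31, 1), (32, 1), (33, 1), (34, 1), (48, 1), (55, 1), (98, 1), (103, 1)]]

/-- part of the combinations -/
def twoCombs4 : List (List (ℕ × ℤ)) :=
  [[(46, 1)],
    [(35, 1), (48, 1), (95, 1)],
    [],
    [(14, 1), (26, 1), (33, 1), (34, 1), (35, 1), (74, 1), (87, 1), (95, 1)],
    [(38, 1)],
    [(24, 1), (29, 1), (38, 1)],
    [(18, 1), (29, 1), (38, 1)],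
    [(14, 1), (29, 1), (38, 1)],
    [(15, 1), (20, 1), (21, 1), (22, 1), (26, 1), (29, 1), (31, 1), (33, 1), (34, 1), (38, 1), (48, 1), (55, 1), (62, 1), (80, 1), (83, 1), (88, 1), (91, 1), (96, 1), (98, 1), (103, 1)],
    [(16, 1), (29, 1), (38, 1)],
    [(20, 1), (29, 1), (38, 1)],
    [(44, 1)],
    [(16, 1), (29, 1), (33, 1), (34, 1), (38, 1), (48, 1), (54, 1), (82, 1), (94, 1)],
    [(26, 1), (29, 1), (38, 1)],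
    [(29, 1), (32, 1), (38, 1)],
    [(29, 1), (38, 1)],
    [(46, 1), (47, 1), (81, 1)],
    [],
    [(40, 1)],
    [(21, 1), (22, 1), (55, 1)],
    [(18, 1), (29, 1), (33, 1), (34, 1), (48, 1), (72, 1), (84, 1)],
    [(53, 1)],
    [(42, 1)],
    [(43, 1)],
    [(15, 1), (20, 1), (21, 1), (26, 1), (27, 1), (35, 1), (52, 1), (54, 1), (62, 1), (80, 1), (83, 1), (88, 1), (91, 1), (96, 1), (98, 1), (99, 1), (100, 1), (103, 1)],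
    [(16, 1), (26, 1), (33, 1), (34, 1), (48, 1), (82, 1), (83, 1)],
    [(29, 1), (32, 1), (33, 1), (34, 1), (38, 1), (48, 1), (62, 1), (85, 1)],
    [(55, 1)],
    [(54, 1), (64, 1)],
    [(50, 1)]]

/-- part of the combinations -/
def twoCombs5 : List (List (ℕ × ℤ)) :=
  [[(31, 1), (33, 1), (48, 1), (63, 1)],
    [(54, 1)],
    [(22, 1), (55, 1)],
    [(47, 1)],
    [(48, 1)],
    [(40, 1), (58, 1)],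
    [(28, 1), (33, 1), (48, 1)],
    [(18, 1), (29, 1), (33, 1), (34, 1), (38, 1), (48, 1), (84, 1)],
    [(56, 1)],
    [(30, 1), (33, 1), (48, 1)],
    [(25, 1), (33, 1), (48, 1)],
    [(27, 1), (31, 1), (52, 1), (99, 1)],
    [(26, 1), (29, 1), (33, 1), (34, 1), (38, 1), (48, 1), (83, 1)],
    [(29, 1), (32, 1), (33, 1), (34, 1), (38, 1), (48, 1), (85, 1)],
    [(51, 1)],
    [(33, 1), (34, 1), (48, 1), (65, 1)],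
    [(27, 1), (33, 1), (48, 1)],
    [(31, 1), (33, 1), (48, 1)],
    [(33, 1), (34, 1), (48, 1)],
    [(33, 1), (35, 1), (48, 1)],
    [(33, 1), (48, 1)]]

/-- the combinations -/
def twoCombs : List (List (ℕ × ℤ)) := twoCombs0 ++ twoCombs1 ++ twoCombs2 ++ twoCombs3 ++ twoCombs4 ++ twoCombs5

/-- part of the representatives -/
def twoLvlW0_0 : List (List (List ℕ)) :=
  [[[], [1, 7], [0, 1, 6], [0, 1, 2, 6], [0, 1], [7], [3, 6], [1, 3], [1, 2, 3, 6], [3], [1, 3, 6], [0, 1, 3, 7], [0, 1, 7], [0, 6], [3, 8], [1, 3, 7], [1, 3, 7, 8], [1, 2, 6], [0, 1, 3], [3, 7, 8], [2, 6], [0], [3, 7], [0, 2, 6], [1, 6], [6], [0, 3, 7], [0, 3], [1], [2, 3, 6], [0, 7], [1, 3, 8]]]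

/-- the representatives -/
def twoLvlW0_ : List (List (List ℕ)) := twoLvlW0_0

/-- a level -/
def twoLvl0 : Lvl where
  b := 0
  k := 32
  wd := twoLvlW0_
  pos := [1979843491217503774458292681211781731819834799438108089201713041581823081197187560926064273440385523844794061240953692668633827121501665364650249067811387066292348778933839764735583579713354496218172821367138071915278609571094989880722604167848686818214426842963080907122350060039201878678647472363121918941322770370941744589349602563096345176851038687361778255474955693579971339287024518685912024118212662035830081243831346504648535806688094459008409759950263266580502051727501648190636855183180534949357320401909752117089970758214813458606803985489977876490113610766009945413761771392465056512373583001368245850811857952911048141955628648460039183150444632103205679404697140588877240873907934569560620184333197398035539827663671414318622161830637167951593093900514945027210110636533551896244129836908609431874934402045479241064997436209784274119801502232028018563962509649558350305025678049804288,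 982090539092153084933572462887864023818672444649263207074122344694146987815773021702398264824379139326288211390272250487180247370361158873116789089704131623740918781589214723405630475924336962503027101161523881624637952831418497590710741342900818898050621471449040385394258976854111649962291071876796258880790717886094419728113549300524133091708881379742891699774437932317175810357474573342718278656004901493954813648652157111074828034663143969839382528, 4453640296134472504018760608844622224585705440420887320765848529995857425889128400131561502655013056967670426053705513717303378148676491018771857567683002091030612116049334071018943897716029241714471321576392202003074433042803825939509245019110436842990048890900404672523786941410244469624341561536397937927364651588352539004320714507119985904422698962397886570327808525649677765214412523978694900126116831454297599153363747523240145296874343672411030814720,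 0, 0, 0, 0, 0, 0]

/-- part of the representatives -/
def twoLvlW1_0 : List (List (List ℕ)) :=
  [[[2, 4, 5, 15], [2, 4, 5, 9, 14], [4, 10, 14], [2, 4, 5, 14], [2, 5, 9, 14], [2, 5, 15], [4, 9, 12], [2, 5, 11], [2, 5, 9, 10], [5, 9], [2, 4, 9, 10], [2, 5, 14], [4, 9, 11], [4, 5], [4, 5, 10], [4, 15], [2, 4, 5, 10, 14], [2, 5, 12], [2, 5, 10], [2, 4, 5, 10, 12], [2, 5, 10, 12], [4, 12], [2, 4], [9, 12], [15], [4, 11], [0, 4, 8, 9], [4, 10, 11], [2, 4, 5, 9, 10], [9, 11], [0, 9, 13], [9, 14], [2, 10], [10], [2, 4, 5, 9], [0, 8, 10], [], [5, 15], [0, 16], [4, 8, 13], [2, 5, 9], [2, 4, 5, 8, 13], [2, 5, 10, 11], [5, 11], [4, 9, 10], [2, 4, 5, 10], [2, 5, 9, 12], [2, 10, 12], [5, 10], [2, 5, 8, 13], [2, 9, 11], [9], [2, 4, 10, 12], [10, 14], [2, 10, 11], [0, 13], [10, 12], [2, 4, 9, 11],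 [0, 4, 9, 13], [2, 4, 5, 12], [0, 4, 8], [2, 9, 10], [2, 4, 5, 11], [0, 2, 5, 13]],
    [[2, 5, 9, 11], [2, 4, 12], [8, 13], [4, 5, 10, 14], [2, 4, 5, 9, 12], [0, 4, 13], [2, 4, 10, 14], [0, 8, 9], [14], [9, 10], [2, 4, 5], [2, 9], [2, 12], [2, 5], [2, 9, 12], [0, 4, 8, 10], [4, 5, 9], [2, 4, 10], [4, 9, 14], [4, 10, 12], [4, 5, 15], [2, 4, 9], [4, 14], [5, 9, 11], [2, 14], [5, 9, 12], [2, 4, 5, 9, 11], [5, 10, 14], [5], [2, 4, 5, 10, 11], [12, 15], [12], [11], [10, 11], [4, 10], [2, 11], [2, 4, 15], [0, 2, 4, 13], [5, 9, 10], [2, 15], [0, 4, 16], [4, 5, 12], [0, 2, 13], [0, 2, 4, 5, 13], [2, 4, 11], [2, 9, 14], [4, 5, 9, 12], [2, 4, 10, 11], [5, 12], [4], [2, 10, 14], [4, 5, 9, 10], [4, 5, 11], [2, 8, 13], [2, 4, 9, 12], [2, 4, 9, 14], [2], [2, 5, 10, 14], [4, 5, 9, 11], [4, 9], [0,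 8], [2, 4, 14], [2, 4, 8, 13], [4, 12, 15]]]

/-- the representatives -/
def twoLvlW1_ : List (List (List ℕ)) := twoLvlW1_0

/-- a level -/
def twoLvl1 : Lvl where
  b := 571
  k := 128
  wd := twoLvlW1_
  pos := [90702539157094847220809968185268409463876615635013116347803014331592716053359057982196525231108036635110755241490474381751290937881609093916067329219463535006339979455051978155573736082578378021681360778127182940990314933368060451433461252869446860880398374534405258195406700245086095820139069072509659147982389703312131103351227880323196849367309243855778974234537922745022334415009307653727242215506850274295684942363813577738487856509697015055113403983387510677936517301668448851405691699576663068561737743353396964831126355724314508548213665203628548591736235147741399047052968715295911243882134373956584883850980246321364174957468044400816761861222955773749861319824823200031805249798819983426449469502006724710250675328080285817705625538672856079992681869891840851619506381836332506623860958018483574575774989123227445161578894711361103338278818853838258667283093242795602119738283180140781532050620416,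 41827885353477984015672999651409585497784272455052346336048012991441999220898880258696608320968127424070396701571139401919629043584696342148334108438479680455376012191055652523634930932093093545816495434930649776208612899114213387814641129747505277004536144980871660172892438086358429116938855210184717445128383895004128290523751972633301151129000316258015735730889028633288505836771806604969385324863624764762117229160427606317887866660440252127529407598506699528378328827390184417975233698765509501884447316601185270878060171641557688250219191228406336653387095538848019655139470865611867888079167940568170566188548655308936034649267370116242898559393389709494617830822735260842278924681963153321992318413635715851185385462709034167217564705400058246962169225667879700524939103243837869380695079203587458597195820272944030317899364275752289562112249479307693797865319910715232805743096448665262378450944,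 7819624817847950137683563899194031746550106614077602503320205330452284355706400445778413805763861094245904884592326300028089225171876494279519822750127533876200839052028506805316389920909374230764274516207175066272646458902392030836527232386527285939375605134003027284058931329594371419874274145746737507278422789122798205286161046644220157415203219547611361770430128840832147296660780359377321057444236631085588391867031651165183006452627496648826738056247900288725833010746462120050818242307156971436583890654160662334071578168038743291926406764206190466738800281266983407088910022099815235990435277388071765720862001455728044998827095075415258591242551620551798863320133293979480662864816760650012993516681166949779883735935564762293541258358781372790333585904728400215899709621763201795062474497207821937650157535405954564096,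 50574118507619811023819059007626803586297799153895421822976158236944693507062045011384878227122578434481908144307924594944025103009093456273170859586369851655056239741821478312079709098843825984097991147232049090796507786809633802960368181243860047477584766813652520389257748633625787682056159279167544778886106055502067992795699827777329449710260989146796996500680285463627053346045406705030943592069727402540521681556867253499319270587311550855264266623505408455704718221825314881922946569672196597506981886592172115298008425973971783486110899259813071798523157121537728991723940396220465420662179023578347080574968302172012080495509678565551478430347280768718504919197743164678978702154280592285723183417887008681724384819828828781529382553112266633653764053484174578853798908475666550825001108360623830816193734067812740498255823055442896549314560,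 1396373990116511992537730656267183019982995521676974455909762855655347614781123265922041686883462387012397996763331790789250891197827982977372432190119606651594299052014062116888286215021335450043458892067535701697688337962826604956917013301407164435329767147311612987267089521806038270359372947880576763678830612041015149716623084318634729923653539826214604862955231305397193777649982658900819548983897019587335317521244244490600117466745911923219682841352157893585690395462200803716092159209520462262598004920356322524363498167974489115556022348274012545423066276937888157736199226804048888785674636554960705069003836909248997514444754078363073740967213241372776015082774274475509133866158514359679275923660470142254963210979630320368580954099982912002374561566186784985078095699243888641452223939801082685309187422914823159836015062631726186612014192771227450739273446038692490450990624931840,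 21917918038762350994317204784870971996561261415354877745474306492025487827444628099184466876995978853156783198953836618318269283276221801297457144639794330919699811998523371084741214640936999891545778152223900779826349858189759606951909066638448146530770073880783607667708726557673344238120880746414546086529387266138686215185559522407793451324604451357395954467561405801659232866250426615349682474835140375767863188002902909562821985735339330702575815853785994298887024683015104513364328214434321781115401978341333136046831414875410781556779769902842293705276815991606266930302585199206759815665851172928067967504023002203833049174826119221848588194380028749018706042139846379181359642754985430679261150322913755530132133316656012673220651801550117843306686644692837717240686591439838649791262681591814225427628438130859555177312928361480411818079629535300668096512,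 3815700577047483734043730391192385409994082739790547767402782373168502138331812496446459097616872084820962885331791195069129896972826937052009419154940922776375795129350106062499287554747930212712897726404595843305328955143589425344874521290120485809876754034569035756148001257920786513427537517449388581863235556145871862635354845361018694840751840133728501415111875410204462137998172147764790936426332804651126881069636877127375524379625559000434003211255894347635302973433952840817245433434751513869075138326757249077650217401120553212455708358198181084972264074483137078029818707880819596675960729177689923656085562827733235584601183948482182617451502373773816494525554884755883870489824912832806199917813735033028692725999164915662561445571499497030928447484932978566050969620629746435069538342816186368,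 599644564427460378848688123002607817696344541704183904727968235697284055403281172262642378762442579427301468611405581528500417779386816111120914864143526738760161210732205929525232065555243775619413092481995919693903064295478750844613780802161405447957216026645351701018334313266526719308176713849413910715963605994378935294635498165674084478255112157376160088815819460847912990514962896497236837737307144201808258739666869320899087165577368673983536635762842181016044020606172472071611335489504323425963840009267023999485137285084457268857091646276067879825307684510208779726740026936903546594504327320276044277534995502214711054549710588363634409071253850352696131648179219848855587299795813061888854074302135599423881917938941194245473845227025155737274703168578464851461531364462332301589304609956888951805632406653359580902582236552250483116972110273499136950856534864205841342056762005135714496903381099,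 21588964171014992771430709026035696343736163912779467780905784281900872025534317729168060685371080607721809153011260770738822204089504079662539165446326289174128250578866142028581242898436558446756574156975414664273009365525925782230719182388233477827717652875137901679944213049601117662940042296372467523827047530328984785672428530338237212769860708607719999122605824750616700272995671866081036815754443927222928973559208934583645633872573908510118900017984281867283548741831910222995808886263450048122075658823119259231956985559281618347764395426706193542319004192036712609992569100184544653407026632372533543507507400088964930143923751013371412196344670529044057378517490067818995595026517969213896095682773325543858864330073289308279751456161257799515408705972362004061567778294350210122641396372997729971547200883857836474368]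

/-- part of the representatives -/
def twoLvlW2_0 : List (List (List ℕ)) :=
  [[[0, 5, 8, 9, 10], [0, 5, 12, 13], [0, 5, 8, 13, 16], [13, 14, 15, 16], [8, 14, 17], [0, 5, 12, 14, 15, 16], [8, 11, 14, 16], [8, 9, 10, 12, 13], [8, 9, 10, 11, 12, 13, 16, 17], [12, 14, 16, 17], [9, 10, 14, 15], [11, 12, 14], [], [8, 11, 13, 15], [11, 12, 13, 15, 16], [8, 9, 10, 12, 14, 15, 16], [8, 12, 16], [0, 5, 11, 15, 16], [12, 13, 15, 17], [8, 9, 10, 11, 15, 16], [8, 9, 10, 13, 14, 16, 17], [8, 12, 13, 14, 15], [0, 5, 8, 9, 10, 11, 12, 14], [11, 13, 14, 15, 17], [0, 5, 8, 11, 12, 13, 14, 16], [0, 5, 13, 14, 16, 17], [9, 10, 13, 16], [8, 11, 12, 17], [0, 5, 15, 17], [0, 5, 11, 13, 14], [11, 16, 17], [8, 9, 10, 11, 13, 14]]]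

/-- the representatives -/
def twoLvlW2_ : List (List (List ℕ)) := twoLvlW2_0

/-- a level -/
def twoLvl2 : Lvl where
  b := 1115
  k := 32
  wd := twoLvlW2_
  pos := [0, 4123840244154018075442589696694300704576259884982844186428295121933995647015270635608790452730066951502349188634762511981032705893751518742390078355394711072535566100068474902918270258369243807017433585899710956257943334918741314248977507274497878620448926801819539051335147145556041270051245554233326443968096876041217314952427345902011781850848553227098012984612879643845503220047504036995258267968446024786601953111142335650292576934743141727164196250260439205798135748813201354608735603435368789387709761687900151308371339622698491054490760630865596011279404218341653353877961458106473419866429106224809081540908053113695165419928664925417022607589376,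 287977385038461767199868181539005232016300859790173380752845201794260473204755157436520993084368637845019850765412240154297423797598073910690009823648500911203290201394002902374661245181153252538734514825806816799190046843290869624474037208926571004173438073981397909549569121835511333834719421854853301925962871376001384012133920128413661401293137633765549490959635024690269413815616436602046784382525283781370269864188472189919307082010540611706238690009076390331079093658042789476861295608740056601358560360101296568426159463981691668152513362775475492913996650685869364388799595956287390103042436795676485597474707706800876834711332658164169839956780065028690826734371385069072920893259038663908951855949739880165087171695420382051061106815511988209870054497488624084783252221516657017674750802882723840,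 636014996847200980302065985695812353977809678110959685512883408044136071233128598124515046409929027418955844013674882770134759285264106871943053769546544740646830793437869756360659449205862266722091843250046478680275482473997351916442520552294941161327809748642418166487388052214544501119078564268484869064723499519630035009965091158786147490257154146228889589221444387212477767738283487611019299045183878552583085276376852315094404048179793957068592505463056043859883991301072810562773261588257104858480272110033221042986338298090634416965644919810343520674684144358180971724876776984291389979077694045756197004801439882767448990018390560492155554941887847793808249990669646333207448230096998288293402886881438889485579373266915927295862148805970295321156996015697685850802864526354856113847256430708044160977023475074908274772871127655820495704772621075377613680129534899257344,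 2708434952257342444822669651912077385186531873215529202754361364407908325168657896739137482744325741131658573308356293647654939229243785699053074791087967260691712038168196030453478406472601868026115597897401096498475712316116256817047937196836143646765966254958261815110827944934807869244725848522716503389316668799762601709261509149437246369385227874827965682604314576866309916618457117819637668419847952128081309480759899526097319333389821686780967182435072872290756112067896802045917643514778690652362284084291801756627324541312092398595112493257547734314235923869738220882462215421346794213063317915466937203665455166575573048435398520452607037845995153538626355200, 16474867508551653099818275152712606158640016903082547429296333326325032766819517530116100714810048642774446278693831013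07783239991510236353350518894550541306651710850225046969998831261242779396333928840658053336688366919467532254566708081720066877159646047843996143327657896588891291419563409335142587244118805386294640108121517199177226990724753173763104808308087849167946974177056201108144176212017411513068313777918762731254394089286283633853438483449404449039963526913413783395859885381873702877491186094888663462571409014257503228259360507177104506145996800, 26332361605872212894824508398440449908863234494094858179387791577931482341286347611971197420121223347721741972779622903264539361336555945079008072225214797950969268444730150567986856501510619045763889118312848444845824783060953717619558321524700654537636628527984350640848163168408172383068941774914962987864307590851046422936496935671336011903529724307169019927082617349543423140952222004137746713567732762712782750749437092472661488493713421824234872162403553989015647423645731906359885597226229782944771288718703988412992661759841587558080227854068957902698882677040888191835569735382566372654281946442795261217885770715212025016353749328491191929118073404500835711768475891372641168191051601806964891320320,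 14667178731682596629245943555528666286090540664146906969490745521356133118637719560130405898288820841066880190472677565528147068747465689719137681255645747482182346228355983732886518433088898114158395969250068881752118935297504992338508225608876436707186339868983908087328356520862434775975650874726206522179446596254219847040543150328175435835461576533046008944028635961672116588855213444014271101374007571480297667933345607592336049138141406578020205987457867996351275194908661339568785739637549161927547532150847425985222515510113458891606010229800292383836350967638012266184417398714448653695639809428710222196839199137898744333735184291438863381691018407006392882644820822755032626519291270108428744120160888022213202746389419663777349254944558438388231175490220895142802828637220219069136896,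 48756869590846561353671984749844421459374533668398920107894257547613813776002663466450960130320498567392603945238903062871210297450231590887629972663135251363510376047764144162420416783741116070364253043974939281905091719170848809213062007542221620074041024650280064093624480315647499132082768943854639113574452397169600972616873893347110046476289470782732299956409979008981287680073813188322680155631670906880]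

/-- part of the representatives -/
def twoLvlW3_0 : List (List (List ℕ)) :=
  [[[0, 5, 9, 10, 11, 12, 17], []]]

/-- the representatives -/
def twoLvlW3_ : List (List (List ℕ)) := twoLvlW3_0

/-- a level -/
def twoLvl3 : Lvl where
  b := 1305
  k := 2
  wd := twoLvlW3_
  pos := [0, 0, 0, 0, 0, 2037035976334486086268445688409378161051468393665936250636140449354381299763336706183397376, 0, 0, 0]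

/-- part of the representatives -/
def twoLvlW4_0 : List (List (List ℕ)) :=
  [[[]]]

/-- the representatives -/
def twoLvlW4_ : List (List (List ℕ)) := twoLvlW4_0

/-- a level -/
def twoLvl4 : Lvl where
  b := 1437
  k := 1
  wd := twoLvlW4_
  pos := [0, 0, 0, 0, 0, 0, 0, 0, 0]

/-- part of the representatives -/
def twoLvlW5_0 : List (List (List ℕ)) :=
  [[[]]]

/-- the representatives -/
def twoLvlW5_ : List (List (List ℕ)) := twoLvlW5_0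

/-- a level -/
def twoLvl5 : Lvl where
  b := 599
  k := 1
  wd := twoLvlW5_
  pos := [0, 0, 0, 0, 0, 0, 0, 0, 0]

/-- the chain -/
def twoChain : List Lvl := [twoLvl0, twoLvl1, twoLvl2, twoLvl3, twoLvl4, twoLvl5]

/-- the certificate -/
def twoCert : Cert where
  p := 2
  n := 18
  ng := 26
  M := 171
  rels := twoRels
  eqs := twoEqs
  vecs := twoVecs
  gauge := twoGauge
  combs := twoCombs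

end Cfsg.Agent.Lie.ConwayTwoMult
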