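import Cfsg.Agent.Lib.Lie.ConwayTwoMult.TwoData

/-!
A share of the combinations at the prime two for the multiplier of the second Conway group.
-/

set_option autoImplicit false
set_option maxRecDepth 100000
set_option Elab.async false

namespace Cfsg.Agent.Lie.ConwayTwoMult

open CentralRewrite

theorem two_kill0 : ((List.range' 0 19).all fun b =>
    killOK twoCert.p twoCert.rels.length twoCert.ng twoCert.rels twoCert.gauge twoCert.vecs twoCert.combs b) = true := by
  decide +kernel

theorem two_kill1 : ((List.range' 19 19).all fun b =>
    killOK twoCert.p twoCert.rels.length twoCert.ng twoCert.rels twoCert.gauge twoCert.vecs twoCert.combs b) = true := by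
  decide +kernel

theorem two_kill2 : ((List.range' 38 19).all fun b =>
    killOK twoCert.p twoCert.rels.length twoCert.ng twoCert.rels twoCert.gauge twoCert.vecs twoCert.combs b) = true := by
  decide +kernel

end Cfsg.Agent.Lie.ConwayTwoMult
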