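import Cfsg.Agent.Lib.Lie.ConwayTwoMult.Defs
import Cfsg.Agent.Lib.Lie.ConwayTwoMult.TwoData
import Cfsg.Agent.Lib.Lie.ConwayTwoMult.TwoKill0
import Cfsg.Agent.Lib.Lie.ConwayTwoMult.TwoKill1
import Cfsg.Agent.Lib.Lie.ConwayTwoMult.TwoKill2

/-!
The checks for the part at one prime (two) of the multiplier of the second Conway group.
-/

set_option autoImplicit false
set_option maxRecDepth 100000
set_option Elab.async false

namespace Cfsg.Agent.Lie.ConwayTwoMult

open ConwayTwoOut OutTables PermTable CentralRewrite

theorem two_letters : lettersOK twoW = true := by decide +kernel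

theorem two_rels : twoCert.rels.all (relOK twoW) = true := by decide +kernel

theorem two_chain : chainOK (genTab twoW) data.N twoCert.n twoChain [] = true := by decide +kernel

theorem two_series : seriesOK twoCert.p twoCert.n twoCert.M twoCert.rels = true := by decide +kernel

theorem two_pairs :
    (List.range twoCert.eqs.length).all (fun i => pairOK twoCert.rels (twoCert.eqs.getD i ([], [], []))) = true := by
  decide +kernel

theorem two_vec : vecOK twoCert.p twoCert.rels.length twoCert.eqs twoCert.vecs = true := by decide +kernel

theorem two_valid : twoCert.Valid where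
  series := two_series
  pairs := two_pairs
  vec := two_vec
  veclen := by decide +kernel
  letters := by decide +kernel
  gaugeOK := by decide +kernel
  nng := by decide +kernel
  kill := fun b hb => by
    change b < 171 at hb
    obtain ⟨j, hj, h1, h2⟩ : ∃ j < 9, 19 * j ≤ b ∧ b < 19 * j + 19 := ⟨b / 19, by omega, by omega, by omega⟩
    interval_cases j
    · exact List.all_eq_true.1 two_kill0 b (List.mem_range'_1.2 ⟨by omega, by omega⟩)
    · exact List.all_eq_true.1 two_kill1 b (List.mem_range'_1.2 ⟨by omega, by omega⟩)
    · exact List.all_eq_true.1 two_kill2 b (List.mem_range'_1.2 ⟨by omega, by omega⟩)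
    · exact List.all_eq_true.1 two_kill3 b (List.mem_range'_1.2 ⟨by omega, by omega⟩)
    · exact List.all_eq_true.1 two_kill4 b (List.mem_range'_1.2 ⟨by omega, by omega⟩)
    · exact List.all_eq_true.1 two_kill5 b (List.mem_range'_1.2 ⟨by omega, by omega⟩)
    · exact List.all_eq_true.1 two_kill6 b (List.mem_range'_1.2 ⟨by omega, by omega⟩)
    · exact List.all_eq_true.1 two_kill7 b (List.mem_range'_1.2 ⟨by omega, by omega⟩)
    · exact List.all_eq_true.1 two_kill8 b (List.mem_range'_1.2 ⟨by omega, by omega⟩)

end Cfsg.Agent.Lie.ConwayTwoMult
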